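import Groth.Agent.L07.BvdB.Abstract
import Mathlib.CategoryTheory.Adjunction.Basic
import Mathlib.CategoryTheory.Shift.CommShift

/-! Transport of finite total Hom along linear functors. -/

universe w v u v' u'
open CategoryTheory

set_option backward.isDefEq.respectTransparency false
set_option linter.unusedSectionVars false
namespace Groth.L07.BvdB

variable {k : Type w} [Field k] {D : Type u} [Category.{v} D] [Preadditive D] [Linear k D]
  [HasShift D ℤ] {D' : Type u'} [Category.{v'} D'] [Preadditive D'] [Linear k D'] [HasShift D' ℤ]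

theorem Fin'.of_left_iso {X X' K : D} (h : Fin' k X K) (e : X ≅ X') : Fin' k X' K := by
  refine ⟨fun m => ?_, h.2.subset fun m hm => ?_⟩
  · have := h.1 m
    exact Module.Finite.equiv (Linear.homCongr k e (Iso.refl _))
  · exact (Linear.homCongr k e (Iso.refl _)).toEquiv.nontrivial_congr.2 hm

/-- Reflect along a fully faithful linear functor. -/
theorem Fin'.of_functor (F : D ⥤ D') [F.CommShift ℤ] [F.Additive] [F.Linear k] [F.Full] [F.Faithful] {X K : D}
    (h : Fin' k (F.obj X) (F.obj K)) : Fin' k X K := by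
  let e : ∀ m : ℤ, (X ⟶ K⟦m⟧) ≃ₗ[k] (F.obj X ⟶ (F.obj K)⟦m⟧) := fun m =>
    (LinearEquiv.ofBijective (F.mapLinearMap k : (X ⟶ K⟦m⟧) →ₗ[k] _)
        ((Functor.FullyFaithful.ofFullyFaithful F).map_bijective _ _)).trans
      (Linear.homCongr k (Iso.refl _) ((F.commShiftIso m).app K))
  refine ⟨fun m => ?_, h.2.subset fun m hm => ?_⟩
  · have := h.1 m
    exact Module.Finite.equiv (e m).symm
  · exact (e m).toEquiv.nontrivial_congr.1 hm

/-- Across an adjunction with linear shift-commuting right adjoint. -/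
theorem Fin'.of_adj {L : D' ⥤ D} {R : D ⥤ D'} (adj : L ⊣ R) [R.Additive] [R.Linear k]
    (he : ∀ (K : D) (m : ℤ), Nonempty (R.obj (K⟦m⟧) ≅ (R.obj K)⟦m⟧))
    {X : D'} {K : D} (h : Fin' k (L.obj X) K) : Fin' k X (R.obj K) := by
  have e : ∀ m : ℤ, Nonempty ((L.obj X ⟶ K⟦m⟧) ≃ₗ[k] (X ⟶ (R.obj K)⟦m⟧)) := fun m => by
    obtain ⟨i⟩ := he K m
    let e₁ : (L.obj X ⟶ K⟦m⟧) ≃ₗ[k] (X ⟶ R.obj (K⟦m⟧)) :=
      { adj.homEquiv X (K⟦m⟧) with
        map_add' := fun a b => by simp [Adjunction.homEquiv_unit]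
        map_smul' := fun r a => by simp [Adjunction.homEquiv_unit] }
    exact ⟨e₁.trans (Linear.homCongr k (Iso.refl _) i)⟩
  refine ⟨fun m => ?_, h.2.subset fun m hm => ?_⟩
  · obtain ⟨e⟩ := e m
    have := h.1 m
    exact Module.Finite.equiv e
  · obtain ⟨e⟩ := e m
    exact e.toEquiv.nontrivial_congr.2 hm

end Groth.L07.BvdB
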