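import Groth.Agent.L07.BvdB.Proj
import Groth.Agent.L29.DCoh.FibreLocus
import Groth.Agent.L29.BCAdj.ScalarPush
import Groth.Agent.Lead.ClosedRpush
import Groth.Agent.L22.ExtSh.TwistDual

/-! The finiteness criterion on closed subschemes of projective space, with perfect test objects. -/

set_option autoImplicit false
set_option linter.style.haveILetI false
set_option linter.unusedSectionVars false
set_option backward.defeqAttrib.useBackward true
set_option backward.isDefEq.respectTransparency false
set_option backward.isDefEq.respectTransparency.types false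

universe u
open CategoryTheory CategoryTheory.Limits CategoryTheory.Pretriangulated AlgebraicGeometry
attribute [local instance] HasDerivedCategory.standard

noncomputable section

namespace Groth.L07.BvdB

open Groth.L29.DC Groth.L29.DC.Gen

theorem nonempty_Lpull_inD {Y U : Scheme.{u}} (f : Y ⟶ U) [DCoh.HasLpull f] (M : U.Modules)
    (hM : FlatMod.IsFinLocFree M) :
    Nonempty ((DCoh.Lpull f).obj (DCoh.inD U M) ≅ DCoh.inD Y ((Scheme.Modules.pullback f).obj M)) := by
  have hS : DCoh.IsStrictlyPerfect ((HomologicalComplex.single U.Modules (ComplexShape.up ℤ) 0).obj M) := by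
    refine ⟨⟨0, 0, fun l hl => HomologicalComplex.isZero_single_obj_X (ComplexShape.up ℤ) 0 _ l (by omega)⟩,
      fun l => ?_⟩
    rcases eq_or_ne l 0 with rfl | hl
    · exact Groth.L29.LocFree.of_iso (HomologicalComplex.singleObjXSelf (ComplexShape.up ℤ) 0 _).symm hM
    · exact Groth.L29.LocFree.of_isZero (HomologicalComplex.isZero_single_obj_X (ComplexShape.up ℤ) 0 _ l hl)
  exact ⟨(DCoh.Lpull f).mapIso ((DerivedCategory.singleFunctorIsoCompQ _ 0).app _) ≪≫
    Groth.L00.DerivedApi.objIso (Groth.L00.DerivedApi.acyclicKFlat_pullback f) _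
      (isKFlat_of_isStrictlyPerfect hS) ≪≫
    DerivedCategory.Q.mapIso
      ((HomologicalComplex.singleMapHomologicalComplex (Scheme.Modules.pullback f) (ComplexShape.up ℤ) 0).app _) ≪≫
    ((DerivedCategory.singleFunctorIsoCompQ _ 0).app _).symm⟩

variable {n : ℕ} {k : Type u} [Field k] {X : Scheme.{u}} [X.Over (Spec (CommRingCat.of k))]

attribute [local instance] projOver

/-- The test objects. -/
abbrev test (i : X ⟶ CohB1.ProjSpace n k) (d : ℕ) : DCoh.D X :=
  DCoh.inD X ((Scheme.Modules.pullback i).obj (Twist.twistProjSpace n k (-(d : ℤ))))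

theorem isPerfect_test (i : X ⟶ CohB1.ProjSpace n k) (d : ℕ) : DCoh.IsPerfect (test i d) := by
  haveI := Groth.L00.KFlat.hasLpull i
  obtain ⟨e⟩ := nonempty_Lpull_inD i _ (Groth.Lead.PCProj.hfl n k (-(d : ℤ)))
  exact isPerfect_of_iso e (isPerfect_Lpull i (Groth.Lead.PCProj.isPerfect_inD (Groth.Lead.PCProj.hfl n k _)))

section
variable (i : X ⟶ CohB1.ProjSpace n k) (hi : i ≫ CohB1.ProjSpace.toSpec n k = X ↘ Spec (CommRingCat.of k))

include hi in
theorem Rpush_linear [DCoh.HasRpush i] : (DCoh.Rpush i).Linear k where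
  map_smul {K L} v r := Groth.L29.BCAdj.Rpush_smul (RingHom.id k) i (by
    rw [CommRingCat.ofHom_id, Spec.map_id, Category.comp_id]
    exact hi) r v

include hi in
theorem fin_Rpush [IsClosedImmersion i] [DCoh.HasRpush i] (K : DCoh.D X) (d : ℕ)
    (h : Fin' k (test i d) K) :
    Fin' k (DCoh.inD (CohB1.ProjSpace n k) (Twist.twistProjSpace n k (-(d : ℤ)))) ((DCoh.Rpush i).obj K) := by
  haveI := Groth.L00.KFlat.hasLpull i
  obtain ⟨e⟩ := nonempty_Lpull_inD i _ (Groth.Lead.PCProj.hfl n k (-(d : ℤ)))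
  letI := commShiftRpush i
  haveI : (DCoh.Rpush i).Additive := RpushColim.additive_Rpush i
  haveI := Rpush_linear i hi
  exact Fin'.of_adj (Groth.L29.BC.adj i) (fun K m => ⟨((DCoh.Rpush i).commShiftIso m).app K⟩) (h.of_left_iso e.symm)

include hi in
/-- The criterion on a closed subscheme of projective space. -/
theorem cohb_of_fin_closed [IsClosedImmersion i] (K : DCoh.D X) (hK : DCoh.IsQCohD K)
    (h : ∀ d : ℕ, d ≤ n → Fin' k (test i d) K) : SGA6.cohbP X K := by
  haveI := isLocallyNoetherian_proj n k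
  haveI : IsLocallyNoetherian X := LocallyOfFiniteType.isLocallyNoetherian i
  haveI := RpushQC.hasRpush i
  obtain ⟨hc, a, b, ha, hb⟩ := cohb_of_fin n k ((DCoh.Rpush i).obj K) (RpushQC.isQCohD_Rpush i K hK)
    fun d hd => fin_Rpush i hi K d (h d hd)
  obtain ⟨eP⟩ := Groth.Lead.ClosedRpush.nonempty_Rpush_iso_pD i K
  refine ⟨fun j => ?_, a, b, ?_, ?_⟩
  · obtain ⟨e⟩ := ClosedPC.nonempty_HD_iso i K j
    exact Groth.L22.ExtSh.isCoh_of_push i (Groth.L16.CohSupport.isCoh_of_iso
      ((DerivedCategory.homologyFunctor _ j).mapIso eP ≪≫ e) (hc j))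
  · rw [DerivedCategory.isGE_iff]
    intro j hj
    exact (ClosedPC.isZero_HD_iff i K j).1
      (((DerivedCategory.isGE_iff _ _).1 ha j hj).of_iso ((DerivedCategory.homologyFunctor _ j).mapIso eP).symm)
  · rw [DerivedCategory.isLE_iff]
    intro j hj
    exact (ClosedPC.isZero_HD_iff i K j).1
      (((DerivedCategory.isLE_iff _ _).1 hb j hj).of_iso ((DerivedCategory.homologyFunctor _ j).mapIso eP).symm)

end

end Groth.L07.BvdB
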