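import Groth.Agent.L07.BvdB.DualHom
import Groth.Agent.L07.BvdB.Transfer
import Groth.Agent.L29.BC.ProjQC
import Groth.Agent.L29.DCoh.Gen.RpushTri
import Groth.Agent.L29.K.CohSupp
import Groth.Agent.S1005
import Groth.Prelude.Def_Models

/-! Finite total Hom from perfect objects is inherited by pullback along proper maps over a regular target. -/

set_option autoImplicit false
set_option linter.style.haveILetI false
set_option backward.defeqAttrib.useBackward true
set_option backward.isDefEq.respectTransparency false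
set_option backward.isDefEq.respectTransparency.types false

universe u
open CategoryTheory CategoryTheory.Limits AlgebraicGeometry
attribute [local instance] HasDerivedCategory.standard

noncomputable section

namespace Groth.L07.BvdB.RegFin

open Groth.L00 Groth.L29 Groth.L29.DC Groth.L29.BCAdj

variable {k : Type u} [Field k] {X Z : Scheme.{u}} [X.Over (Spec (CommRingCat.of k))]
  [Z.Over (Spec (CommRingCat.of k))] (p : Z ⟶ X) [IsProper p] [IsLocallyNoetherian X] [CompactSpace X]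

theorem isPerfect_Rpush [DCoh.HasRpush p] (hreg : ∀ x : X, IsRegularLocalRing (X.presheaf.stalk x))
    {E : DCoh.D Z} (hE : DCoh.IsPerfect E) : DCoh.IsPerfect ((DCoh.Rpush p).obj E) := by
  haveI : IsLocallyNoetherian Z := LocallyOfFiniteType.isLocallyNoetherian p
  haveI : CompactSpace Z := QuasiCompact.compactSpace_of_compactSpace p
  obtain ⟨a, b, ha, hb⟩ := CohSupp.exists_bounds_of_perfect hE
  haveI := ha
  haveI := hb
  have hc := CohSupp.isCohD_of_perfect hE
  have hs : ∀ i : ℤ, ClSub.IsProperOver p (CohB1.support (DCoh.HD E i)) := fun i =>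
    ⟨Groth.L16.CohSupport.isClosed_support _ (hc i).2, inferInstance⟩
  obtain ⟨b', hb'⟩ := RpushCoh.exists_isLE p b (b + 1 - a).toNat E
    (DerivedCategory.TStructure.t.isGE_of_ge E _ a (by omega)) hb hc hs
  haveI := hb'
  haveI := RpushQC.isGE_Rpush p E a
  exact Groth.Agent.S1005.result X hreg _ a b' (RpushCoh.isCohD_Rpush p E a hc hs)

/-- The criterion passes to pullbacks. -/
theorem fin_Lpull (hp : p ≫ (X ↘ Spec (CommRingCat.of k)) = Z ↘ Spec (CommRingCat.of k))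
    (hreg : ∀ x : X, IsRegularLocalRing (X.presheaf.stalk x))
    (K : DCoh.D X) (hK : DCoh.IsQCohD K) (h : ∀ E : DCoh.D X, DCoh.IsPerfect E → Fin' k E K)
    (F : DCoh.D Z) (hF : DCoh.IsPerfect F) [DCoh.HasLpull p] : Fin' k F ((DCoh.Lpull p).obj K) := by
  haveI := RpushQC.hasRpush p
  obtain ⟨D, hD, hDp, hDhom⟩ := DualHom.exists_dual (k := k) F hF
  haveI := KFlat.hasLTensorCx D
  obtain ⟨D₂, E, hD₂, ⟨g⟩, hE, hEhom⟩ :=
    DualHom.exists_predual (k := k) _ (isPerfect_Rpush p hreg hDp)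
  haveI := KFlat.hasLTensorCx D₂
  haveI : (DCoh.Rpush p).Additive := RpushColim.additive_Rpush p
  haveI : (DCoh.Rpush p).Linear k :=
    ⟨fun v r => Groth.L29.BCAdj.Rpush_smul (RingHom.id k) p (by
      rw [CommRingCat.ofHom_id, Spec.map_id, Category.comp_id]; exact hp) r v⟩
  have key : ∀ M : DCoh.D X, DCoh.IsQCohD M → Nonempty ((F ⟶ (DCoh.Lpull p).obj M) ≃ₗ[k] (E ⟶ M)) := by
    intro M hM
    obtain ⟨M', hM', ⟨eM'⟩⟩ := DualHom.exists_kflat_rep M
    obtain ⟨M'', hM'', ⟨eM''⟩⟩ := DualHom.exists_kflat_rep ((DCoh.Lpull p).obj (DCoh.toD X M'))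
    haveI := KFlat.hasLTensorCx M'
    haveI := KFlat.hasLTensorCx M''
    obtain ⟨a⟩ := hDhom ((DCoh.Lpull p).obj M)
    obtain ⟨b⟩ := hEhom M
    obtain ⟨s₁⟩ := DualHom.nonempty_lt_swap hD hM''
    obtain ⟨s₂⟩ := DualHom.nonempty_lt_swap hM' hD₂
    obtain ⟨π⟩ := BC.ProjQC.nonempty_projection p (DCoh.toD Z D) (PCQCoh.isQCohD_of_perfect hDp) M'
      (isQCohD_of_iso eM'.symm hM) M'' ⟨eM''⟩
    obtain ⟨o⟩ := nonempty_Lpull_OD p
    let i₁ : (DCoh.LTensorCx D).obj ((DCoh.Lpull p).obj M) ≅ (DCoh.LTensorCx M'').obj (DCoh.toD Z D) :=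
      (DCoh.LTensorCx D).mapIso ((DCoh.Lpull p).mapIso eM'.symm ≪≫ eM''.symm) ≪≫ s₁
    let i₂ : (DCoh.Rpush p).obj ((DCoh.LTensorCx M'').obj (DCoh.toD Z D)) ≅ (DCoh.LTensorCx D₂).obj M :=
      π.symm ≪≫ (DCoh.LTensorCx M').mapIso g.symm ≪≫ s₂ ≪≫ (DCoh.LTensorCx D₂).mapIso eM'
    let c : ((DCoh.Lpull p).obj (OD X) ⟶ (DCoh.LTensorCx M'').obj (DCoh.toD Z D)) ≃ₗ[k]
        (OD X ⟶ (DCoh.Rpush p).obj ((DCoh.LTensorCx M'').obj (DCoh.toD Z D))) :=
      { (Groth.L29.BC.adj p).homEquiv _ _ with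
        map_add' := fun u v => by simp [Adjunction.homEquiv_unit]
        map_smul' := fun r u => by simp [Adjunction.homEquiv_unit] }
    exact ⟨a.trans ((Linear.homCongr k o.symm i₁).trans (c.trans ((Linear.homCongr k (Iso.refl _) i₂).trans b.symm)))⟩
  letI := BC.commShiftLpull p
  have e : ∀ m : ℤ, Nonempty ((F ⟶ ((DCoh.Lpull p).obj K)⟦m⟧) ≃ₗ[k] (E ⟶ K⟦m⟧)) := fun m => by
    obtain ⟨e⟩ := key (K⟦m⟧) (Gen.isQCohD_shift hK m)
    exact ⟨(Linear.homCongr k (Iso.refl F) (((DCoh.Lpull p).commShiftIso m).app K).symm).trans e⟩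
  refine ⟨fun m => ?_, (h E hE).2.subset fun m hm => ?_⟩
  · obtain ⟨e⟩ := e m
    have := (h E hE).1 m
    exact Module.Finite.equiv e.symm
  · obtain ⟨e⟩ := e m
    exact e.toEquiv.nontrivial_congr.1 hm

end Groth.L07.BvdB.RegFin
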