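import Groth.Agent.L07.BvdB.RegModel
import Groth.Agent.L07.BvdB.RegFin
import Groth.Agent.L29.DCoh.RpushRestrict
import Groth.Agent.L29.DCoh.QCohLocal
import Groth.Agent.L29.DCoh.RHomCoh

/-! Finite total Hom from perfect objects detects perfect objects on a regular proper scheme over a field. -/

set_option autoImplicit false
set_option linter.style.haveILetI false
set_option backward.defeqAttrib.useBackward true
set_option backward.isDefEq.respectTransparency false
set_option backward.isDefEq.respectTransparency.types false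

universe u
open CategoryTheory CategoryTheory.Limits AlgebraicGeometry
attribute [local instance] HasDerivedCategory.standard

noncomputable section

namespace Groth.L07.BvdB.RegCrit

open Groth.L00 Groth.L29.DC Groth.L29.DC.Gen

variable {k : Type u} [Field k] {X : Scheme.{u}} [X.Over (Spec (CommRingCat.of k))]
  [IsProper (X ↘ Spec (CommRingCat.of k))]

attribute [local instance] projOver

omit [IsProper (X ↘ Spec (CommRingCat.of k))] in
theorem regular_opens (hreg : ∀ x : X, IsRegularLocalRing (X.presheaf.stalk x)) (U : X.Opens) (x : U.toScheme) :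
    IsRegularLocalRing (U.toScheme.presheaf.stalk x) := by
  haveI : IsRegularLocalRing (X.presheaf.stalk x.1) := hreg x.1
  exact IsRegularLocalRing.of_ringEquiv (U.stalkIso x).commRingCatIsoToRingEquiv.symm

theorem isPerfect_restrict_of_fin (hreg : ∀ x : X, IsRegularLocalRing (X.presheaf.stalk x))
    (K : DCoh.D X) (hK : DCoh.IsQCohD K) (h : ∀ E : DCoh.D X, DCoh.IsPerfect E → Fin' k E K)
    (U : X.Opens) (hU : IsAffineOpen U) : DCoh.IsPerfect ((DCoh.restrictD U.ι).obj K) := by
  obtain ⟨n, Z, p, q, V, j, i, hp, hq, w, hi, hiq, hjp, hj, hr⟩ := RegModel.exists_model (k := k) U hU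
  haveI : IsLocallyNoetherian X := LocallyOfFiniteType.isLocallyNoetherian (X ↘ Spec (CommRingCat.of k))
  haveI : CompactSpace X := QuasiCompact.compactSpace_of_compactSpace (X ↘ Spec (CommRingCat.of k))
  haveI := isLocallyNoetherian_proj n k
  letI : Z.Over (Spec (CommRingCat.of k)) := ⟨p ≫ (X ↘ Spec (CommRingCat.of k))⟩
  haveI := KFlat.hasLpull p
  haveI := KFlat.hasLpull q
  haveI := RpushQC.hasRpush q
  haveI := RpushQC.hasRpush i
  letI := commShiftRpush q
  haveI : (DCoh.Rpush q).Additive := RpushColim.additive_Rpush q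
  haveI : (DCoh.Rpush q).Linear k :=
    ⟨fun v r => Groth.L29.BCAdj.Rpush_smul (RingHom.id k) q (by
      rw [CommRingCat.ofHom_id, Spec.map_id, Category.comp_id]; exact w.symm) r v⟩
  obtain ⟨hc, a, b, ha, hb⟩ := cohb_of_fin n k ((DCoh.Rpush q).obj ((DCoh.Lpull p).obj K))
    (RpushQC.isQCohD_Rpush q _ (isQCohD_Lpull p hK)) fun d _ =>
      Fin'.of_adj (Groth.L29.BC.adj q) (fun K m => ⟨((DCoh.Rpush q).commShiftIso m).app K⟩)
        (RegFin.fin_Lpull p rfl hreg K hK h _
          (isPerfect_Lpull q (Groth.Lead.PCProj.isPerfect_inD (Groth.Lead.PCProj.hfl n k _))))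
  haveI := ExtZero.preservesFiniteLimits V.ι
  haveI := ExtZero.preservesFiniteLimits j
  obtain ⟨e⟩ := RpushRes.nonempty_iso q V.ι j i (by rwa [Scheme.Opens.opensRange_ι]) hiq
  haveI := KFlat.hasLpull j
  haveI := KFlat.hasLpull (j ≫ p)
  haveI := KFlat.hasLpull U.ι
  obtain ⟨e₁⟩ := nonempty_Lpull_iso_restrictD j ((DCoh.Lpull p).obj K)
  obtain ⟨e₂⟩ := DerivedApi.lpull_comp j p
  obtain ⟨e₃⟩ := nonempty_Lpull_iso_restrictD U.ι K
  let M := (DCoh.restrictD U.ι).obj K
  let eM : (DCoh.restrictD V.ι).obj ((DCoh.Rpush q).obj ((DCoh.Lpull p).obj K)) ≅ (DCoh.Rpush i).obj M :=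
    e.app ((DCoh.Lpull p).obj K) ≪≫
      (DCoh.Rpush i).mapIso (e₁.symm ≪≫ e₂.app K ≪≫ eqToIso (by congr 2) ≪≫ e₃)
  obtain ⟨eP⟩ := Groth.Lead.ClosedRpush.nonempty_Rpush_iso_pD i M
  have hz : ∀ l : ℤ, IsZero (DCoh.HD ((DCoh.Rpush q).obj ((DCoh.Lpull p).obj K)) l) →
      IsZero (DCoh.HD M l) := fun l hl =>
    (ClosedPC.isZero_HD_iff i M l).1
      ((((Scheme.Modules.restrictFunctor V.ι).map_isZero hl).of_iso (HDResIso V.ι _ l)).of_iso
        ((DerivedCategory.homologyFunctor _ l).mapIso (eP.symm ≪≫ eM.symm)))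
  have hMc : DCoh.IsCohD M := fun l => by
    obtain ⟨eh⟩ := ClosedPC.nonempty_HD_iso i M l
    exact Groth.L22.ExtSh.isCoh_of_push i (Groth.L16.CohSupport.isCoh_of_iso
      ((HDResIso V.ι _ l).symm ≪≫ (DerivedCategory.homologyFunctor _ l).mapIso (eM ≪≫ eP) ≪≫ eh)
      (RHomC.isCoh_restrict V.ι (hc l)))
  haveI : IsLocallyNoetherian U.toScheme := LocallyOfFiniteType.isLocallyNoetherian U.ι
  haveI : M.IsGE a := by
    rw [DerivedCategory.isGE_iff]
    exact fun l hl => hz l ((DerivedCategory.isGE_iff _ _).1 ha l hl)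
  haveI : M.IsLE b := by
    rw [DerivedCategory.isLE_iff]
    exact fun l hl => hz l ((DerivedCategory.isLE_iff _ _).1 hb l hl)
  exact Groth.Agent.S1005.result U.toScheme (regular_opens hreg U) M a b hMc

/-- Objects with finite total Hom from all perfect objects are perfect. -/
theorem isPerfect_of_fin (hreg : ∀ x : X, IsRegularLocalRing (X.presheaf.stalk x))
    (K : DCoh.D X) (hK : DCoh.IsQCohD K) (h : ∀ E : DCoh.D X, DCoh.IsPerfect E → Fin' k E K) :
    DCoh.IsPerfect K :=
  EvalMain.isPerfect_of_local fun y => by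
    obtain ⟨_, ⟨U, hU, rfl⟩, hy, -⟩ :=
      X.isBasis_affineOpens.exists_subset_of_mem_open (Set.mem_univ y) isOpen_univ
    exact ⟨U, hy, isPerfect_restrict_of_fin hreg K hK h U hU⟩

/-- They are in particular bounded coherent. -/
theorem cohb_of_fin (hreg : ∀ x : X, IsRegularLocalRing (X.presheaf.stalk x))
    (K : DCoh.D X) (hK : DCoh.IsQCohD K) (h : ∀ E : DCoh.D X, DCoh.IsPerfect E → Fin' k E K) :
    SGA6.cohbP X K := by
  haveI : IsLocallyNoetherian X := LocallyOfFiniteType.isLocallyNoetherian (X ↘ Spec (CommRingCat.of k))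
  haveI : CompactSpace X := QuasiCompact.compactSpace_of_compactSpace (X ↘ Spec (CommRingCat.of k))
  have hp := isPerfect_of_fin hreg K hK h
  obtain ⟨a, b, ha, hb⟩ := Groth.L29.CohSupp.exists_bounds_of_perfect hp
  exact ⟨Groth.L29.CohSupp.isCohD_of_perfect hp, a, b, ha, hb⟩

end Groth.L07.BvdB.RegCrit
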