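import Groth.Agent.L07.CompRep.Rel
import Groth.Agent.L29.DCoh.Gen.QAdj
import Groth.Agent.L29.DCoh.Gen.PerfBuilt
import Groth.Prelude.Def_KLin
import Groth.Prelude.Def_SGA6

/-! Cohomological functors of finite type on perfect objects are represented in `D_QCoh`. -/

set_option autoImplicit false
set_option linter.style.haveILetI false
set_option linter.unusedSectionVars false
set_option backward.defeqAttrib.useBackward true
set_option backward.isDefEq.respectTransparency false
set_option backward.isDefEq.respectTransparency.types false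

universe u
open CategoryTheory CategoryTheory.Limits CategoryTheory.Pretriangulated AlgebraicGeometry Opposite DirectSum
open scoped Classical
attribute [local instance] HasDerivedCategory.standard

noncomputable section

namespace Groth.L07.BvdB

open Groth.L29.DC Groth.L29.DC.Gen

variable {k : Type u} [Field k] {X : Scheme.{u}} [CompactSpace X] [QuasiSeparatedSpace X]
  [X.Over (Spec (CommRingCat.of k))]

theorem built_le {G Y : DCoh.D X} (hY : Groth.L29.Thick.Built G Y) :
    ∃ Y', (ObjectProperty.ofObj fun _ : PUnit.{u + 1} => G).triangEnvelope Y' ∧ Nonempty (Y ≅ Y') := by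
  let S := ObjectProperty.ofObj fun _ : PUnit.{u + 1} => G
  have hG : S G := ObjectProperty.ofObj_apply _ PUnit.unit
  haveI : S.Nonempty := ObjectProperty.nonempty_of_prop hG
  have hiso : S.triangEnvelope.IsClosedUnderIsomorphisms := inferInstance
  refine ⟨Y, ?_, ⟨Iso.refl Y⟩⟩
  induction hY with
  | gen n => exact ObjectProperty.le_shift S.triangEnvelope n _ (S.le_triangEnvelope _ hG)
  | zero h =>
    obtain ⟨Z, hZ, hZ'⟩ := ObjectProperty.exists_prop_of_containsZero S.triangEnvelope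
    exact S.triangEnvelope.prop_of_iso (hZ.iso h) hZ'
  | ext T hT _ _ h₁ h₃ => exact S.triangEnvelope.ext_of_isTriangulatedClosed₂ T hT h₁ h₃
  | iso e _ h => exact S.triangEnvelope.prop_of_iso e h

theorem essentiallySmall_perf : ObjectProperty.EssentiallySmall.{u} (SGA6.perfP X) := by
  haveI := locallySmall_D X
  obtain ⟨G, hG, hgen⟩ := exists_perfect_generator X
  have := Groth.L07.CompRep.essentiallySmall_triangEnvelope.{u}
    (ObjectProperty.ofObj fun _ : PUnit.{u + 1} => G)
  refine ObjectProperty.EssentiallySmall.of_le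
    (Q := (ObjectProperty.ofObj fun _ : PUnit.{u + 1} => G).triangEnvelope) fun A hA => ?_
  obtain ⟨Y, hY, ⟨r⟩⟩ := exists_retract_of_generator hG (fun E hE h => hgen E hE h) hA
  obtain ⟨Y', hY', ⟨e⟩⟩ := built_le hY
  exact ObjectProperty.prop_of_retract _ (r.trans { i := e.hom, r := e.inv }) hY'

theorem exists_perfect_family :
    ∃ E : ULift.{u} ℤ → DCoh.DQCoh X,
      (∀ K : DCoh.DQCoh X, ¬ IsZero K → ∃ (i : ULift.{u} ℤ) (f : E i ⟶ K), f ≠ 0) ∧
      ∀ [HasCoproducts.{u} (DCoh.DQCoh X)] [HasColimitsOfShape (Discrete ℕ) (DCoh.DQCoh X)],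
        Groth.L29.Brown.Perfect E := by
  obtain ⟨P, hP, hgen⟩ := exists_perfect_generator X
  refine ⟨fun m => ⟨P⟦m.down⟧, isQCohD_shift (PCQCoh.isQCohD_of_perfect hP) _⟩, fun K hK => ?_, fun {_} {_} K m α => ?_⟩
  · by_contra h
    push Not at h
    refine hK ?_
    have h0 : IsZero K.obj := hgen _ K.property fun n φ =>
      congrArg (·.hom) (h ⟨n⟩ (ObjectProperty.homMk φ))
    exact (IsZero.iff_id_eq_zero _).2 (ObjectProperty.hom_ext _ (h0.eq_of_src _ _))
  · let Y : ULift.{u} ℕ → DCoh.DQCoh X := fun n => K n.down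
    haveI := hasCoproducts_D X (ULift.{u} ℕ)
    haveI := preservesCoproducts_ι (X := X) (ULift.{u} ℕ)
    let E : ULift.{u} ℤ → DCoh.DQCoh X := fun m => ⟨P⟦m.down⟧, isQCohD_shift (PCQCoh.isQCohD_of_perfect hP) _⟩
    let θ : (∐ K) ⟶ ∐ Y := Sigma.desc fun n => Sigma.ι Y ⟨n⟩
    let θ' : (∐ Y) ⟶ ∐ K := Sigma.desc fun n => Sigma.ι K n.down
    have hθ : θ ≫ θ' = 𝟙 _ := Sigma.hom_ext _ _ fun n => by simp [θ, θ']
    let ι' := (DCoh.IsQCohD (X := X)).ι
    obtain ⟨x, hx⟩ := (Cpt.bijective_homSum_rel (fun n => (Y n).obj) (fun {_} φ =>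
      Cpt.isFin_qcoh (perfect_shift hP m.down) _
        (fun i => isQCohD_of_iso (DerivedCategory.Q.objObjPreimageIso (Y i).obj).symm (Y i).property) φ)).surjective
      ((α ≫ θ).hom ≫ inv (sigmaComparison ι' Y))
    refine ⟨fun _ => m, fun n => ObjectProperty.homMk (x ⟨n⟩),
      ∑ n ∈ DFinsupp.support x, Sigma.ι (fun _ : ℕ => E m) n.down, ?_⟩
    have h1 : α ≫ θ = ∑ n ∈ DFinsupp.support x, (ObjectProperty.homMk (x n) : E m ⟶ Y n) ≫ Sigma.ι Y n := by
      apply ι'.map_injective
      rw [Functor.map_sum, ← cancel_mono (inv (sigmaComparison ι' Y))]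
      refine hx.symm.trans ?_
      conv_lhs => rw [← DirectSum.sum_support_of x, map_sum]
      rw [Preadditive.sum_comp]
      refine Finset.sum_congr rfl fun n _ => ?_
      change (DirectSum.toAddMonoid fun i => Preadditive.rightComp (P⟦m.down⟧) (Sigma.ι (fun n => (Y n).obj) i))
        (DirectSum.of _ n (x n)) = _
      rw [DirectSum.toAddMonoid_of, IsIso.eq_comp_inv, Functor.map_comp]
      refine (Category.assoc _ _ _).trans (congrArg (x n ≫ ·) ?_)
      exact ι_comp_sigmaComparison ι' Y n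
    calc α = (α ≫ θ) ≫ θ' := by rw [Category.assoc, hθ, Category.comp_id]
      _ = _ := by
        rw [h1, Preadditive.sum_comp, Preadditive.sum_comp]
        refine Finset.sum_congr rfl fun n _ => ?_
        simp [θ', E]

theorem small_of_finite (V : ModuleCat.{u + 1} k) [Module.Finite k V] : Small.{u} V := by
  obtain ⟨m, f, hf⟩ := Module.Finite.exists_fin' k V
  exact small_of_surjective hf

/-- Representability in `D_QCoh`. -/
theorem exists_representing_perf [(SGA6.perfP X).IsTriangulated]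
    (H : ((SGA6.perfP X).FullSubcategory)ᵒᵖ ⥤ ModuleCat.{u + 1} k) [H.Additive]
    (hlin : ∀ (A B : (SGA6.perfP X).FullSubcategory) (r : k) (f : A ⟶ B), H.map (r • f).op = r • H.map f.op)
    (hcoh : ∀ T ∈ distTriang (DCoh.D X), ∀ (h₁ : DCoh.IsPerfect T.obj₁)
      (h₂ : DCoh.IsPerfect T.obj₂) (h₃ : DCoh.IsPerfect T.obj₃)
      (y : H.obj (op ⟨T.obj₂, h₂⟩)),
      H.map (ObjectProperty.homMk T.mor₁ : (⟨T.obj₁, h₁⟩ : (SGA6.perfP X).FullSubcategory) ⟶ ⟨T.obj₂, h₂⟩).op y = 0 →
        ∃ z : H.obj (op ⟨T.obj₃, h₃⟩),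
          H.map (ObjectProperty.homMk T.mor₂ : (⟨T.obj₂, h₂⟩ : (SGA6.perfP X).FullSubcategory) ⟶ ⟨T.obj₃, h₃⟩).op z = y)
    (hfin : ∀ A : (SGA6.perfP X).FullSubcategory, Module.Finite k (H.obj (op A))) :
    ∃ K : DCoh.D X, DCoh.IsQCohD K ∧
      Nonempty (H ≅ (ObjectProperty.ι (SGA6.perfP X)).op ⋙ (linearYoneda k (DCoh.D X)).obj K) := by
  haveI := locallySmall_D X
  haveI : HasCoproducts.{u} (DCoh.D X) := hasCoproducts_D X
  haveI : HasCoproducts.{u} (DCoh.DQCoh X) := hasCoproducts_DQ X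
  haveI : HasColimitsOfShape (Discrete ℕ) (DCoh.DQCoh X) :=
    hasColimitsOfShape_of_equivalence (Discrete.equivalence (Equiv.ulift.{u} : ULift.{u} ℕ ≃ ℕ))
  haveI := essentiallySmall_perf (X := X)
  haveI : (SGA6.perfP X).IsClosedUnderIsomorphisms := ⟨fun e h => isPerfect_of_iso e h⟩
  haveI : ∀ A : (SGA6.perfP X).FullSubcategory, Small.{u} (H.obj (op A)) := fun A =>
    haveI := hfin A; small_of_finite _
  obtain ⟨E, hgen, hperf⟩ := exists_perfect_family (X := X)
  refine Groth.L07.CompRep.exists_representing_rel.{u} (Q := DCoh.IsQCohD) H hcoh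
    (fun A hA => PCQCoh.isQCohD_of_perfect hA) hlin hfin (fun A κ F hF => ?_) E hgen hperf fun Z => inferInstance
  have hb := Cpt.bijective_homSum_rel (K := A.obj) F (fun {_} φ => Cpt.isFin_qcoh A.property _
    (fun i => isQCohD_of_iso (DerivedCategory.Q.objObjPreimageIso (F i)).symm (hF i)) φ)
  refine ⟨AddEquiv.ofBijective _ hb, fun j c => ?_⟩
  change (DirectSum.toAddMonoid fun i => Preadditive.rightComp A.obj (Sigma.ι F i)) (DirectSum.of _ j c) = _
  rw [DirectSum.toAddMonoid_of]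
  rfl

end Groth.L07.BvdB
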