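import Groth.Agent.L07.BvdB.DualFun
import Groth.Agent.S6742
import Groth.Prelude.Def_SGA6

/-! Duality is a k-linear anti-equivalence of perfect objects on a proper scheme over a field. -/

set_option autoImplicit false
set_option linter.style.haveILetI false
set_option backward.defeqAttrib.useBackward true
set_option backward.isDefEq.respectTransparency false
set_option backward.isDefEq.respectTransparency.types false

universe u
open CategoryTheory CategoryTheory.Limits AlgebraicGeometry Opposite
attribute [local instance] HasDerivedCategory.standard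

noncomputable section

namespace Groth.L07.BvdB.DualPerf

open Groth.L07.BvdB.DualFun

variable {X : Scheme.{u}}

/-- Duality on perfect objects. -/
def dualP : ((SGA6.perfP X).FullSubcategory)ᵒᵖ ⥤ (SGA6.perfP X).FullSubcategory where
  obj A := ⟨dual A.unop.obj, isPerfect_dual A.unop.property⟩
  map f := ObjectProperty.homMk (dualMap f.unop.hom)
  map_id A := ObjectProperty.hom_ext _ (dualMap_id A.unop.obj)
  map_comp f g := ObjectProperty.hom_ext _ (dualMap_comp g.unop.hom f.unop.hom)

instance : (dualP (X := X)).Additive where
  map_add {_ _ f g} := ObjectProperty.hom_ext _ (dualMap_add f.unop.hom g.unop.hom)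

instance : (dualP (X := X)).Faithful where
  map_injective {A B f g} h := by
    apply Quiver.Hom.unop_inj
    apply ObjectProperty.hom_ext
    have hd : dualMap f.unop.hom = dualMap g.unop.hom := by
      have h' := congrArg InducedCategory.Hom.hom h
      exact h'
    obtain ⟨e⟩ := nonempty_bidual A.unop.property
    have key' : ∀ z : A.unop.obj ⟶ dual (dual A.unop.obj), f.unop.hom ≫ z = g.unop.hom ≫ z := fun z => by
      obtain ⟨x, rfl⟩ := (theta (dual A.unop.obj) A.unop.obj).surjective z
      rw [← theta_dualMap, ← theta_dualMap, hd]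
    exact (cancel_mono e.inv).1 (key' e.inv)

instance : (dualP (X := X)).EssSurj where
  mem_essImage B := by
    obtain ⟨e⟩ := nonempty_bidual B.property
    exact ⟨op ⟨dual B.obj, isPerfect_dual B.property⟩, ⟨ObjectProperty.isoMk _ e⟩⟩

theorem full_dualP {k : Type u} [Field k] [X.Over (Spec (CommRingCat.of k))]
    [IsProper (X ↘ Spec (CommRingCat.of k))] : (dualP (X := X)).Full where
  map_surjective {A B} g := by
    haveI : IsLocallyNoetherian X := LocallyOfFiniteType.isLocallyNoetherian (X ↘ Spec (CommRingCat.of k))
    haveI : CompactSpace X := QuasiCompact.compactSpace_of_compactSpace (X ↘ Spec (CommRingCat.of k))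
    let L : (B.unop.obj ⟶ A.unop.obj) →ₗ[k] (dual A.unop.obj ⟶ dual B.unop.obj) :=
      { toFun := fun f => dualMap f
        map_add' := fun f g => dualMap_add f g
        map_smul' := fun r f => dualMap_smul r f }
    have hcoh : SGA6.cohbP X A.unop.obj := by
      obtain ⟨a, b, ha, hb⟩ := Groth.L29.CohSupp.exists_bounds_of_perfect A.unop.property
      exact ⟨Groth.L29.CohSupp.isCohD_of_perfect A.unop.property, a, b, ha, hb⟩
    haveI : Module.Finite k (B.unop.obj ⟶ A.unop.obj) := by
      haveI := (Groth.Agent.S6742.result k X A.unop.obj hcoh B.unop.obj B.unop.property).1 0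
      exact Module.Finite.equiv (Linear.homCongr k (Iso.refl B.unop.obj) ((shiftFunctorZero (DCoh.D X) ℤ).app A.unop.obj))
    obtain ⟨e⟩ := nonempty_bidual A.unop.property
    let Φ : (dual A.unop.obj ⟶ dual B.unop.obj) ≃ₗ[k] (B.unop.obj ⟶ A.unop.obj) :=
      (thetaL (dual A.unop.obj) B.unop.obj).trans (Linear.homCongr k (Iso.refl _) e)
    haveI : Module.Finite k (dual A.unop.obj ⟶ dual B.unop.obj) := Module.Finite.equiv Φ.symm
    have hinj : Function.Injective L := fun f f' h =>
      congrArg (fun w => InducedCategory.Hom.hom (Quiver.Hom.unop w)) ((dualP (X := X)).map_injective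
        (a₁ := (ObjectProperty.homMk f : B.unop ⟶ A.unop).op) (a₂ := (ObjectProperty.homMk f' : B.unop ⟶ A.unop).op)
        (ObjectProperty.hom_ext _ h))
    obtain ⟨f, hf⟩ := (LinearMap.injective_iff_surjective_of_finrank_eq_finrank Φ.symm.finrank_eq).1 hinj g.hom
    exact ⟨(ObjectProperty.homMk f : B.unop ⟶ A.unop).op, ObjectProperty.hom_ext _ hf⟩

end Groth.L07.BvdB.DualPerf
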