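import Groth.Agent.L07.BvdB.PointDual
import Groth.Agent.S6748
import Mathlib.CategoryTheory.Adjunction.FullyFaithful

/-! Full faithfulness is detected on closed points. -/

set_option autoImplicit false
set_option linter.style.haveILetI false
set_option backward.defeqAttrib.useBackward true
set_option backward.isDefEq.respectTransparency false
set_option backward.isDefEq.respectTransparency.types false

universe v v' u u'
open CategoryTheory CategoryTheory.Limits CategoryTheory.Pretriangulated AlgebraicGeometry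

noncomputable section

namespace Groth.L07.BvdB.PointFF

section Abstract

variable {C : Type u} [Category.{v} C] [Preadditive C] [HasZeroObject C] [HasShift C ℤ]
  [∀ n : ℤ, (shiftFunctor C n).Additive] [Pretriangulated C]

/-- Precomposition bijective into all shifts kills maps out of the cone. -/
theorem cone_out_zero {T : Triangle C} (hT : T ∈ distTriang C) (B : C)
    (h : ∀ n : ℤ, Function.Bijective (fun χ : T.obj₂ ⟶ B⟦n⟧ => T.mor₁ ≫ χ)) (n : ℤ) (φ : T.obj₃ ⟶ B⟦n⟧) : φ = 0 := by
  have h0 : T.mor₂ ≫ φ = 0 := (h n).1 (by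
    show T.mor₁ ≫ T.mor₂ ≫ φ = T.mor₁ ≫ 0
    rw [comp_zero, ← Category.assoc, comp_distTriang_mor_zero₁₂ T hT, zero_comp])
  obtain ⟨ψ, hψ⟩ := T.yoneda_exact₃ hT φ h0
  let a := (shiftFunctorAdd' C (n - 1) 1 n (by omega)).app B
  obtain ⟨ψ₁, hψ₁⟩ := (shiftFunctor C (1 : ℤ)).map_surjective (ψ ≫ a.hom)
  obtain ⟨χ, hχ⟩ := (h (n - 1)).2 ψ₁
  have hψ' : ψ = (T.mor₁⟦(1 : ℤ)⟧' ≫ χ⟦(1 : ℤ)⟧') ≫ a.inv := by
    rw [← Functor.map_comp, show T.mor₁ ≫ χ = ψ₁ from hχ, hψ₁, Category.assoc, Iso.hom_inv_id, Category.comp_id]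
  rw [hψ, hψ', ← Category.assoc, ← Category.assoc, comp_distTriang_mor_zero₃₁ T hT, zero_comp, zero_comp]

/-- Postcomposition bijective out of all shifts kills maps into the cone. -/
theorem cone_in_zero {T : Triangle C} (hT : T ∈ distTriang C) (A : C)
    (h : ∀ n : ℤ, Function.Bijective (fun θ : A⟦n⟧ ⟶ T.obj₁ => θ ≫ T.mor₁)) (n : ℤ) (φ : A⟦n⟧ ⟶ T.obj₃) : φ = 0 := by
  let a := (shiftFunctorAdd' C (n - 1) 1 n (by omega)).app A
  obtain ⟨ψ₁, hψ₁⟩ := (shiftFunctor C (1 : ℤ)).map_surjective (a.inv ≫ φ ≫ T.mor₃)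
  have hu : (ψ₁ ≫ T.mor₁)⟦(1 : ℤ)⟧' = 0 := by
    rw [Functor.map_comp, hψ₁, Category.assoc, Category.assoc, comp_distTriang_mor_zero₃₁ T hT, comp_zero, comp_zero]
  have h1 : ψ₁ = 0 := (h (n - 1)).1 (by
    show ψ₁ ≫ T.mor₁ = 0 ≫ T.mor₁
    rw [zero_comp]
    exact (shiftFunctor C (1 : ℤ)).map_injective (hu.trans ((shiftFunctor C (1 : ℤ)).map_zero _ _).symm))
  have h2 : φ ≫ T.mor₃ = 0 := by
    rw [h1, Functor.map_zero] at hψ₁
    rw [← cancel_epi a.inv, comp_zero]
    exact hψ₁.symm
  obtain ⟨ψ, rfl⟩ := T.coyoneda_exact₃ hT φ h2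
  obtain ⟨θ, rfl⟩ := (h n).2 ψ
  simp [comp_distTriang_mor_zero₁₂ T hT]

variable {D : Type u'} [Category.{v'} D] [HasShift D ℤ] (F : C ⥤ D) [F.CommShift ℤ]

omit [Preadditive C] [HasZeroObject C] [∀ n : ℤ, (shiftFunctor C n).Additive] [Pretriangulated C] [HasShift C ℤ] [HasShift D ℤ] [F.CommShift ℤ] in
theorem bij_of_iso {A A' B B' : C} (a : A ≅ A') (b : B ≅ B')
    (h : Function.Bijective (fun f : A ⟶ B => F.map f)) : Function.Bijective (fun f : A' ⟶ B' => F.map f) := by
  have e : (fun f : A' ⟶ B' => F.map f) =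
      (Iso.homCongr (F.mapIso a) (F.mapIso b)) ∘ (fun f : A ⟶ B => F.map f) ∘ (Iso.homCongr a b).symm :=
    funext fun f => by simp [← Functor.map_comp]
  rw [e]
  exact (Equiv.bijective _).comp (h.comp (Equiv.bijective _))

omit [Preadditive C] [HasZeroObject C] [∀ n : ℤ, (shiftFunctor C n).Additive] [Pretriangulated C] in
theorem bij_shift {A B : C} (n : ℤ) (h : Function.Bijective (fun f : A ⟶ B => F.map f)) :
    Function.Bijective (fun f : A⟦n⟧ ⟶ B⟦n⟧ => F.map f) := by
  let s : (A ⟶ B) ≃ (A⟦n⟧ ⟶ B⟦n⟧) := Equiv.ofBijective _ ((Functor.FullyFaithful.ofFullyFaithful (shiftFunctor C n)).map_bijective A B)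
  let s' : (F.obj A ⟶ F.obj B) ≃ ((F.obj A)⟦n⟧ ⟶ (F.obj B)⟦n⟧) :=
    Equiv.ofBijective _ ((Functor.FullyFaithful.ofFullyFaithful (shiftFunctor D n)).map_bijective _ _)
  have e : (fun f : A⟦n⟧ ⟶ B⟦n⟧ => F.map f) = (Iso.homCongr ((F.commShiftIso n).app A).symm ((F.commShiftIso n).app B).symm) ∘
      s' ∘ (fun f : A ⟶ B => F.map f) ∘ s.symm := funext fun f => by
    obtain ⟨g, rfl⟩ := s.surjective f
    show F.map (g⟦n⟧') = _
    simp only [Function.comp_apply, Equiv.symm_apply_apply, Iso.homCongr_apply, Iso.symm_inv, Iso.app_hom,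
      Iso.symm_hom, Iso.app_inv]
    show _ = (F.commShiftIso n).hom.app A ≫ (F.map g)⟦n⟧' ≫ (F.commShiftIso n).inv.app B
    have hnat : F.map (g⟦n⟧') ≫ (F.commShiftIso n).hom.app B = (F.commShiftIso n).hom.app A ≫ (F.map g)⟦n⟧' :=
      (F.commShiftIso n).hom.naturality g
    rw [← reassoc_of% hnat, Iso.hom_inv_id_app]
    exact (Category.comp_id _).symm
  rw [e]
  exact (Equiv.bijective _).comp ((Equiv.bijective _).comp (h.comp (Equiv.bijective _)))

end Abstract

attribute [local instance] HasDerivedCategory.standard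

open Groth.L00 Groth.L29.DC PointSky PointHom PointDual

variable {k : Type u} [Field k] {X Y : Scheme.{u}} [X.Over (Spec (CommRingCat.of k))]
  [Y.Over (Spec (CommRingCat.of k))] [IsProper (X ↘ Spec (CommRingCat.of k))]
  [IsProper (Y ↘ Spec (CommRingCat.of k))]

omit [Y.Over (Spec (CommRingCat.of k))] [IsProper (Y ↘ Spec (CommRingCat.of k))] in
include k in
theorem isZero_of_near (K : DCoh.D X)
    (h : ∀ x : X, IsClosed ({x} : Set X) → ∃ U : X.Opens, x ∈ U ∧ IsZero ((DCoh.restrictD U.ι).obj K))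
    (hK : DCoh.IsPerfect K) : IsZero K := by
  haveI : IsLocallyNoetherian X := LocallyOfFiniteType.isLocallyNoetherian (X ↘ Spec (CommRingCat.of k))
  haveI : CompactSpace X := QuasiCompact.compactSpace_of_compactSpace (X ↘ Spec (CommRingCat.of k))
  obtain ⟨a, b, ha, hb⟩ := Groth.L29.CohSupp.exists_bounds_of_perfect hK
  have hz : ∀ i : ℤ, IsZero (DCoh.HD K i) := fun i => by
    rw [Groth.L21.Mod.isZero_iff_support_eq_empty]
    by_contra hne
    obtain ⟨x, hxs, hx⟩ := (Groth.L16.CohSupport.isClosed_support _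
      (Groth.L29.CohSupp.isCohD_of_perfect hK i).2).exists_closed_singleton
      (Set.nonempty_iff_ne_empty.2 hne)
    obtain ⟨U, hxU, hU⟩ := h x hx
    exact support_HD_subset U hU i hxU hxs
  haveI : K.IsGE 1 := by
    rw [DerivedCategory.isGE_iff]
    exact fun i _ => hz i
  haveI : K.IsLE 0 := by
    rw [DerivedCategory.isLE_iff]
    exact fun i _ => hz i
  exact DerivedCategory.TStructure.t.isZero _ 0 1 (by omega)

/-- Perfect objects of a closed point. -/
abbrev ptP (x : X) (hx : DCoh.IsPerfect (ptD x)) : (SGA6.perfP X).FullSubcategory := ⟨ptD x, hx⟩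

include k in
/-- The criterion for full faithfulness. -/
theorem fullyFaithful (hreg : Models.IsRegularScheme X)
    [(SGA6.perfP X).IsTriangulated] [(SGA6.perfP Y).IsTriangulated]
    (F : (SGA6.perfP X).FullSubcategory ⥤ (SGA6.perfP Y).FullSubcategory) [F.Additive] [F.Linear k]
    [F.CommShift ℤ] [F.IsTriangulated]
    (h : ∀ (x x' : X), IsClosed ({x} : Set X) → IsClosed ({x'} : Set X) →
      ∀ (hx : DCoh.IsPerfect (ptD x)) (hx' : DCoh.IsPerfect (ptD x')) (i : ℤ),
        Function.Bijective (fun f : ptP x hx ⟶ (ptP x' hx')⟦i⟧ => F.map f)) :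
    F.Full ∧ F.Faithful := by
  haveI : IsLocallyNoetherian X := LocallyOfFiniteType.isLocallyNoetherian (X ↘ Spec (CommRingCat.of k))
  haveI : CompactSpace X := QuasiCompact.compactSpace_of_compactSpace (X ↘ Spec (CommRingCat.of k))
  obtain ⟨hl, hr⟩ := Groth.Agent.S6748.result k X Y hreg F
  haveI := hl
  haveI := hr
  let adjL := Adjunction.ofIsRightAdjoint F
  let adjR := Adjunction.ofIsLeftAdjoint F
  let ι := (SGA6.perfP X).ι
  have step1 : ∀ (x : X) (hx : IsClosed ({x} : Set X)) (hp : DCoh.IsPerfect (ptD x))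
      (B : (SGA6.perfP X).FullSubcategory), Function.Bijective (fun f : ptP x hp ⟶ B => F.map f) := by
    intro x hx hp B
    let A := ptP x hp
    obtain ⟨C, g, w, hT⟩ := distinguished_cocone_triangle (adjL.counit.app A)
    have hC : IsZero C.obj := by
      refine isZero_of_near (k := k) C.obj (fun x' hx' => zero_near_of_to_pt hx' C.obj C.property fun i φ => ?_) C.property
      have hp' := isPerfect_ptD hreg hx'
      let φ' : C ⟶ (ptP x' hp')⟦i⟧ :=
        ObjectProperty.homMk (φ ≫ ((ι.commShiftIso i).app (ptP x' hp')).inv)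
      have h0 : φ' = 0 := cone_out_zero hT (ptP x' hp') (fun n => by
        have hb := (adjL.homEquiv (F.obj A) ((ptP x' hp')⟦n⟧)).symm.bijective.comp (h x x' hx hx' hp hp' n)
        refine (congrArg Function.Bijective (funext fun χ => ?_)).mp hb
        show (adjL.homEquiv _ _).symm (F.map χ) = adjL.counit.app A ≫ χ
        rw [Adjunction.homEquiv_counit]
        exact adjL.counit.naturality χ) i φ'
      have h1 : φ ≫ ((ι.commShiftIso i).app (ptP x' hp')).inv = 0 := congrArg InducedCategory.Hom.hom h0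
      rwa [← cancel_mono ((ι.commShiftIso i).app (ptP x' hp')).inv, zero_comp]
    have hC' : IsZero C := by
      rw [IsZero.iff_id_eq_zero]
      exact ObjectProperty.hom_ext _ (hC.eq_of_src _ _)
    haveI : IsIso (adjL.counit.app A) := (Triangle.isZero₃_iff_isIso₁ _ hT).1 hC'
    have e : (fun f : A ⟶ B => F.map f) = (adjL.homEquiv (F.obj A) B) ∘ fun f => adjL.counit.app A ≫ f :=
      funext fun f => (adjL.homEquiv (F.obj A) B).symm.injective (by
        rw [Function.comp_apply, Equiv.symm_apply_apply, Adjunction.homEquiv_counit]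
        exact adjL.counit.naturality f)
    show Function.Bijective (fun f : A ⟶ B => F.map f)
    rw [e]
    exact (Equiv.bijective _).comp ⟨fun f f' hf => (cancel_epi _).1 hf, fun g =>
      ⟨inv (adjL.counit.app A) ≫ g, IsIso.hom_inv_id_assoc _ _⟩⟩
  have step1' : ∀ (x : X) (hx : IsClosed ({x} : Set X)) (hp : DCoh.IsPerfect (ptD x)) (n : ℤ)
      (B : (SGA6.perfP X).FullSubcategory), Function.Bijective (fun f : (ptP x hp)⟦n⟧ ⟶ B => F.map f) :=
    fun x hx hp n B => bij_of_iso F (Iso.refl _)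
      ((shiftFunctorCompIsoId (SGA6.perfP X).FullSubcategory (-n) n (by omega)).app B)
      (bij_shift F n (step1 x hx hp (B⟦-n⟧)))
  haveI : IsIso adjR.unit := by
    haveI : ∀ B, IsIso (adjR.unit.app B) := fun B => by
      obtain ⟨C, g, w, hT⟩ := distinguished_cocone_triangle (adjR.unit.app B)
      have hC : IsZero C.obj := by
        refine isZero_of_near (k := k) C.obj
          (fun x hx => zero_near_of_from_pt hreg hx C.obj C.property fun i φ => ?_) C.property
        have hp := isPerfect_ptD hreg hx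
        let φ' : (ptP x hp)⟦-i⟧ ⟶ C := ObjectProperty.homMk (((ι.commShiftIso (-i)).app (ptP x hp)).hom ≫
          φ⟦-i⟧' ≫ ((shiftFunctorCompIsoId (DCoh.D X) i (-i) (by omega)).app C.obj).hom)
        have h0 : φ' = 0 := cone_in_zero hT (ptP x hp) (fun n => by
          have hb := (adjR.homEquiv ((ptP x hp)⟦n⟧) (F.obj B)).bijective.comp (step1' x hx hp n B)
          refine (congrArg Function.Bijective (funext fun θ => ?_)).mp hb
          show adjR.homEquiv _ _ (F.map θ) = θ ≫ adjR.unit.app B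
          rw [Adjunction.homEquiv_unit]
          exact (adjR.unit.naturality θ).symm) (-i) φ'
        have h1 : ((ι.commShiftIso (-i)).app (ptP x hp)).hom ≫
            φ⟦-i⟧' ≫ ((shiftFunctorCompIsoId (DCoh.D X) i (-i) (by omega)).app C.obj).hom = 0 :=
          congrArg InducedCategory.Hom.hom h0
        have h2 : φ⟦-i⟧' = 0 := by
          rw [← cancel_epi ((ι.commShiftIso (-i)).app (ptP x hp)).hom,
            ← cancel_mono ((shiftFunctorCompIsoId (DCoh.D X) i (-i) (by omega)).app C.obj).hom, Category.assoc]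
          rw [comp_zero, zero_comp]
          exact h1
        exact (shiftFunctor (DCoh.D X) (-i)).map_injective (h2.trans ((shiftFunctor (DCoh.D X) (-i)).map_zero _ _).symm)
      have hC' : IsZero C := by
        rw [IsZero.iff_id_eq_zero]
        exact ObjectProperty.hom_ext _ (hC.eq_of_src _ _)
      exact (Triangle.isZero₃_iff_isIso₁ _ hT).1 hC'
    exact NatIso.isIso_of_isIso_app _
  exact ⟨adjR.fullyFaithfulLOfIsIsoUnit.full, adjR.fullyFaithfulLOfIsIsoUnit.faithful⟩

end Groth.L07.BvdB.PointFF
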