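import Groth.Agent.L07.BvdB.PointEfface
import Groth.Agent.L07.BvdB.PointFF
import Groth.Agent.L04.MatlisArtin
import Groth.Agent.S6742

/-! A functor fixing the modules of finite length is bijective on their extensions. -/

set_option autoImplicit false
set_option linter.style.haveILetI false
set_option backward.defeqAttrib.useBackward true
set_option backward.isDefEq.respectTransparency false
set_option backward.isDefEq.respectTransparency.types false

universe v v' u u'
open CategoryTheory CategoryTheory.Limits CategoryTheory.Pretriangulated AlgebraicGeometry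

noncomputable section

namespace Groth.L07.BvdB.PointSelf

section Abstract

variable {C : Type u} [Category.{v} C] [Preadditive C] [HasZeroObject C] [HasShift C ℤ]
  [∀ n : ℤ, (shiftFunctor C n).Additive] [Pretriangulated C]
  {D : Type u'} [Category.{v'} D] [Preadditive D] [HasZeroObject D] [HasShift D ℤ]
  [∀ n : ℤ, (shiftFunctor D n).Additive] [Pretriangulated D]
  (F : C ⥤ D) [F.CommShift ℤ] [F.IsTriangulated]

/-- The step: injectivity one degree up. -/
theorem inj_step {T : Triangle C} (hT : T ∈ distTriang C) {B : C}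
    (hb : Function.Bijective (fun f : T.obj₂⟦(1 : ℤ)⟧ ⟶ B => F.map f))
    (hi : Function.Injective (fun f : T.obj₁⟦(1 : ℤ)⟧ ⟶ B => F.map f))
    (ξ : T.obj₃ ⟶ B) (hq : T.mor₂ ≫ ξ = 0) (hF : F.map ξ = 0) : ξ = 0 := by
  obtain ⟨η, rfl⟩ := T.yoneda_exact₃ hT ξ hq
  have hR := rot_of_distTriang _ hT
  obtain ⟨θ', hθ'⟩ := (F.mapTriangle.obj T.rotate).yoneda_exact₃ (F.map_distinguished _ hR) (F.map η)
    ((F.map_comp _ _).symm.trans hF)
  obtain ⟨θ, hθ⟩ := hb.2 ((F.commShiftIso (1 : ℤ)).hom.app T.obj₂ ≫ θ')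
  have h1 : η = T.rotate.mor₃ ≫ θ := hi (by
    show F.map η = F.map (T.rotate.mor₃ ≫ θ)
    exact hθ'.trans ((Category.assoc _ _ _).trans ((congrArg (F.map T.rotate.mor₃ ≫ ·) hθ.symm).trans
      (F.map_comp _ _).symm)))
  rw [h1]
  exact (Category.assoc _ _ _).symm.trans
    ((congrArg (· ≫ θ) (comp_distTriang_mor_zero₂₃ T.rotate hR)).trans zero_comp)

/-- The start: a map killed by the functor factors over an object sent to zero. -/
theorem isZero_image {T : Triangle C} (hT : T ∈ distTriang C) {N C' : C} (j : T.obj₃ ⟶ N) (g : N ⟶ C')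
    (c : C' ⟶ T.obj₃⟦(1 : ℤ)⟧) (hT₂ : Triangle.mk j g c ∈ distTriang C)
    (h1 : ∀ w : (F.obj T.obj₁)⟦(1 : ℤ)⟧ ⟶ F.obj N, w = 0)
    (h2 : ∀ w : F.obj T.obj₃ ⟶ (F.obj C')⟦(-1 : ℤ)⟧, w = 0)
    (hF : F.map (T.mor₂ ≫ j) = 0) : IsZero (F.obj T.obj₃) := by
  obtain ⟨w, hw⟩ := (F.mapTriangle.obj T).yoneda_exact₃ (F.map_distinguished _ hT) (F.map j)
    ((F.map_comp _ _).symm.trans hF)
  have hj : F.map j = 0 := by rw [hw, h1 w, comp_zero]
  have hR := inv_rot_of_distTriang _ (F.map_distinguished _ hT₂)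
  obtain ⟨ψ, hψ⟩ := (F.mapTriangle.obj (Triangle.mk j g c)).invRotate.coyoneda_exact₂ hR (𝟙 (F.obj T.obj₃))
    (show 𝟙 _ ≫ F.map j = 0 by rw [hj, comp_zero])
  rw [IsZero.iff_id_eq_zero]
  exact hψ.trans ((congrArg (· ≫ _) (h2 ψ)).trans zero_comp)

end Abstract

attribute [local instance] HasDerivedCategory.standard

open Groth.L00 Groth.L00.Sky Groth.L29.DC PointSky PointHom PointDual PointEfface PointFF
open IsLocalRing

variable {k : Type u} [Field k] {X : Scheme.{u}} [X.Over (Spec (CommRingCat.of k))]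
  [IsProper (X ↘ Spec (CommRingCat.of k))] [(SGA6.perfP X).IsTriangulated]

omit [X.Over (Spec (CommRingCat.of k))] [IsProper (X ↘ Spec (CommRingCat.of k))] [(SGA6.perfP X).IsTriangulated] in
/-- Coherent modules on a regular scheme are perfect. -/
theorem isPerfect_inD [IsLocallyNoetherian X] (hreg : Models.IsRegularScheme X) {M : X.Modules}
    (hM : Coh.IsCoh M) : DCoh.IsPerfect (DCoh.inD X M) := by
  refine Groth.Agent.S1005.result X hreg (DCoh.inD X M) 0 0 fun i => ?_
  rcases eq_or_ne i 0 with rfl | hi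
  · exact Groth.L16.CohSupport.isCoh_of_iso
      ((DerivedCategory.singleFunctorCompHomologyFunctorIso X.Modules 0).app M).symm hM
  · rcases lt_or_gt_of_ne hi with h | h
    · exact RHomC.isCoh_of_isZero (DerivedCategory.isZero_of_isGE _ 0 i h)
    · exact RHomC.isCoh_of_isZero (DerivedCategory.isZero_of_isLE _ 0 i h)

omit [X.Over (Spec (CommRingCat.of k))] [IsProper (X ↘ Spec (CommRingCat.of k))] in
/-- A short exact sequence gives a triangle of perfect objects. -/
theorem exists_triangle {S : ShortComplex X.Modules} (hS : S.ShortExact) (h₁ : DCoh.IsPerfect (DCoh.inD X S.X₁))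
    (h₂ : DCoh.IsPerfect (DCoh.inD X S.X₂)) (h₃ : DCoh.IsPerfect (DCoh.inD X S.X₃)) :
    ∃ c : (⟨DCoh.inD X S.X₃, h₃⟩ : (SGA6.perfP X).FullSubcategory) ⟶
        (⟨DCoh.inD X S.X₁, h₁⟩ : (SGA6.perfP X).FullSubcategory)⟦(1 : ℤ)⟧,
      Triangle.mk (ObjectProperty.homMk ((DerivedCategory.singleFunctor X.Modules 0).map S.f) :
          (⟨DCoh.inD X S.X₁, h₁⟩ : (SGA6.perfP X).FullSubcategory) ⟶ ⟨DCoh.inD X S.X₂, h₂⟩)
        (ObjectProperty.homMk ((DerivedCategory.singleFunctor X.Modules 0).map S.g)) c ∈ distinguishedTriangles := by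
  let T := hS.singleTriangle
  let ι := (SGA6.perfP X).ι
  let c : (⟨DCoh.inD X S.X₃, h₃⟩ : (SGA6.perfP X).FullSubcategory) ⟶
      (⟨DCoh.inD X S.X₁, h₁⟩ : (SGA6.perfP X).FullSubcategory)⟦(1 : ℤ)⟧ :=
    ObjectProperty.homMk (T.mor₃ ≫ ((ι.commShiftIso (1 : ℤ)).app ⟨DCoh.inD X S.X₁, h₁⟩).inv)
  refine ⟨c, ?_⟩
  rw [← ι.map_distinguished_iff]
  refine isomorphic_distinguished _ hS.singleTriangle_distinguished _
    (Triangle.isoMk _ _ (Iso.refl _) (Iso.refl _) (Iso.refl _) ?_ ?_ ?_)
  · exact (Category.comp_id _).trans (Category.id_comp _).symm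
  · exact (Category.comp_id _).trans (Category.id_comp _).symm
  · erw [CategoryTheory.Functor.map_id]
    refine (Category.comp_id _).trans (Eq.trans ?_ (Category.id_comp _).symm)
    exact (Category.assoc _ _ _).trans
      ((congrArg (T.mor₃ ≫ ·) ((ι.commShiftIso (1 : ℤ)).app ⟨DCoh.inD X S.X₁, h₁⟩).inv_hom_id).trans
        (Category.comp_id _))

variable {F : (SGA6.perfP X).FullSubcategory ⥤ (SGA6.perfP X).FullSubcategory} [F.Additive] [F.Linear k]
  [F.CommShift ℤ]

include k in
/-- Injective between isomorphic finite dimensional Homs is bijective. -/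
theorem bij_of_inj (A B : (SGA6.perfP X).FullSubcategory) (i : ℤ) (a : A ≅ F.obj A) (b : B ≅ F.obj B)
    (h : Function.Injective (fun f : A ⟶ B⟦i⟧ => F.map f)) :
    Function.Bijective (fun f : A ⟶ B⟦i⟧ => F.map f) := by
  haveI : IsLocallyNoetherian X := LocallyOfFiniteType.isLocallyNoetherian (X ↘ Spec (CommRingCat.of k))
  haveI : CompactSpace X := QuasiCompact.compactSpace_of_compactSpace (X ↘ Spec (CommRingCat.of k))
  let ι := (SGA6.perfP X).ι
  obtain ⟨p, q, hp, hq⟩ := Groth.L29.CohSupp.exists_bounds_of_perfect B.property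
  haveI := (Groth.Agent.S6742.result k X B.obj
    ⟨Groth.L29.CohSupp.isCohD_of_perfect B.property, p, q, hp, hq⟩ A.obj A.property).1 i
  let e₁ : (A ⟶ B⟦i⟧) ≃ₗ[k] (A.obj ⟶ B.obj⟦i⟧) :=
    (LinearEquiv.ofBijective (ι.mapLinearMap k) ((Functor.FullyFaithful.ofFullyFaithful ι).map_bijective _ _)).trans
      (Linear.homCongr k (Iso.refl _) ((ι.commShiftIso i).app B))
  haveI : Module.Finite k (A ⟶ B⟦i⟧) := Module.Finite.equiv e₁.symm
  let e : (A ⟶ B⟦i⟧) ≃ₗ[k] (F.obj A ⟶ F.obj (B⟦i⟧)) :=
    Linear.homCongr k a ((shiftFunctor _ i).mapIso b ≪≫ ((F.commShiftIso i).app B).symm)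
  let L : (A ⟶ B⟦i⟧) →ₗ[k] (F.obj A ⟶ F.obj (B⟦i⟧)) := F.mapLinearMap k
  have hL : Function.Surjective (e.symm.toLinearMap.comp L) :=
    LinearMap.injective_iff_surjective.1 (e.symm.injective.comp h)
  exact ⟨h, fun y => by
    obtain ⟨f, hf⟩ := hL (e.symm y)
    exact ⟨f, e.symm.injective hf⟩⟩

omit [F.Additive] [F.Linear k] [F.CommShift ℤ] [X.Over (Spec (CommRingCat.of k))] [IsProper (X ↘ Spec (CommRingCat.of k))] [(SGA6.perfP X).IsTriangulated] in
theorem isZero_obj {M : X.Modules} (hz : IsZero M) (hM : DCoh.IsPerfect (DCoh.inD X M)) :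
    IsZero (⟨DCoh.inD X M, hM⟩ : (SGA6.perfP X).FullSubcategory) := by
  rw [IsZero.iff_id_eq_zero]
  exact ObjectProperty.hom_ext _ (((DerivedCategory.singleFunctor X.Modules 0).map_isZero hz).eq_of_src _ _)

omit [F.Linear k] [F.CommShift ℤ] [X.Over (Spec (CommRingCat.of k))] [IsProper (X ↘ Spec (CommRingCat.of k))] in
/-- The fixed-object hypothesis, including the zero modules. -/
theorem iso_of_support {x : X} (hx : IsClosed ({x} : Set X))
    (h : ∀ (M : X.Modules), Coh.IsCoh M → (CohB1.support M).Finite → (CohB1.support M).Nonempty →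
        (∀ x ∈ CohB1.support M, IsClosed ({x} : Set X)) →
        ∀ (hM : DCoh.IsPerfect (DCoh.inD X M)),
          Nonempty ((⟨DCoh.inD X M, hM⟩ : (SGA6.perfP X).FullSubcategory) ≅ F.obj ⟨DCoh.inD X M, hM⟩))
    {M : X.Modules} (hcoh : Coh.IsCoh M) (hs : CohB1.support M ⊆ {x}) (hM : DCoh.IsPerfect (DCoh.inD X M)) :
    Nonempty ((⟨DCoh.inD X M, hM⟩ : (SGA6.perfP X).FullSubcategory) ≅ F.obj ⟨DCoh.inD X M, hM⟩) := by
  rcases (CohB1.support M).eq_empty_or_nonempty with he | hne
  · have hz := isZero_obj ((Groth.L21.Mod.isZero_iff_support_eq_empty M).2 he) hM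
    exact ⟨hz.iso (F.map_isZero hz)⟩
  · exact h M hcoh ((Set.finite_singleton x).subset hs) hne
      (fun y hy => (Set.mem_singleton_iff.1 (hs hy)) ▸ hx) hM

omit [X.Over (Spec (CommRingCat.of k))] [IsProper (X ↘ Spec (CommRingCat.of k))] in
/-- No maps of negative degree between modules. -/
theorem zero_neg (M N : X.Modules) (hM : DCoh.IsPerfect (DCoh.inD X M)) (hN : DCoh.IsPerfect (DCoh.inD X N))
    (i : ℤ) (hi : i < 0)
    (φ : (⟨DCoh.inD X M, hM⟩ : (SGA6.perfP X).FullSubcategory) ⟶
      (⟨DCoh.inD X N, hN⟩ : (SGA6.perfP X).FullSubcategory)⟦i⟧) : φ = 0 := by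
  refine ObjectProperty.hom_ext _ ?_
  let T := (DerivedCategory.TStructure.t (C := X.Modules))
  haveI : T.IsLE (DCoh.inD X M) 0 := inferInstanceAs (((DerivedCategory.singleFunctor X.Modules 0).obj M).IsLE 0)
  haveI : T.IsGE (DCoh.inD X N) 0 := inferInstanceAs (((DerivedCategory.singleFunctor X.Modules 0).obj N).IsGE 0)
  haveI : T.IsGE ((DCoh.inD X N)⟦i⟧) (-i) := T.isGE_shift (DCoh.inD X N) 0 i (-i) (by omega)
  let c := (((SGA6.perfP X).ι.commShiftIso i).app ⟨DCoh.inD X N, hN⟩).hom
  let ψ : DCoh.inD X M ⟶ (DCoh.inD X N)⟦i⟧ := φ.hom ≫ c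
  have h0 : ψ = 0 := T.zero ψ 0 (-i) (by omega)
  exact (cancel_mono c).1 (h0.trans zero_comp.symm)

variable [F.IsTriangulated]

/-- The skyscraper in degree zero as a perfect object. -/
abbrev skyP [IsLocallyNoetherian X] (hreg : Models.IsRegularScheme X) {x : X} (hx : IsClosed ({x} : Set X))
    (M : ModuleCat.{u} (X.presheaf.stalk x)) (hM : IsFiniteLength (X.presheaf.stalk x) M) :
    (SGA6.perfP X).FullSubcategory :=
  ⟨DCoh.inD X ((skyF x).obj M), isPerfect_inD hreg
    (isCoh_sky hx _ M (ENat.natCast_toNat (Module.length_ne_top_iff.2 hM)).ge)⟩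

include k in
/-- Bijectivity at one point. -/
theorem bij_sky [IsLocallyNoetherian X] (hreg : Models.IsRegularScheme X) {x : X} (hx : IsClosed ({x} : Set X))
    (h : ∀ (M : X.Modules), Coh.IsCoh M → (CohB1.support M).Finite → (CohB1.support M).Nonempty →
        (∀ x ∈ CohB1.support M, IsClosed ({x} : Set X)) →
        ∀ (hM : DCoh.IsPerfect (DCoh.inD X M)),
          Nonempty ((⟨DCoh.inD X M, hM⟩ : (SGA6.perfP X).FullSubcategory) ≅ F.obj ⟨DCoh.inD X M, hM⟩))
    (i : ℤ) : ∀ (M N : ModuleCat.{u} (X.presheaf.stalk x)) (hM : IsFiniteLength (X.presheaf.stalk x) M)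
      (hN : IsFiniteLength (X.presheaf.stalk x) N),
      Function.Bijective (fun f : skyP hreg hx M hM ⟶ (skyP hreg hx N hN)⟦i⟧ => F.map f) := by
  have fix' : ∀ M hM, Nonempty (skyP hreg hx M hM ≅ F.obj (skyP hreg hx M hM)) := fun M hM =>
    iso_of_support hx h (isCoh_sky hx _ M (ENat.natCast_toNat (Module.length_ne_top_iff.2 hM)).ge) (support_sky hx M) _
  have reduce : ∀ (i : ℤ) M N hM hN,
      Function.Injective (fun f : skyP hreg hx M hM ⟶ (skyP hreg hx N hN)⟦i⟧ => F.map f) →
      Function.Bijective (fun f : skyP hreg hx M hM ⟶ (skyP hreg hx N hN)⟦i⟧ => F.map f) :=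
    fun i M N hM hN hi => bij_of_inj (k := k) _ _ i (fix' M hM).some (fix' N hN).some hi
  have hkill : ∀ (i : ℤ), i < 0 → ∀ M N hM hN
      (w : F.obj (skyP hreg hx M hM) ⟶ (F.obj (skyP hreg hx N hN))⟦i⟧), w = 0 := fun i hi M N hM hN w => by
    rw [← cancel_epi (fix' M hM).some.hom, ← cancel_mono ((fix' N hN).some.inv⟦i⟧'), comp_zero, zero_comp]
    exact zero_neg _ _ _ _ i hi _
  have main : ∀ (n : ℕ) M N hM hN,
      Function.Bijective (fun f : skyP hreg hx M hM ⟶ (skyP hreg hx N hN)⟦(n : ℤ)⟧ => F.map f) := by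
    intro n
    induction n with
    | zero =>
      intro M N hM hN
      refine reduce _ M N hM hN fun f f' hff => ?_
      rw [← sub_eq_zero]
      have hf0 : F.map (f - f') = 0 := by rw [Functor.map_sub, show F.map f = F.map f' from hff, sub_self]
      generalize f - f' = d at hf0 ⊢
      let z := (shiftFunctorZero (SGA6.perfP X).FullSubcategory ℤ).app (skyP hreg hx N hN)
      suffices h0 : d ≫ z.hom = 0 by rwa [← cancel_mono z.hom, zero_comp]
      have hd0 : F.map (d ≫ z.hom) = 0 := by rw [Functor.map_comp, hf0, zero_comp]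
      generalize d ≫ z.hom = e at hd0 ⊢
      obtain ⟨g₀, hg₀⟩ := (DerivedCategory.singleFunctor X.Modules 0).map_surjective e.hom
      obtain ⟨g, hg⟩ : ∃ g : M ⟶ N, (skyF x).map g = g₀ := by
        haveI : IsIso ((adj x).counit.app M) := isIso_counit M
        refine ⟨inv ((adj x).counit.app M) ≫ ((adj x).homEquiv _ _).symm g₀, ?_⟩
        apply ((adj x).homEquiv _ _).symm.injective
        rw [Adjunction.homEquiv_counit, (adj x).counit_naturality, IsIso.hom_inv_id_assoc]
      let R := X.presheaf.stalk x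
      let K : ModuleCat.{u} R := ModuleCat.of R (LinearMap.ker g.hom)
      let I : ModuleCat.{u} R := ModuleCat.of R (LinearMap.range g.hom)
      let C₀ : ModuleCat.{u} R := ModuleCat.of R (N ⧸ LinearMap.range g.hom)
      let S₁ : ShortComplex (ModuleCat.{u} R) :=
        ShortComplex.mk (ModuleCat.ofHom (LinearMap.ker g.hom).subtype : K ⟶ M)
          (ModuleCat.ofHom g.hom.rangeRestrict : M ⟶ I) (ModuleCat.hom_ext (LinearMap.ext fun a => Subtype.ext (LinearMap.mem_ker.1 a.2)))
      let S₂ : ShortComplex (ModuleCat.{u} R) :=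
        ShortComplex.mk (ModuleCat.ofHom (LinearMap.range g.hom).subtype : I ⟶ N)
          (ModuleCat.ofHom (LinearMap.range g.hom).mkQ : N ⟶ C₀)
          (by ext a; exact (Submodule.Quotient.mk_eq_zero _).2 a.2)
      have hS₁ : S₁.ShortExact :=
        { exact := (ShortComplex.ShortExact.moduleCat_exact_iff_function_exact _).2 fun a =>
            ⟨fun ha => ⟨⟨a, congrArg Subtype.val ha⟩, rfl⟩, by rintro ⟨b, rfl⟩; exact Subtype.ext b.2⟩
          mono_f := (ModuleCat.mono_iff_injective _).2 Subtype.val_injective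
          epi_g := (ModuleCat.epi_iff_surjective _).2 g.hom.surjective_rangeRestrict }
      have hS₂ : S₂.ShortExact :=
        { exact := (ShortComplex.ShortExact.moduleCat_exact_iff_function_exact _).2 fun a =>
            (Submodule.Quotient.mk_eq_zero _).trans
              ⟨fun ha => ⟨⟨a, ha⟩, rfl⟩, by rintro ⟨b, rfl⟩; exact b.2⟩
          mono_f := (ModuleCat.mono_iff_injective _).2 Subtype.val_injective
          epi_g := (ModuleCat.epi_iff_surjective _).2 (Submodule.mkQ_surjective _) }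
      have hM' := isFiniteLength_iff_isNoetherian_isArtinian.1 hM
      have hN' := isFiniteLength_iff_isNoetherian_isArtinian.1 hN
      haveI := hM'.1; haveI := hM'.2; haveI := hN'.1; haveI := hN'.2
      have hK : IsFiniteLength R K := isFiniteLength_iff_isNoetherian_isArtinian.2 ⟨inferInstance, inferInstance⟩
      have hI : IsFiniteLength R I := isFiniteLength_iff_isNoetherian_isArtinian.2 ⟨inferInstance, inferInstance⟩
      have hC : IsFiniteLength R C₀ := isFiniteLength_iff_isNoetherian_isArtinian.2 ⟨inferInstance, inferInstance⟩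
      obtain ⟨c₁, hT₁⟩ := exists_triangle (shortExact_sky hx hS₁) (skyP hreg hx K hK).property
        (skyP hreg hx M hM).property (skyP hreg hx I hI).property
      obtain ⟨c₂, hT₂⟩ := exists_triangle (shortExact_sky hx hS₂) (skyP hreg hx I hI).property
        (skyP hreg hx N hN).property (skyP hreg hx C₀ hC).property
      have he : e = ObjectProperty.homMk ((DerivedCategory.singleFunctor X.Modules 0).map ((skyF x).map S₁.g)) ≫
          (ObjectProperty.homMk ((DerivedCategory.singleFunctor X.Modules 0).map ((skyF x).map S₂.f)) :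
            skyP hreg hx I hI ⟶ skyP hreg hx N hN) := ObjectProperty.hom_ext _ (by
        rw [← hg₀, ← hg, show g = S₁.g ≫ S₂.f from rfl, Functor.map_comp, Functor.map_comp]
        rfl)
      have hz : IsZero (F.obj (skyP hreg hx I hI)) := isZero_image F hT₁ _ _ _ hT₂
        (fun w => (shiftFunctor (SGA6.perfP X).FullSubcategory (-1 : ℤ)).map_injective (by
          rw [Functor.map_zero]
          refine ((cancel_epi ((shiftFunctorCompIsoId _ (1 : ℤ) (-1) (by omega)).inv.app _)).1 ?_)
          rw [comp_zero]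
          exact hkill (-1) (by omega) K N hK hN _))
        (fun w => hkill (-1) (by omega) I C₀ hI hC w) (by rw [← hd0, he]; rfl)
      have hzI : IsZero (skyP hreg hx I hI) := hz.of_iso (fix' I hI).some
      exact he.trans ((congrArg (· ≫ _) (hzI.eq_of_tgt
        (ObjectProperty.homMk ((DerivedCategory.singleFunctor X.Modules 0).map ((skyF x).map S₁.g)) :
          skyP hreg hx M hM ⟶ skyP hreg hx I hI) 0)).trans zero_comp)
    | succ n ih =>
      intro M N hM hN
      refine reduce _ M N hM hN fun f f' hff => ?_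
      rw [← sub_eq_zero]
      have hf0 : F.map (f - f') = 0 := by rw [Functor.map_sub, show F.map f = F.map f' from hff, sub_self]
      generalize f - f' = d at hf0 ⊢
      let ι := (SGA6.perfP X).ι
      let c := ((ι.commShiftIso ((n + 1 : ℕ) : ℤ)).app (skyP hreg hx N hN)).hom
      haveI : IsArtinian (X.presheaf.stalk x) N := (isFiniteLength_iff_isNoetherian_isArtinian.1 hN).2
      obtain ⟨M', q, hM', hq, hq0⟩ := efface hx n M N hM Groth.L04.isPowerTorsion_of_isArtinian (d.hom ≫ c)
      let R := X.presheaf.stalk x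
      let K : ModuleCat.{u} R := ModuleCat.of R (LinearMap.ker q.hom)
      let S : ShortComplex (ModuleCat.{u} R) :=
        ShortComplex.mk (ModuleCat.ofHom (LinearMap.ker q.hom).subtype : K ⟶ M') q (by ext a; exact a.2)
      have hS : S.ShortExact :=
        { exact := (ShortComplex.ShortExact.moduleCat_exact_iff_function_exact _).2 fun a =>
            ⟨fun ha => ⟨⟨a, ha⟩, rfl⟩, by rintro ⟨b, rfl⟩; exact b.2⟩
          mono_f := (ModuleCat.mono_iff_injective _).2 Subtype.val_injective
          epi_g := (ModuleCat.epi_iff_surjective _).2 hq }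
      haveI := (isFiniteLength_iff_isNoetherian_isArtinian.1 hM').1
      haveI := (isFiniteLength_iff_isNoetherian_isArtinian.1 hM').2
      have hK : IsFiniteLength R K := isFiniteLength_iff_isNoetherian_isArtinian.2 ⟨inferInstance, inferInstance⟩
      obtain ⟨c₁, hT⟩ := exists_triangle (shortExact_sky hx hS) (skyP hreg hx K hK).property
        (skyP hreg hx M' hM').property (skyP hreg hx M hM).property
      have up : ∀ M₀ hM₀, Function.Bijective
          (fun f : (skyP hreg hx M₀ hM₀)⟦(1 : ℤ)⟧ ⟶ (skyP hreg hx N hN)⟦((n + 1 : ℕ) : ℤ)⟧ => F.map f) :=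
        fun M₀ hM₀ => bij_of_iso F (Iso.refl _)
          ((shiftFunctorAdd' (SGA6.perfP X).FullSubcategory (n : ℤ) 1 ((n + 1 : ℕ) : ℤ) (by omega)).app (skyP hreg hx N hN)).symm
          (bij_shift F (1 : ℤ) (ih M₀ N hM₀ hN))
      refine inj_step F hT (up M' hM') (up K hK).1 d (ObjectProperty.hom_ext _ ?_) hf0
      rw [← cancel_mono c]
      exact ((Category.assoc _ _ _).trans hq0).trans zero_comp.symm
  rcases lt_or_ge i 0 with hi | hi
  · intro M N hM hN
    exact reduce i M N hM hN fun f f' _ =>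
      (zero_neg _ _ _ _ i hi f).trans (zero_neg _ _ _ _ i hi f').symm
  · lift i to ℕ using hi
    exact main i

end Groth.L07.BvdB.PointSelf
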