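import Mathlib.CategoryTheory.Triangulated.Yoneda
import Mathlib.CategoryTheory.Linear.LinearFunctor
import Mathlib.CategoryTheory.ObjectProperty.Shift
import Mathlib.CategoryTheory.Triangulated.Subcategory
import Mathlib.LinearAlgebra.FiniteDimensional.Lemmas

/-! Dévissage along an exceptional sequence: objects with finite total Hom are built from it. -/

universe w v u
open CategoryTheory CategoryTheory.Limits CategoryTheory.Pretriangulated

set_option backward.isDefEq.respectTransparency false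
set_option linter.unusedSectionVars false
namespace Groth.L07.BvdB

section
variable {R : Type w} [Ring R] {U V W : Type*} [AddCommGroup U] [AddCommGroup V] [AddCommGroup W]
  [Module R U] [Module R V] [Module R W]

theorem finite_of_exact (f : U →ₗ[R] V) (g : V →ₗ[R] W) (h : ∀ x, g x = 0 → ∃ y, f y = x)
    [Module.Finite R U] [Module.Finite R W] [IsNoetherianRing R] : Module.Finite R V := by
  refine Module.finite_def.2 (Submodule.fg_of_fg_map_of_fg_inf_ker g (IsNoetherian.noetherian _) ?_)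
  have : ⊤ ⊓ LinearMap.ker g ≤ LinearMap.range f := fun x hx => h x hx.2
  have hfr : Module.Finite R (LinearMap.range f) := inferInstance
  exact (Submodule.FG.of_le (Module.Finite.iff_fg.1 hfr) this)

end

variable (k : Type w) [Field k] {D : Type u} [Category.{v} D] [Preadditive D] [Linear k D] [HasZeroObject D]
  [HasShift D ℤ] [∀ n : ℤ, (shiftFunctor D n).Additive] [∀ n : ℤ, (shiftFunctor D n).Linear k]
  [Pretriangulated D]

/-- Finite total Hom. -/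
def Fin' (X K : D) : Prop :=
  (∀ m : ℤ, Module.Finite k (X ⟶ K⟦m⟧)) ∧ Set.Finite {m : ℤ | Nontrivial (X ⟶ K⟦m⟧)}

variable {k}

theorem nontrivial_iff {X Y : D} : Nontrivial (X ⟶ Y) ↔ ∃ φ : X ⟶ Y, φ ≠ 0 := nontrivial_iff_exists_ne 0

/-- Composition with the shifted map. -/
noncomputable abbrev post (X : D) {A B : D} (f : A ⟶ B) (m : ℤ) : (X ⟶ A⟦m⟧) →ₗ[k] (X ⟶ B⟦m⟧) :=
  Linear.rightComp k X (f⟦m⟧')

theorem exact₂ (X : D) {T : Triangle D} (hT : T ∈ distTriang D) (m : ℤ) (x : X ⟶ T.obj₂⟦m⟧)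
    (hx : x ≫ T.mor₂⟦m⟧' = 0) : ∃ y : X ⟶ T.obj₁⟦m⟧, y ≫ T.mor₁⟦m⟧' = x := by
  obtain ⟨y, hy⟩ := Triangle.coyoneda_exact₂ _ (Triangle.shift_distinguished T hT m) x (by
    change x ≫ (m.negOnePow • T.mor₂⟦m⟧') = 0
    rw [Linear.comp_units_smul, hx, smul_zero])
  refine ⟨(m.negOnePow : ℤ) • y, ?_⟩
  rw [hy]
  change ((m.negOnePow : ℤ) • (show X ⟶ T.obj₁⟦m⟧ from y)) ≫ _ = (show X ⟶ T.obj₁⟦m⟧ from y) ≫ (m.negOnePow • T.mor₁⟦m⟧')
  rw [Linear.comp_units_smul, Preadditive.zsmul_comp]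
  rfl

theorem Fin'.middle {X : D} {T : Triangle D} (hT : T ∈ distTriang D) (h₁ : Fin' k X T.obj₁)
    (h₃ : Fin' k X T.obj₃) : Fin' k X T.obj₂ := by
  refine ⟨fun m => ?_, (h₁.2.union h₃.2).subset fun m hm => ?_⟩
  · have := h₁.1 m
    have := h₃.1 m
    exact finite_of_exact (post X T.mor₁ m) (post X T.mor₂ m) fun x hx => exact₂ X hT m x hx
  · by_contra h
    simp only [Set.mem_union, Set.mem_setOf_eq, not_or, not_nontrivial_iff_subsingleton] at h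
    obtain ⟨φ, hφ⟩ := nontrivial_iff.1 hm
    obtain ⟨y, hy⟩ := exact₂ X hT m φ (@Subsingleton.elim _ h.2 _ _)
    exact hφ (by rw [← hy, @Subsingleton.elim _ h.1 y 0, zero_comp])

theorem Fin'.shift {X K : D} (h : Fin' k X K) (n : ℤ) : Fin' k X (K⟦n⟧) := by
  refine ⟨fun m => ?_, ((h.2.image fun j => j - n).subset fun m hm => ⟨n + m, ?_, add_sub_cancel_left n m⟩)⟩
  · have := h.1 (n + m)
    exact Module.Finite.equiv (Linear.homCongr k (Iso.refl X) ((shiftFunctorAdd D n m).app K))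
  · exact (Linear.homCongr k (Iso.refl X) ((shiftFunctorAdd D n m).app K)).toEquiv.nontrivial_congr.2 hm

theorem Fin'.of_iso {X K K' : D} (h : Fin' k X K) (e : K ≅ K') : Fin' k X K' := by
  refine ⟨fun m => ?_, h.2.subset fun m hm => ?_⟩
  · have := h.1 m
    exact Module.Finite.equiv (Linear.homCongr k (Iso.refl X) ((shiftFunctor D m).mapIso e))
  · exact (Linear.homCongr k (Iso.refl X) ((shiftFunctor D m).mapIso e)).toEquiv.nontrivial_congr.2 hm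

variable (E : ℕ → D) (n : ℕ) (S P : ObjectProperty D)
  (hsemi : ∀ b a : ℕ, b < a → a ≤ n → ∀ (m : ℤ) (φ : E b ⟶ (E a)⟦m⟧), φ = 0)
  (hself : ∀ a ≤ n, ∀ (m : ℤ), m ≠ 0 → ∀ φ : E a ⟶ (E a)⟦m⟧, φ = 0)
  (hend : ∀ a ≤ n, ∀ φ : E a ⟶ E a, ∃ r : k, φ = r • 𝟙 (E a))
  (hfin : ∀ c ≤ n, ∀ a ≤ n, Fin' k (E c) (E a))
  (hS : ∀ a ≤ n, ∀ m : ℤ, S ((E a)⟦m⟧))
  (hS3 : ∀ T ∈ distTriang D, S T.obj₁ → S T.obj₂ → S T.obj₃)
  (hgen : ∀ K, S K → (∀ b ≤ n, ∀ (m : ℤ) (φ : E b ⟶ K⟦m⟧), φ = 0) → IsZero K)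
  (hP0 : ∀ K, IsZero K → P K) (hPgen : ∀ a ≤ n, ∀ m : ℤ, P ((E a)⟦m⟧))
  (hP2 : ∀ T ∈ distTriang D, P T.obj₁ → P T.obj₃ → P T.obj₂)

/-- The state after killing the first `a` members. -/
def Good (a : ℕ) (K : D) : Prop :=
  S K ∧ (∀ b < a, b ≤ n → ∀ (m : ℤ) (φ : E b ⟶ K⟦m⟧), φ = 0) ∧ ∀ c ≤ n, Fin' k (E c) K

/-- One killed class. -/
theorem exists_step {a : ℕ} (ha : a ≤ n) {K : D} (hK : Good (k := k) E n S a K) (m : ℤ)
    (φ : E a ⟶ K⟦m⟧) (hφ : φ ≠ 0)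
    (hsemi : ∀ b a : ℕ, b < a → a ≤ n → ∀ (m : ℤ) (φ : E b ⟶ (E a)⟦m⟧), φ = 0)
    (hself : ∀ a ≤ n, ∀ (m : ℤ), m ≠ 0 → ∀ φ : E a ⟶ (E a)⟦m⟧, φ = 0)
    (hend : ∀ a ≤ n, ∀ φ : E a ⟶ E a, ∃ r : k, φ = r • 𝟙 (E a))
    (hfin : ∀ c ≤ n, ∀ a ≤ n, Fin' k (E c) (E a))
    (hS : ∀ a ≤ n, ∀ m : ℤ, S ((E a)⟦m⟧))
    (hS3 : ∀ T ∈ distTriang D, S T.obj₁ → S T.obj₂ → S T.obj₃) :
    ∃ (K' : D) (u : (E a)⟦(-m)⟧ ⟶ K) (g : K ⟶ K') (h : K' ⟶ (E a)⟦(-m)⟧⟦(1 : ℤ)⟧),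
      Triangle.mk u g h ∈ distTriang D ∧ Good (k := k) E n S a K' ∧
      (∀ l : ℤ, Function.Surjective (post (k := k) (E a) g l)) ∧
      ∃ ψ : E a ⟶ K⟦m⟧, ψ ≠ 0 ∧ post (k := k) (E a) g m ψ = 0 := by
  let j : E a ≅ (E a)⟦(-m)⟧⟦m⟧ := ((shiftFunctorCompIsoId D (-m) m (by omega)).app (E a)).symm
  obtain ⟨u, hu⟩ : ∃ u : (E a)⟦(-m)⟧ ⟶ K, j.hom ≫ u⟦m⟧' = φ :=
    ⟨(shiftFunctor D m).preimage (j.inv ≫ φ), by rw [Functor.map_preimage, Iso.hom_inv_id_assoc]⟩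
  obtain ⟨K', g, h, hT⟩ := distinguished_cocone_triangle u
  have hT' := rot_of_distTriang _ hT
  obtain ⟨hKS, hKz, hKf⟩ := hK
  have hT'' := rot_of_distTriang _ hT'
  refine ⟨K', u, g, h, hT, ⟨hS3 _ hT (hS a ha _) hKS, fun b hb hbn l ψ => ?_, fun c hc => ?_⟩, fun l x => ?_, φ, hφ, ?_⟩
  · have hz : ψ ≫ h⟦l⟧' = 0 := by
      have e := ((shiftFunctorAdd' D (-m) (1 : ℤ) (-m + 1) rfl).symm.app (E a))
      have e' := (shiftFunctorAdd' D (-m + 1) l (-m + 1 + l) rfl).symm.app (E a)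
      rw [← cancel_mono ((shiftFunctor D l).map e.hom), ← cancel_mono e'.hom, zero_comp, zero_comp]
      exact hsemi b a hb ha _ _
    obtain ⟨y, rfl⟩ := exact₂ _ hT' l ψ hz
    rw [hKz b hb hbn l y, zero_comp]
  · exact Fin'.middle hT' (hKf c hc) ((((hfin c hc a ha)).shift (-m)).shift 1)
  · refine (exact₂ _ hT' l x ?_).imp fun y hy => hy
    let d : E a ⟶ (E a)⟦(-m)⟧⟦(1 : ℤ)⟧⟦l⟧ := x ≫ h⟦l⟧'
    change d = 0
    by_cases hl : 1 + l = m
    · obtain ⟨y, hy⟩ : ∃ y, d = y ≫ ((shiftFunctorAdd' D (1 : ℤ) l m hl).app ((E a)⟦(-m)⟧)).hom :=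
        ⟨d ≫ ((shiftFunctorAdd' D (1 : ℤ) l m hl).app _).inv, by simp⟩
      obtain ⟨r, hr⟩ := hend a ha (y ≫ j.inv)
      have hy' : y = r • j.hom := by
        have h1 := congr($hr ≫ j.hom)
        simpa using h1
      have h0 : (h ≫ u⟦(1 : ℤ)⟧') = 0 := comp_distTriang_mor_zero₃₁ _ hT
      have h2 : d ≫ (u⟦(1 : ℤ)⟧')⟦l⟧' = 0 := by
        rw [Category.assoc, ← Functor.map_comp, h0, Functor.map_zero, comp_zero]
      have h3 : (u⟦m⟧') ≫ ((shiftFunctorAdd' D (1 : ℤ) l m hl).app K).hom =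
          ((shiftFunctorAdd' D (1 : ℤ) l m hl).app ((E a)⟦(-m)⟧)).hom ≫ (u⟦(1 : ℤ)⟧')⟦l⟧' :=
        (shiftFunctorAdd' D (1 : ℤ) l m hl).hom.naturality u
      rw [hy, Category.assoc, ← h3, ← Category.assoc, hy', Linear.smul_comp, hu] at h2
      have h4 : r • φ = 0 := by
        rw [← cancel_mono ((shiftFunctorAdd' D (1 : ℤ) l m hl).app K).hom, zero_comp]
        exact h2
      rw [hy, hy', (smul_eq_zero.1 h4).resolve_right hφ, zero_smul, zero_comp]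
    · have e := ((shiftFunctorAdd' D (-m) (1 : ℤ) (-m + 1) rfl).symm.app (E a))
      have e' := (shiftFunctorAdd' D (-m + 1) l (-m + 1 + l) rfl).symm.app (E a)
      rw [← cancel_mono ((shiftFunctor D l).map e.hom), ← cancel_mono e'.hom, zero_comp, zero_comp]
      exact hself a ha _ (by omega) _
  · change φ ≫ g⟦m⟧' = 0
    have h0 : u ≫ g = 0 := comp_distTriang_mor_zero₁₂ _ hT
    rw [← hu, Category.assoc, ← Functor.map_comp, h0, Functor.map_zero, comp_zero]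

include hsemi hself hend hfin hS hS3 hPgen hP2 in
theorem kill_index {a : ℕ} (ha : a ≤ n) (hnext : ∀ K, Good (k := k) E n S (a + 1) K → P K) :
    ∀ K, Good (k := k) E n S a K → P K := by
  intro K hK
  obtain ⟨s, hs⟩ := (hK.2.2 a ha).2.exists_finset_coe
  have hs' : ∀ m, m ∉ s → ∀ φ : E a ⟶ K⟦m⟧, φ = 0 := fun m hm φ => by
    by_contra h
    exact hm (Finset.mem_coe.1 (hs ▸ nontrivial_iff.2 ⟨φ, h⟩ : m ∈ (s : Set ℤ)))
  clear hs
  induction s using Finset.induction_on generalizing K with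
  | empty =>
    refine hnext K ⟨hK.1, fun b hb hbn m φ => ?_, hK.2.2⟩
    rcases Nat.lt_succ_iff_lt_or_eq.1 hb with hb | rfl
    · exact hK.2.1 b hb hbn m φ
    · exact hs' m (Finset.notMem_empty m) φ
  | @insert m₀ s hm₀ ih =>
    suffices key : ∀ (N : ℕ) (K : D), Module.finrank k (E a ⟶ K⟦m₀⟧) = N → Good (k := k) E n S a K →
        (∀ m, m ∉ insert m₀ s → ∀ φ : E a ⟶ K⟦m⟧, φ = 0) → P K from key _ K rfl hK hs'
    intro N
    induction N using Nat.strong_induction_on with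
    | _ N ihN =>
      intro K hN hK hs'
      by_cases h0 : ∀ φ : E a ⟶ K⟦m₀⟧, φ = 0
      · refine ih K hK fun m hm φ => ?_
        rcases eq_or_ne m m₀ with rfl | hne
        · exact h0 φ
        · exact hs' m (by simp [hne, hm]) φ
      push Not at h0
      obtain ⟨φ, hφ⟩ := h0
      obtain ⟨K', u, g, h, hT, hK', hsurj, ψ, hψ, hgψ⟩ :=
        exists_step (k := k) E n S ha hK m₀ φ hφ hsemi hself hend hfin hS hS3
      refine hP2 _ hT (hPgen a ha _) (ihN _ ?_ K' rfl hK' fun m hm φ' => ?_)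
      · have := (hK.2.2 a ha).1 m₀
        rw [← hN]
        have hr := (post (k := k) (E a) g m₀).finrank_range_add_finrank_ker
        rw [LinearMap.range_eq_top.2 (hsurj m₀), finrank_top] at hr
        have : 0 < Module.finrank k (LinearMap.ker (post (k := k) (E a) g m₀)) := by
          rw [Module.finrank_pos_iff_exists_ne_zero]
          exact ⟨⟨ψ, hgψ⟩, fun h => hψ (congrArg Subtype.val h)⟩
        exact Nat.lt_of_lt_of_eq (Nat.lt_add_of_pos_right this) hr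
      · obtain ⟨φ₀, rfl⟩ := hsurj m φ'
        rw [hs' m hm φ₀, map_zero]

include hsemi hself hend hfin hS hS3 hgen hP0 hPgen hP2 in
/-- The dévissage. -/
theorem devissage (K : D) (hK : S K) (hKf : ∀ c ≤ n, Fin' k (E c) K) : P K := by
  suffices key : ∀ j a : ℕ, a + j = n + 1 → ∀ K, Good (k := k) E n S a K → P K from
    key (n + 1) 0 (by omega) K ⟨hK, fun b hb => absurd hb (by omega), hKf⟩
  intro j
  induction j with
  | zero =>
    intro a ha K hK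
    exact hP0 K (hgen K hK.1 fun b hb => hK.2.1 b (by omega) hb)
  | succ j ih =>
    intro a ha
    exact kill_index E n S P hsemi hself hend hfin hS hS3 hPgen hP2 (by omega) (ih (a + 1) (by omega))

end Groth.L07.BvdB
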