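import Groth.Agent.L07.BvdB.DualHom
import Groth.Agent.L29.K.CohSupp
import Groth.Agent.S6742
import Groth.Prelude.Def_SGA6
import Mathlib.Algebra.Homology.BifunctorShift

/-! The duality functor on perfect objects and its symmetric adjointness. -/

set_option autoImplicit false
set_option linter.style.haveILetI false
set_option backward.defeqAttrib.useBackward true
set_option backward.isDefEq.respectTransparency false
set_option backward.isDefEq.respectTransparency.types false

universe u
open CategoryTheory CategoryTheory.Limits AlgebraicGeometry Opposite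
attribute [local instance] HasDerivedCategory.standard

noncomputable section

namespace Groth.L07.BvdB.DualFun

open Groth.L00 Groth.L29 Groth.L29.DC Groth.L29.BCAdj

attribute [local instance] KFlat.hasLTensorCx RHom.hasRSheafHom

variable {X : Scheme.{u}}

local notation "Cx" => CochainComplex X.Modules ℤ
local notation "𝒬" => (DerivedCategory.Q : CochainComplex X.Modules ℤ ⥤ DerivedCategory X.Modules)
local notation "𝒲" => HomologicalComplex.quasiIso X.Modules (ComplexShape.up ℤ)

/-- Derived tensor products as a functor of the fixed factor. -/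
def lam : Cx ⥤ DCoh.D X ⥤ DCoh.D X where
  obj K := DCoh.LTensorCx K
  map g := RHom.ltMap g
  map_id K := by
    refine Functor.leftDerived_ext (DCoh.LTensorCx K) ((DCoh.tensorCxQ K).totalLeftDerivedCounit 𝒬 𝒲) 𝒲 _ _ _ ?_
    ext P
    change (RHom.ltMap (𝟙 K)).app _ ≫ _ = 𝟙 _ ≫ _
    rw [RHom.ltMap_fac, Category.id_comp]
    erw [CategoryTheory.Functor.map_id, CategoryTheory.Functor.map_id, Category.comp_id]
  map_comp {K K' K''} g g' := by
    refine Functor.leftDerived_ext (DCoh.LTensorCx K'') ((DCoh.tensorCxQ K'').totalLeftDerivedCounit 𝒬 𝒲) 𝒲 _ _ _ ?_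
    ext P
    change (RHom.ltMap (g ≫ g')).app _ ≫ _ = ((RHom.ltMap g).app _ ≫ (RHom.ltMap g').app _) ≫ _
    rw [RHom.ltMap_fac, Category.assoc, RHom.ltMap_fac]
    erw [reassoc_of% RHom.ltMap_fac g P]
    rw [Functor.map_comp, Functor.map_comp]

theorem lam_inverts : (HomologicalComplex.quasiIso X.Modules (ComplexShape.up ℤ)).IsInvertedBy (lam (X := X)) :=
  fun K K' g hg => by
    haveI : QuasiIso g := (HomologicalComplex.mem_quasiIso_iff _).1 hg
    exact RHom.isIso_ltMap g

/-- The derived tensor bifunctor. -/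
def dten : DCoh.D X ⥤ DCoh.D X ⥤ DCoh.D X := Localization.lift lam lam_inverts 𝒬

def eps : 𝒬 ⋙ dten (X := X) ≅ lam := Localization.fac lam lam_inverts 𝒬

/-- For a K-flat second argument the bifunctor is the tensor product with it. -/
def flipIso (B : Cx) (hB : DCoh.IsKFlat B) :
    (dten (X := X)).flip.obj (DerivedCategory.Q.obj B) ≅ DCoh.LTensorCx B :=
  haveI := fun K : Cx => Assoc.isIso_counit K B hB
  let e : 𝒬 ⋙ (dten (X := X)).flip.obj (DerivedCategory.Q.obj B) ≅ 𝒬 ⋙ DCoh.LTensorCx B :=
    NatIso.ofComponents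
      (fun K => ((eps (X := X)).app K).app _ ≪≫
        asIso (((DCoh.tensorCxQ K).totalLeftDerivedCounit 𝒬 𝒲).app B) ≪≫
        DerivedCategory.Q.mapIso (KFlat.commIso K B) ≪≫ ((Assoc.allIso B hB).app K).symm)
      (fun {K K'} g => by
        have h1 : ((dten (X := X)).map (DerivedCategory.Q.map g)).app (DerivedCategory.Q.obj B) ≫
            (eps.hom.app K').app _ = (eps.hom.app K).app _ ≫ (RHom.ltMap g).app (DerivedCategory.Q.obj B) :=
          congr_app ((eps (X := X)).hom.naturality g) _
        have h2 := RHom.ltMap_fac g B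
        have h3 : DerivedCategory.Q.map (((DCoh.tensorCx (X := X)).obj B).map g) ≫
              DerivedCategory.Q.map (KFlat.commIso K' B).hom =
            DerivedCategory.Q.map (KFlat.commIso K B).hom ≫
              DerivedCategory.Q.map (((DCoh.tensorCx (X := X)).map g).app B) := by
          rw [← Functor.map_comp, ← Functor.map_comp]
          exact congrArg _ (KFlat.commIso_natural g B)
        have h4 : DerivedCategory.Q.map (((DCoh.tensorCx (X := X)).map g).app B) ≫ (Assoc.allIso B hB).inv.app K' =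
            (Assoc.allIso B hB).inv.app K ≫ (DCoh.LTensorCx B).map (DerivedCategory.Q.map g) :=
          (Assoc.allIso B hB).inv.naturality g
        simp only [Iso.trans_hom, Iso.app_hom, asIso_hom, Functor.mapIso_hom, Iso.symm_hom, Iso.app_inv,
          Category.assoc, Functor.comp_map, Functor.flip_obj_map]
        erw [reassoc_of% h1, reassoc_of% h2, reassoc_of% h3, h4])
  Localization.liftNatIso 𝒬 𝒲 (𝒬 ⋙ (dten (X := X)).flip.obj (DerivedCategory.Q.obj B))
    (𝒬 ⋙ DCoh.LTensorCx B) _ _ e

/-- A K-flat representative. -/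
def rep (A : DCoh.D X) : Cx := (DualHom.exists_kflat_rep A).choose

theorem isKFlat_rep (A : DCoh.D X) : DCoh.IsKFlat (rep A) := (DualHom.exists_kflat_rep A).choose_spec.1

def repIso (A : DCoh.D X) : DerivedCategory.Q.obj (rep A) ≅ A :=
  (DualHom.exists_kflat_rep A).choose_spec.2.some

def objIso (A : DCoh.D X) : (dten (X := X)).obj A ≅ DCoh.LTensorCx (rep A) :=
  (dten (X := X)).mapIso (repIso A).symm ≪≫ eps.app (rep A)

def flipObjIso (M : DCoh.D X) : (dten (X := X)).flip.obj M ≅ DCoh.LTensorCx (rep M) :=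
  (dten (X := X)).flip.mapIso (repIso M).symm ≪≫ flipIso (rep M) (isKFlat_rep M)

/-- Symmetry, natural in the moving argument. -/
def swap (M : DCoh.D X) : (dten (X := X)).flip.obj M ≅ (dten (X := X)).obj M :=
  flipObjIso M ≪≫ (objIso M).symm

instance (A : DCoh.D X) : ((dten (X := X)).obj A).IsLeftAdjoint :=
  ((DCoh.RSheafHomAdj (rep A)).ofNatIsoLeft (objIso A).symm).isLeftAdjoint

instance (A : DCoh.D X) : ((dten (X := X)).obj A).Additive :=
  haveI := FiveRight.additive_left (DCoh.RSheafHomAdj (rep A))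
  Functor.additive_of_iso (objIso A).symm

instance (M : DCoh.D X) : ((dten (X := X)).flip.obj M).Additive :=
  Functor.additive_of_iso (swap M).symm

abbrev adjB (A : DCoh.D X) := Adjunction.ofIsLeftAdjoint ((dten (X := X)).obj A)

/-- The unit object. -/
def unit : DCoh.D X := DCoh.toD X (RHom.O0 X)

/-- The dual object. -/
abbrev dual (A : DCoh.D X) : DCoh.D X := ((dten (X := X)).obj A).rightAdjoint.obj unit

def dualIso (A : DCoh.D X) {K : Cx} (e : DerivedCategory.Q.obj K ≅ A) :
    dual A ≅ (DCoh.RSheafHom K).obj unit :=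
  (((adjB A).ofNatIsoLeft ((dten (X := X)).mapIso e.symm ≪≫ eps.app K)).rightAdjointUniq
    (DCoh.RSheafHomAdj K)).app _

def dualMap {A B : DCoh.D X} (f : A ⟶ B) : dual B ⟶ dual A :=
  (adjB A).homEquiv _ _ (((dten (X := X)).map f).app _ ≫ (adjB B).counit.app unit)

theorem symm_comp_dualMap {A B M : DCoh.D X} (f : A ⟶ B) (x : M ⟶ dual B) :
    ((adjB A).homEquiv M unit).symm (x ≫ dualMap f) =
      ((dten (X := X)).map f).app M ≫ ((adjB B).homEquiv M unit).symm x := by
  rw [dualMap, ← Adjunction.homEquiv_naturality_left, Equiv.symm_apply_apply, Adjunction.homEquiv_counit,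
    ← Category.assoc, ← Category.assoc]
  exact congrArg (· ≫ _) (((dten (X := X)).map f).naturality x)

theorem dualMap_id (A : DCoh.D X) : dualMap (𝟙 A) = 𝟙 (dual A) := by
  rw [dualMap, CategoryTheory.Functor.map_id]
  erw [Category.id_comp]
  exact (Adjunction.homEquiv_unit (adjB A) _ _ _).trans ((adjB A).right_triangle_components _)

theorem dualMap_comp {A B C : DCoh.D X} (f : A ⟶ B) (g : B ⟶ C) :
    dualMap (f ≫ g) = dualMap g ≫ dualMap f := by
  apply ((adjB A).homEquiv _ unit).symm.injective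
  rw [symm_comp_dualMap, dualMap, Equiv.symm_apply_apply, dualMap, Equiv.symm_apply_apply, Functor.map_comp,
    NatTrans.comp_app, Category.assoc]

/-- The symmetric adjunction. -/
def theta (M A : DCoh.D X) : (M ⟶ dual A) ≃ (A ⟶ dual M) :=
  ((adjB A).homEquiv M unit).symm.trans
    ((Iso.homCongr ((swap M).app A) (Iso.refl unit)).trans ((adjB M).homEquiv A unit))

theorem theta_apply (M A : DCoh.D X) (x : M ⟶ dual A) :
    theta M A x = (adjB M).homEquiv A unit ((swap M).inv.app A ≫ ((adjB A).homEquiv M unit).symm x) :=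
  congrArg ((adjB M).homEquiv A unit)
    (show (swap M).inv.app A ≫ ((adjB A).homEquiv M unit).symm x ≫ 𝟙 unit = _ by rw [Category.comp_id])

theorem theta_dualMap {A B M : DCoh.D X} (f : A ⟶ B) (x : M ⟶ dual B) :
    theta M A (x ≫ dualMap f) = f ≫ theta M B x := by
  rw [theta_apply, theta_apply, symm_comp_dualMap, ← Adjunction.homEquiv_naturality_left]
  refine congrArg _ ?_
  rw [← Category.assoc, ← Category.assoc]
  exact congrArg (· ≫ _) ((swap M).inv.naturality f).symm

theorem dualMap_add {A B : DCoh.D X} (f g : A ⟶ B) : dualMap (f + g) = dualMap f + dualMap g := by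
  apply (theta (dual B) A).injective
  have h := theta_dualMap (f + g) (𝟙 (dual B))
  rw [Category.id_comp, Preadditive.add_comp] at h
  rw [h]
  have hadd : ∀ x y : dual B ⟶ dual A, theta (dual B) A (x + y) = theta (dual B) A x + theta (dual B) A y := by
    intro x y
    rw [theta_apply, theta_apply, theta_apply]
    haveI : ((dten (X := X)).obj (dual B)).rightAdjoint.Additive := (adjB (dual B)).right_adjoint_additive
    simp only [Adjunction.homEquiv_counit, Adjunction.homEquiv_unit, Functor.map_add, Preadditive.add_comp,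
      Preadditive.comp_add]
  rw [hadd, ← theta_dualMap, ← theta_dualMap, Category.id_comp, Category.id_comp]

section Linear

variable {k : Type u} [Field k] [X.Over (Spec (CommRingCat.of k))]

instance (A : DCoh.D X) : ((dten (X := X)).obj A).Linear k :=
  haveI : (DCoh.LTensorCx (rep A)).Linear k := ⟨fun v r => (sl_LTensorCx (A := k) (rep A)).map_smul r v⟩
  Functor.linear_of_iso k (objIso A).symm

instance (M : DCoh.D X) : ((dten (X := X)).flip.obj M).Linear k :=
  Functor.linear_of_iso k (swap M).symm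

theorem right_smul (A : DCoh.D X) {P R : DCoh.D X} (r : k) (v : P ⟶ R) :
    ((dten (X := X)).obj A).rightAdjoint.map (r • v) = r • ((dten (X := X)).obj A).rightAdjoint.map v := by
  apply ((adjB A).homEquiv _ _).symm.injective
  rw [Adjunction.homEquiv_counit, Adjunction.homEquiv_counit, (adjB A).counit_naturality,
    Functor.map_smul (F := (dten (X := X)).obj A), Linear.smul_comp, (adjB A).counit_naturality, Linear.comp_smul]

/-- The symmetric adjunction, linearly. -/
def thetaL (M A : DCoh.D X) : (M ⟶ dual A) ≃ₗ[k] (A ⟶ dual M) :=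
  haveI : ((dten (X := X)).obj M).rightAdjoint.Additive := (adjB M).right_adjoint_additive
  { theta M A with
    map_add' := fun x y => by
      simp [theta, Adjunction.homEquiv_counit, Adjunction.homEquiv_unit, Iso.homCongr_apply]
    map_smul' := fun r x => by
      simp [theta, Adjunction.homEquiv_counit, Adjunction.homEquiv_unit, Iso.homCongr_apply, right_smul] }

theorem thetaL_dualMap {A B M : DCoh.D X} (f : A ⟶ B) (x : M ⟶ dual B) :
    thetaL (k := k) M A (x ≫ dualMap f) = f ≫ thetaL (k := k) M B x := theta_dualMap f x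

theorem dualMap_smul {A B : DCoh.D X} (r : k) (f : A ⟶ B) : dualMap (r • f) = r • dualMap f := by
  apply (thetaL (k := k) (dual B) A).injective
  have h := thetaL_dualMap (k := k) (r • f) (𝟙 (dual B))
  rw [Category.id_comp] at h
  rw [h, map_smul, Linear.smul_comp, ← thetaL_dualMap, Category.id_comp]

end Linear

/-- The dual of a perfect object is perfect. -/
theorem isPerfect_dual {A : DCoh.D X} (hA : DCoh.IsPerfect A) : DCoh.IsPerfect (dual A) :=
  isPerfect_of_iso (dualIso A (repIso A)).symm
    (EvalMain.isPerfect_dual (rep A) (isKFlat_rep A) (isPerfect_of_iso (repIso A).symm hA))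

/-- Biduality, objectwise. -/
theorem nonempty_bidual {A : DCoh.D X} (hA : DCoh.IsPerfect A) : Nonempty (dual (dual A) ≅ A) := by
  let K := rep A
  let D := rep (dual A)
  have hK : DCoh.IsKFlat K := isKFlat_rep A
  have hKp : DCoh.IsPerfect (DCoh.toD X K) := isPerfect_of_iso (repIso A).symm hA
  let d : DCoh.toD X D ≅ (DCoh.RSheafHom K).obj unit := repIso (dual A) ≪≫ dualIso A (repIso A)
  obtain ⟨u⟩ := RHom.nonempty_RSheafHom_O0 (X := X)
  obtain ⟨w⟩ := EvalMain.nonempty_eval K (RHom.O0 X) D hK hKp ⟨d⟩ (DCoh.toD X (RHom.O0 X))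
  exact ⟨dualIso (dual A) (repIso (dual A)) ≪≫
    (DerivedCategory.Q.mapIso ((RHom.flipIso (RHom.O0 X) ≪≫ RHom.unitCxIso).app K).symm ≪≫
      ((Assoc.allIso K hK).app (RHom.O0 X)).symm ≪≫ (DCoh.LTensorCx K).mapIso (u.app _).symm ≪≫ w).symm ≪≫
    repIso A⟩

/-- Tensoring with a shift. -/
def tensorShiftIso (K : Cx) (n : ℤ) :
    (DCoh.tensorCx (X := X)).flip.obj (K⟦n⟧) ≅ shiftFunctor Cx n ⋙ (DCoh.tensorCx (X := X)).flip.obj K :=
  NatIso.ofComponents
    (fun P => (((DCoh.tensorCx (X := X)).obj P).commShiftIso n).app K ≪≫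
      ((((DCoh.tensorCx (X := X)).flip.obj K).commShiftIso n).app P).symm)
    (fun {P P'} f => by
      simp only [Iso.trans_hom, Iso.app_hom, Iso.symm_hom, Iso.app_inv, Category.assoc]
      have h1 := NatTrans.shift_app_comm ((DCoh.tensorCx (X := X)).map f) n K
      have h2 := (((DCoh.tensorCx (X := X)).flip.obj K).commShiftIso n).inv.naturality f
      erw [← reassoc_of% h1, h2])

/-- The dual of a shift. -/
theorem nonempty_dual_shift (A : DCoh.D X) (n : ℤ) : Nonempty (dual (A⟦n⟧) ≅ (dual A)⟦-n⟧) := by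
  let K := rep A
  have hK : DCoh.IsKFlat K := isKFlat_rep A
  have hKn : DCoh.IsKFlat (K⟦n⟧) := KFlat.shift K n hK
  let e : 𝒬 ⋙ DCoh.LTensorCx (K⟦n⟧) ≅ 𝒬 ⋙ shiftFunctor (DCoh.D X) n ⋙ DCoh.LTensorCx K :=
    Assoc.allIso _ hKn ≪≫ Functor.isoWhiskerRight (tensorShiftIso K n) _ ≪≫
      Functor.associator _ _ _ ≪≫ Functor.isoWhiskerLeft _ (Assoc.allIso K hK).symm ≪≫
      (Functor.associator _ _ _).symm ≪≫ Functor.isoWhiskerRight (DerivedCategory.Q.commShiftIso n) _ ≪≫
      Functor.associator _ _ _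
  let t : DCoh.LTensorCx (K⟦n⟧) ≅ shiftFunctor (DCoh.D X) n ⋙ DCoh.LTensorCx K :=
    Localization.liftNatIso 𝒬 𝒲 (𝒬 ⋙ DCoh.LTensorCx (K⟦n⟧))
      (𝒬 ⋙ shiftFunctor (DCoh.D X) n ⋙ DCoh.LTensorCx K) _ _ e
  let a := ((shiftEquiv (DCoh.D X) n).toAdjunction.comp (DCoh.RSheafHomAdj K)).ofNatIsoLeft t.symm
  let q : DerivedCategory.Q.obj (K⟦n⟧) ≅ A⟦n⟧ :=
    (DerivedCategory.Q.commShiftIso n).app K ≪≫ (shiftFunctor _ n).mapIso (repIso A)
  exact ⟨dualIso _ q ≪≫ ((DCoh.RSheafHomAdj (K⟦n⟧)).rightAdjointUniq a).app _ ≪≫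
    (shiftFunctor _ (-n)).mapIso (dualIso A (repIso A)).symm⟩

end Groth.L07.BvdB.DualFun
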