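import Groth.Agent.L29.BCAdj.HomFinite
import Groth.Agent.L29.DCoh.EvalMain

/-! Homs out of perfect objects as global sections of tensor products with the dual. -/

set_option autoImplicit false
set_option linter.style.haveILetI false
set_option backward.defeqAttrib.useBackward true
set_option backward.isDefEq.respectTransparency false
set_option backward.isDefEq.respectTransparency.types false

universe u
open CategoryTheory CategoryTheory.Limits AlgebraicGeometry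
attribute [local instance] HasDerivedCategory.standard

noncomputable section

namespace Groth.L07.BvdB.DualHom

open Groth.L00 Groth.L29 Groth.L29.DC Groth.L29.BCAdj

variable {X : Scheme.{u}}

theorem nonempty_lt_swap {A B : CochainComplex X.Modules ℤ} (hA : DCoh.IsKFlat A) (hB : DCoh.IsKFlat B)
    [DCoh.HasLTensorCx A] [DCoh.HasLTensorCx B] :
    Nonempty ((DCoh.LTensorCx A).obj (DCoh.toD X B) ≅ (DCoh.LTensorCx B).obj (DCoh.toD X A)) := by
  haveI := BC.LTExact.isIso_cnt A hB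
  haveI := BC.LTExact.isIso_cnt B hA
  exact ⟨asIso (BC.LTExact.cnt A B) ≪≫ DerivedCategory.Q.mapIso (KFlat.commIso B A) ≪≫
    (asIso (BC.LTExact.cnt B A)).symm⟩

theorem exists_kflat_rep (M : DCoh.D X) :
    ∃ P : CochainComplex X.Modules ℤ, DCoh.IsKFlat P ∧ Nonempty (DCoh.toD X P ≅ M) := by
  obtain ⟨P, q, hP, -, hq, -⟩ := KFlat.exists_resolution (DerivedCategory.Q.objPreimage M)
  haveI := (DerivedCategory.isIso_Q_map_iff_quasiIso _ q).2 hq
  exact ⟨P, hP, ⟨asIso (DerivedCategory.Q.map q) ≪≫ DerivedCategory.Q.objObjPreimageIso M⟩⟩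

variable {k : Type u} [Field k] [X.Over (Spec (CommRingCat.of k))]

/-- Global sections of internal Hom are the Homs, linearly over the base. -/
theorem nonempty_homOD (E : CochainComplex X.Modules ℤ) [DCoh.HasLTensorCx E] [DCoh.HasRSheafHom E]
    (M : DCoh.D X) :
    Nonempty ((DCoh.toD X E ⟶ M) ≃ₗ[k] (OD X ⟶ (DCoh.RSheafHom E).obj M)) := by
  let oQ : DerivedCategory.Q.obj (RHom.O0 X) ≅ OD X :=
    (((SingleFunctors.evaluation _ _ 0).mapIso
      (DerivedCategory.singleFunctorsPostcompQIso X.Modules)).app (Coh.structureModule X)).symm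
  haveI := BC.LTExact.isIso_cnt E (isKFlat_of_isStrictlyPerfect (RHom.isStrictlyPerfect_O0 (X := X)))
  let eU : (DCoh.LTensorCx E).obj (OD X) ≅ DCoh.toD X E :=
    (DCoh.LTensorCx E).mapIso oQ.symm ≪≫ asIso (BC.LTExact.cnt E (RHom.O0 X)) ≪≫
      DerivedCategory.Q.mapIso (KFlat.commIso (RHom.O0 X) E ≪≫ BC.PFNat.unitL E)
  haveI := FiveRight.additive_left (DCoh.RSheafHomAdj E)
  haveI : (DCoh.RSheafHom E).Additive := (DCoh.RSheafHomAdj E).right_adjoint_additive
  let a : ((DCoh.LTensorCx E).obj (OD X) ⟶ M) ≃ₗ[k] (OD X ⟶ (DCoh.RSheafHom E).obj M) :=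
    { (DCoh.RSheafHomAdj E).homEquiv (OD X) M with
      map_add' := fun u v => by simp [Adjunction.homEquiv_unit]
      map_smul' := fun r u => by simp [Adjunction.homEquiv_unit, RSheafHom_smul] }
  exact ⟨(Linear.homCongr k eU.symm (Iso.refl M)).trans a⟩

/-- Homs out of a perfect object are sections of the tensor product with its dual. -/
theorem exists_dual (F : DCoh.D X) (hF : DCoh.IsPerfect F) :
    ∃ (D : CochainComplex X.Modules ℤ) (_ : DCoh.IsKFlat D), DCoh.IsPerfect (DCoh.toD X D) ∧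
      ∀ [DCoh.HasLTensorCx D] (M : DCoh.D X),
        Nonempty ((F ⟶ M) ≃ₗ[k] (OD X ⟶ (DCoh.LTensorCx D).obj M)) := by
  obtain ⟨K, hK, ⟨e⟩⟩ := exists_kflat_rep F
  haveI := KFlat.hasLTensorCx K
  haveI := RHom.hasRSheafHom K
  have hKp : DCoh.IsPerfect (DCoh.toD X K) := isPerfect_of_iso e.symm hF
  obtain ⟨D, hD, ⟨d⟩⟩ := exists_kflat_rep ((DCoh.RSheafHom K).obj (DCoh.toD X (RHom.O0 X)))
  refine ⟨D, hD, isPerfect_of_iso d.symm (EvalMain.isPerfect_dual K hK hKp), fun {_} M => ?_⟩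
  obtain ⟨a⟩ := nonempty_homOD (k := k) K M
  obtain ⟨b⟩ := EvalMain.nonempty_dual K D hK hKp hD ⟨d⟩ M
  exact ⟨(Linear.homCongr k e.symm (Iso.refl M)).trans (a.trans (Linear.homCongr k (Iso.refl _) b.symm))⟩

/-- Every perfect object is a dual. -/
theorem exists_predual (P : DCoh.D X) (hP : DCoh.IsPerfect P) :
    ∃ (D : CochainComplex X.Modules ℤ) (E : DCoh.D X) (_ : DCoh.IsKFlat D),
      Nonempty (DCoh.toD X D ≅ P) ∧ DCoh.IsPerfect E ∧
      ∀ [DCoh.HasLTensorCx D] (M : DCoh.D X),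
        Nonempty ((E ⟶ M) ≃ₗ[k] (OD X ⟶ (DCoh.LTensorCx D).obj M)) := by
  obtain ⟨K, hK, ⟨e⟩⟩ := exists_kflat_rep P
  haveI := KFlat.hasLTensorCx K
  haveI := RHom.hasRSheafHom K
  have hKp : DCoh.IsPerfect (DCoh.toD X K) := isPerfect_of_iso e.symm hP
  obtain ⟨D, hD, ⟨d⟩⟩ := exists_kflat_rep ((DCoh.RSheafHom K).obj (DCoh.toD X (RHom.O0 X)))
  have hDp : DCoh.IsPerfect (DCoh.toD X D) := isPerfect_of_iso d.symm (EvalMain.isPerfect_dual K hK hKp)
  haveI := KFlat.hasLTensorCx D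
  haveI := RHom.hasRSheafHom D
  haveI := KFlat.hasLTensorCx (RHom.O0 X)
  haveI := RHom.hasRSheafHom (RHom.O0 X)
  obtain ⟨u⟩ := RHom.nonempty_RSheafHom_O0 (X := X)
  obtain ⟨w⟩ := EvalMain.nonempty_eval K (RHom.O0 X) D hK hKp ⟨d⟩ (DCoh.toD X (RHom.O0 X))
  let v : DCoh.toD X K ≅ (DCoh.RSheafHom D).obj (DCoh.toD X (RHom.O0 X)) :=
    DerivedCategory.Q.mapIso ((RHom.flipIso (RHom.O0 X) ≪≫ RHom.unitCxIso).app K).symm ≪≫
      ((Assoc.allIso K hK).app (RHom.O0 X)).symm ≪≫ (DCoh.LTensorCx K).mapIso (u.app _).symm ≪≫ w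
  refine ⟨K, DCoh.toD X D, hK, ⟨e⟩, hDp, fun {_} M => ?_⟩
  obtain ⟨a⟩ := nonempty_homOD (k := k) D M
  obtain ⟨b⟩ := EvalMain.nonempty_dual D K hD hDp hK ⟨v⟩ M
  exact ⟨a.trans (Linear.homCongr k (Iso.refl _) b.symm)⟩

end Groth.L07.BvdB.DualHom
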