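import Groth.Agent.L07.BvdB.FibreNakayama
import Groth.Agent.L07.BvdB.DualHom
import Groth.Agent.L07.BvdB.DualFun
import Groth.Agent.L29.BCAdj.HomFlat
import Groth.Agent.L29.DCoh.ClosedProj
import Groth.Agent.Lead.GammaHom
import Groth.Agent.S1005

/-! Fibre cohomology at a closed point read off from morphisms. -/

set_option autoImplicit false
set_option linter.style.haveILetI false
set_option backward.defeqAttrib.useBackward true
set_option backward.isDefEq.respectTransparency false
set_option backward.isDefEq.respectTransparency.types false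

universe u
open CategoryTheory CategoryTheory.Limits AlgebraicGeometry Opposite
attribute [local instance] HasDerivedCategory.standard

noncomputable section

namespace Groth.L07.BvdB.FibreHom

open Groth.L00 Groth.L29 Groth.L29.DC Groth.L29.BCAdj PointSky PointHom

/-- A map from a projective object to a cohomology object gives a map in the derived category. -/
theorem exists_hom_single {C : Type*} [Category C] [Abelian C] [HasDerivedCategory C] {P : C} [Projective P]
    (K : DerivedCategory C) (j : ℤ) (g : P ⟶ (DerivedCategory.homologyFunctor C j).obj K) (hg : g ≠ 0) :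
    ∃ φ : (DerivedCategory.singleFunctor C j).obj P ⟶ K, φ ≠ 0 := by
  let L := DerivedCategory.Q.objPreimage K
  let e := DerivedCategory.Q.objObjPreimageIso K
  let a : (DerivedCategory.homologyFunctor C j).obj K ≅ L.homology j :=
    (DerivedCategory.homologyFunctor C j).mapIso e.symm ≪≫
      (DerivedCategory.homologyFunctorFactors C j).app L
  let z : P ⟶ L.cycles j := Projective.factorThru (g ≫ a.hom) (L.homologyπ j)
  let ψ : (HomologicalComplex.single C (ComplexShape.up ℤ) j).obj P ⟶ L :=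
    HomologicalComplex.mkHomFromSingle (z ≫ L.iCycles j) fun k _ => by simp
  have hψ : HomologicalComplex.homologyMap ψ j =
      (HomologicalComplex.singleObjHomologySelfIso (ComplexShape.up ℤ) j P).hom ≫ g ≫ a.hom := by
    rw [← cancel_epi (((HomologicalComplex.single C (ComplexShape.up ℤ) j).obj P).homologyπ j),
      HomologicalComplex.homologyπ_naturality, ← Category.assoc,
      HomologicalComplex.homologyπ_singleObjHomologySelfIso_hom, ← Projective.factorThru_comp (g ≫ a.hom) (L.homologyπ j),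
      ← Category.assoc]
    congr 1
    rw [← cancel_mono (L.iCycles j), HomologicalComplex.cyclesMap_i, ← cancel_epi (HomologicalComplex.singleObjCyclesSelfIso (ComplexShape.up ℤ) j P).inv]
    simp [ψ, z]
  refine ⟨((DerivedCategory.singleFunctorIsoCompQ C j).app P).hom ≫ DerivedCategory.Q.map ψ ≫ e.hom, fun h => hg ?_⟩
  have h1 : DerivedCategory.Q.map ψ = 0 := by
    rw [← cancel_mono e.hom, ← cancel_epi ((DerivedCategory.singleFunctorIsoCompQ C j).app P).hom, zero_comp, comp_zero]
    exact h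
  have h2 : HomologicalComplex.homologyMap ψ j = 0 := by
    rw [← cancel_epi (((DerivedCategory.homologyFunctorFactors C j).app _).hom), comp_zero]
    exact ((DerivedCategory.homologyFunctorFactors C j).hom.naturality ψ).symm.trans (by
      show (DerivedCategory.homologyFunctor C j).map _ ≫ _ = 0
      rw [h1, Functor.map_zero, zero_comp])
  rw [← cancel_mono a.hom, ← cancel_epi (HomologicalComplex.singleObjHomologySelfIso (ComplexShape.up ℤ) j P).hom,
    zero_comp, comp_zero, ← hψ, h2]

variable {X : Scheme.{u}}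

/-- The structure module of a one point scheme is projective. -/
theorem projective_structureModule {Z : Scheme.{u}} [Subsingleton Z] (z : Z) :
    Projective (Coh.structureModule Z) := by
  refine ⟨fun {M N} g f hf => ?_⟩
  haveI : Epi ((Groth.L21.Mod.stalkF Z z).map f) := inferInstance
  obtain ⟨t, ht⟩ : ∃ t : Γ(M, ⊤), f.app ⊤ t = Groth.L18.GenLoc.secOf g := by
    obtain ⟨v, hv⟩ := (AddCommGrpCat.epi_iff_surjective ((Groth.L21.Mod.stalkF Z z).map f)).1 inferInstance
      (N.presheaf.germ ⊤ z trivial (Groth.L18.GenLoc.secOf g))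
    obtain ⟨t, rfl⟩ := (Groth.L29.DC.Fib.germ_top_bijective_mod z M).2 v
    refine ⟨t, (Groth.L29.DC.Fib.germ_top_bijective_mod z N).1 ?_⟩
    refine Eq.trans ?_ hv
    exact (TopCat.Presheaf.stalkFunctor_map_germ_apply ⊤ z trivial f.mapPresheaf t).symm
  refine ⟨Groth.L16.homOfSection M t, ?_⟩
  rw [← Groth.L18.GenLoc.homOfSection_secOf g, ← Groth.L18.GenLoc.homOfSection_secOf (Groth.L16.homOfSection M t ≫ f)]
  refine congrArg _ (Eq.trans ?_ ht)
  change f.app ⊤ (Groth.L18.GenLoc.secOf (Groth.L16.homOfSection M t)) = f.app ⊤ t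
  rw [Groth.L18.GenLoc.secOf_homOfSection]

/-- Fibre cohomology vanishes if the structure sheaf does not map to it. -/
theorem betti_eq_zero (K : DCoh.D X) (x : X) [DCoh.HasLpull (X.fromSpecResidueField x)] (i : ℤ)
    (h : ∀ φ : OD (Spec (X.residueField x)) ⟶ ((DCoh.Lpull (X.fromSpecResidueField x)).obj K)⟦i⟧, φ = 0) :
    PerfD.betti K x i = 0 := by
  let Z := Spec (X.residueField x)
  let L := (DCoh.Lpull (X.fromSpecResidueField x)).obj K
  let z := Groth.L29.DC.Fib.pt x
  haveI : Projective (Coh.structureModule Z) := projective_structureModule z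
  by_contra hb
  rw [Groth.L29.DC.Fib.betti_eq_bfib] at hb
  obtain ⟨v, hv⟩ : ∃ v : (DerSch.stalkFunctor Z z).obj (DCoh.HD L i), v ≠ 0 := by
    by_contra hv
    push Not at hv
    haveI : Subsingleton ((DerSch.stalkFunctor Z z).obj (DCoh.HD L i)) := ⟨fun a b => (hv a).trans (hv b).symm⟩
    exact hb (Module.finrank_zero_of_subsingleton)
  obtain ⟨t, ht⟩ := (Groth.L29.DC.Fib.germ_top_bijective_mod z (DCoh.HD L i)).2 v
  let σ : (DerivedCategory.homologyFunctor Z.Modules i).obj L ≅
      (DerivedCategory.homologyFunctor Z.Modules 0).obj (L⟦i⟧) :=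
    (((DerivedCategory.homologyFunctor Z.Modules 0).shiftIso i 0 i (by omega)).app L).symm
  obtain ⟨φ, hφ⟩ := exists_hom_single (L⟦i⟧) 0 (Groth.L16.homOfSection _ t ≫ σ.hom) (fun h0 => hv (by
    have h1 : Groth.L16.homOfSection (DCoh.HD L i) t = 0 := by
      rw [← cancel_mono σ.hom, zero_comp]; exact h0
    rw [← ht, show t = 0 by
      rw [← Groth.L18.GenLoc.secOf_homOfSection t, h1]
      rfl]
    exact map_zero _))
  exact hφ (h φ)

/-- Tensoring the point with a K-flat complex computes in the fibre. -/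
theorem nonempty_fibre_equiv {x : X} (hx : IsClosed ({x} : Set X)) (P : CochainComplex X.Modules ℤ)
    (hP : DCoh.IsKFlat P) [DCoh.HasLTensorCx P] [DCoh.HasLpull (X.fromSpecResidueField x)] (i : ℤ) :
    Nonempty ((OD X ⟶ ((DCoh.LTensorCx P).obj (ptD x))⟦i⟧) ≃ (OD (Spec (X.residueField x)) ⟶
      ((DCoh.Lpull (X.fromSpecResidueField x)).obj (DCoh.toD X P))⟦i⟧)) := by
  let f := X.fromSpecResidueField x
  haveI : IsClosedImmersion f := isClosed_singleton_iff_isClosedImmersion.mp hx
  haveI := RpushQC.hasRpush f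
  haveI := ClosedPC.additive f
  haveI := ClosedPC.exactLeft f
  haveI := ClosedPC.exactRight f
  letI := Gen.commShiftRpush f
  let Pf := ((Scheme.Modules.pullback f).mapHomologicalComplex (ComplexShape.up ℤ)).obj P
  haveI := KFlat.hasLTensorCx Pf
  obtain ⟨e₀⟩ := Groth.Lead.ClosedRpush.nonempty_Rpush_iso_pD f (DCoh.inD _ (Coh.structureModule _))
  let e₁ : ptD x ≅ (DCoh.Rpush f).obj (OD (Spec (X.residueField x))) :=
    (e₀ ≪≫ ((Scheme.Modules.pushforward f).mapDerivedCategorySingleFunctor 0).app (Coh.structureModule _)).symm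
  obtain ⟨e₂⟩ := ClosedProj.nonempty_projection f P hP (OD (Spec (X.residueField x)))
  haveI := BC.LTExact.isIso_cnt Pf (isKFlat_of_isStrictlyPerfect (RHom.isStrictlyPerfect_O0 (X := Spec (X.residueField x))))
  let oQ : DerivedCategory.Q.obj (RHom.O0 (Spec (X.residueField x))) ≅ OD (Spec (X.residueField x)) :=
    (((SingleFunctors.evaluation _ _ 0).mapIso
      (DerivedCategory.singleFunctorsPostcompQIso _)).app (Coh.structureModule _)).symm
  let eU : (DCoh.LTensorCx Pf).obj (OD (Spec (X.residueField x))) ≅ DCoh.toD _ Pf :=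
    (DCoh.LTensorCx Pf).mapIso oQ.symm ≪≫ asIso (BC.LTExact.cnt Pf _) ≪≫
      DerivedCategory.Q.mapIso (KFlat.commIso (RHom.O0 (Spec (X.residueField x))) Pf ≪≫ BC.PFNat.unitL Pf)
  let eL : (DCoh.LTensorCx Pf).obj (OD (Spec (X.residueField x))) ≅ (DCoh.Lpull f).obj (DCoh.toD X P) :=
    eU ≪≫ (DerivedApi.objIso (DerivedApi.acyclicKFlat_pullback f) P hP).symm
  let e : ((DCoh.LTensorCx P).obj (ptD x))⟦i⟧ ≅
      (DCoh.Rpush f).obj (((DCoh.Lpull f).obj (DCoh.toD X P))⟦i⟧) :=
    (shiftFunctor (DCoh.D X) i).mapIso ((DCoh.LTensorCx P).mapIso e₁ ≪≫ e₂ ≪≫ (DCoh.Rpush f).mapIso eL) ≪≫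
      (((DCoh.Rpush f).commShiftIso i).app _).symm
  obtain ⟨o⟩ := nonempty_Lpull_OD f
  haveI : (DCoh.Lpull f).Additive := by
    haveI := (Groth.L29.BC.adj f).leftAdjoint_preservesColimits
    haveI : PreservesFiniteCoproducts (DCoh.Lpull f) := ⟨fun n => inferInstance⟩
    haveI := preservesBinaryBiproducts_of_preservesBinaryCoproducts (DCoh.Lpull f)
    exact Functor.additive_of_preservesBinaryBiproducts _
  haveI : (DCoh.Rpush f).Additive := (Groth.L29.BC.adj f).right_adjoint_additive
  let E := (Iso.homCongr (Iso.refl (OD X)) e).trans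
    (((Groth.L29.BC.adj f).homEquiv _ _).symm.trans (Iso.homCongr o (Iso.refl _)))
  exact ⟨E⟩

/-- Vanishing passes to the fibre. -/
theorem zero_fibre_of_zero_tensor {x : X} (hx : IsClosed ({x} : Set X)) (P : CochainComplex X.Modules ℤ)
    (hP : DCoh.IsKFlat P) [DCoh.HasLTensorCx P] [DCoh.HasLpull (X.fromSpecResidueField x)] (i : ℤ)
    (h : ∀ φ : OD X ⟶ ((DCoh.LTensorCx P).obj (ptD x))⟦i⟧, φ = 0)
    (φ : OD (Spec (X.residueField x)) ⟶
      ((DCoh.Lpull (X.fromSpecResidueField x)).obj (DCoh.toD X P))⟦i⟧) : φ = 0 := by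
  obtain ⟨E⟩ := nonempty_fibre_equiv hx P hP i
  exact E.symm.injective ((h _).trans (h _).symm)

/-- Maps to the point are the fibre of the dual. -/
theorem nonempty_hom_pt_equiv {k : Type u} [Field k] [X.Over (Spec (CommRingCat.of k))]
    {x : X} (hx : IsClosed ({x} : Set X)) [DCoh.HasLpull (X.fromSpecResidueField x)]
    (A : DCoh.D X) (hA : DCoh.IsPerfect A) :
    Nonempty ((A ⟶ ptD x) ≃ (OD (Spec (X.residueField x)) ⟶
      ((DCoh.Lpull (X.fromSpecResidueField x)).obj (DualFun.dual A))⟦(0 : ℤ)⟧)) := by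
  let K' := DualFun.rep A
  have hK' := DualFun.isKFlat_rep A
  let e' : DCoh.toD X K' ≅ A := DualFun.repIso A
  haveI := KFlat.hasLTensorCx K'
  haveI := RHom.hasRSheafHom K'
  let B := DualFun.dual A
  let D := DualFun.rep B
  have hD := DualFun.isKFlat_rep B
  haveI := KFlat.hasLTensorCx D
  let eD : DCoh.toD X D ≅ B := DualFun.repIso B
  obtain ⟨a⟩ := DualHom.nonempty_homOD (k := k) K' (ptD x)
  obtain ⟨b⟩ := EvalMain.nonempty_dual K' D hK' (isPerfect_of_iso e'.symm hA) hD
    ⟨eD ≪≫ DualFun.dualIso A e'⟩ (ptD x)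
  obtain ⟨E⟩ := nonempty_fibre_equiv hx D hD 0
  exact ⟨(Iso.homCongr e'.symm (Iso.refl _)).trans (a.toEquiv.trans
    ((Iso.homCongr (Iso.refl _) (b.symm ≪≫ ((shiftFunctorZero (DCoh.D X) ℤ).app _).symm)).trans (E.trans
      (Iso.homCongr (Iso.refl _) ((shiftFunctor _ (0 : ℤ)).mapIso
        ((DCoh.Lpull (X.fromSpecResidueField x)).mapIso eD))))))⟩

end Groth.L07.BvdB.FibreHom
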