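import Groth.Agent.L07.BvdB.PointSky
import Groth.Agent.L29.BC.Global
import Groth.Agent.L29.DCoh.Gen.RpushTri
import Groth.Agent.L29.DCoh.RpushQC
import Groth.Agent.L29.DCoh.QCohLocal
import Groth.Agent.L29.DCoh.RHomBound
import Groth.Agent.L29.DCoh.RHomCoh
import Groth.Agent.L29.K.CohSupp
import Groth.Agent.Lead.ClosedRpush

/-! Homs between bounded coherent objects and closed points. -/

set_option autoImplicit false
set_option linter.style.haveILetI false
set_option backward.defeqAttrib.useBackward true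
set_option backward.isDefEq.respectTransparency false
set_option backward.isDefEq.respectTransparency.types false

universe u
open CategoryTheory CategoryTheory.Limits CategoryTheory.Pretriangulated AlgebraicGeometry
attribute [local instance] HasDerivedCategory.standard

noncomputable section

namespace Groth.L07.BvdB.PointHom

open Groth.L00 Groth.L29.DC Groth.L29.DC.Gen PointSky

variable {X : Scheme.{u}}

/-- The point object. -/
abbrev ptD (x : X) : DCoh.D X := DCoh.inD X (pt x)

theorem nonempty_pointEquiv {Z W : Scheme.{u}} (i : Z ⟶ W) [IsClosedImmersion i] [DCoh.HasLpull i]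
    (K : DCoh.D W) (M : Z.Modules) (m : ℤ) :
    Nonempty ((K ⟶ (DCoh.inD W ((Scheme.Modules.pushforward i).obj M))⟦m⟧) ≃
      ((DCoh.Lpull i).obj K ⟶ (DCoh.inD Z M)⟦m⟧)) := by
  haveI := RpushQC.hasRpush i
  haveI := ClosedPC.additive i
  haveI := ClosedPC.exactLeft i
  haveI := ClosedPC.exactRight i
  letI := commShiftRpush i
  obtain ⟨e⟩ := Groth.Lead.ClosedRpush.nonempty_Rpush_iso_pD i (DCoh.inD Z M)
  let e' : (DCoh.Rpush i).obj ((DCoh.inD Z M)⟦m⟧) ≅ (DCoh.inD W ((Scheme.Modules.pushforward i).obj M))⟦m⟧ :=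
    ((DCoh.Rpush i).commShiftIso m).app (DCoh.inD Z M) ≪≫ (shiftFunctor (DCoh.D W) m).mapIso
      (e ≪≫ ((Scheme.Modules.pushforward i).mapDerivedCategorySingleFunctor 0).app M)
  exact ⟨((Iso.homCongr (Iso.refl K) e'.symm).trans ((Groth.L29.BC.adj i).homEquiv _ _).symm)⟩

/-- A map out of the top cohomology gives a map out of the object. -/
theorem exists_top_hom (K : DCoh.D X) (i : ℤ) [K.IsLE i] {M : X.Modules} (g : DCoh.HD K i ⟶ M) (hg : g ≠ 0) :
    ∃ φ : K ⟶ (DCoh.inD X M)⟦-i⟧, φ ≠ 0 := by
  let T := (DerivedCategory.TStructure.t (C := X.Modules))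
  let R := (T.truncGE i).obj K
  haveI hπ := Groth.L10.isIso_H_π (A := X.Modules) i i le_rfl K
  haveI : DerivedCategory.IsGE R i := inferInstance
  haveI : DerivedCategory.IsLE R i := by
    rw [DerivedCategory.isLE_iff]
    intro j hj
    have := Groth.L10.isIso_H_π (A := X.Modules) i j (by omega) K
    exact (DerivedCategory.isZero_of_isLE K i j hj).of_iso
      (asIso ((DerivedCategory.homologyFunctor X.Modules j).map ((T.truncGEπ i).app K))).symm
  obtain ⟨N, ⟨e⟩⟩ := DerivedCategory.exists_iso_singleFunctor_obj_of_isGE_of_isLE R i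
  let c := DerivedCategory.singleFunctorCompHomologyFunctorIso X.Modules i
  let a : DCoh.HD K i ≅ N := asIso ((DerivedCategory.homologyFunctor X.Modules i).map ((T.truncGEπ i).app K)) ≪≫
    (DerivedCategory.homologyFunctor X.Modules i).mapIso e ≪≫ c.app N
  let σ : (DerivedCategory.singleFunctor X.Modules i).obj M ≅ (DCoh.inD X M)⟦-i⟧ :=
    (((DerivedCategory.singleFunctors X.Modules).shiftIso (-i) i 0 (by omega)).app M).symm
  refine ⟨(T.truncGEπ i).app K ≫ e.hom ≫ (DerivedCategory.singleFunctor X.Modules i).map (a.inv ≫ g) ≫ σ.hom,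
    fun h => hg ?_⟩
  have h' : (T.truncGEπ i).app K ≫ e.hom ≫ (DerivedCategory.singleFunctor X.Modules i).map (a.inv ≫ g) = 0 := by
    rw [← cancel_mono σ.hom, zero_comp, Category.assoc, Category.assoc]
    exact h
  have hh := congrArg (DerivedCategory.homologyFunctor X.Modules i).map h'
  rw [Functor.map_comp, Functor.map_comp, Functor.map_zero] at hh
  have h2 : (DerivedCategory.homologyFunctor X.Modules i).map
      ((DerivedCategory.singleFunctor X.Modules i).map (a.inv ≫ g)) = 0 := by
    rw [← cancel_epi ((DerivedCategory.homologyFunctor X.Modules i).map e.hom),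
      ← cancel_epi ((DerivedCategory.homologyFunctor X.Modules i).map ((T.truncGEπ i).app K)), comp_zero, comp_zero]
    exact hh
  have h3 : a.inv ≫ g = 0 := by
    rw [← cancel_epi (c.hom.app N), comp_zero]
    exact (c.hom.naturality (a.inv ≫ g)).symm.trans (by
      show (DerivedCategory.homologyFunctor X.Modules i).map _ ≫ _ = 0
      rw [h2]; exact zero_comp)
  rwa [← cancel_epi a.inv, comp_zero]

/-- The point, inside an open neighbourhood. -/
def liftPt (U : X.Opens) (x : X) (hxU : x ∈ U) : Spec (X.residueField x) ⟶ U.toScheme :=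
  IsOpenImmersion.lift U.ι (X.fromSpecResidueField x) (by
    rw [Scheme.range_fromSpecResidueField, Scheme.Opens.range_ι]
    exact Set.singleton_subset_iff.2 hxU)

theorem liftPt_ι (U : X.Opens) (x : X) (hxU : x ∈ U) : liftPt U x hxU ≫ U.ι = X.fromSpecResidueField x :=
  IsOpenImmersion.lift_fac _ _ _

/-- The structure sheaf of the point on the neighbourhood. -/
abbrev ptLoc (U : X.Opens) (x : X) (hxU : x ∈ U) : U.toScheme.Modules :=
  (Scheme.Modules.pushforward (liftPt U x hxU)).obj (Coh.structureModule _)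

theorem nonempty_local_equiv {x : X} (hx : IsClosed ({x} : Set X)) (U : X.Opens) (hxU : x ∈ U)
    (K : DCoh.D X) (m : ℤ) :
    Nonempty ((K ⟶ (ptD x)⟦m⟧) ≃ ((DCoh.restrictD U.ι).obj K ⟶ (DCoh.inD U.toScheme (ptLoc U x hxU))⟦m⟧)) := by
  let f := X.fromSpecResidueField x
  let g := liftPt U x hxU
  haveI : IsClosedImmersion f := isClosed_singleton_iff_isClosedImmersion.mp hx
  haveI : IsClosedImmersion (g ≫ U.ι) := by rw [liftPt_ι]; infer_instance
  haveI : IsClosedImmersion g := IsClosedImmersion.of_comp g U.ι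
  haveI := KFlat.hasLpull f
  haveI := KFlat.hasLpull g
  haveI := KFlat.hasLpull U.ι
  haveI := KFlat.hasLpull (g ≫ U.ι)
  obtain ⟨e₁⟩ := nonempty_pointEquiv f K (Coh.structureModule _) m
  obtain ⟨e₂⟩ := nonempty_pointEquiv g ((DCoh.restrictD U.ι).obj K) (Coh.structureModule _) m
  obtain ⟨a⟩ := DerivedApi.lpull_comp g U.ι
  obtain ⟨b⟩ := nonempty_Lpull_iso_restrictD U.ι K
  let c : (DCoh.Lpull f).obj K ≅ (DCoh.Lpull g).obj ((DCoh.restrictD U.ι).obj K) :=
    eqToIso (by congr 2; exact (liftPt_ι U x hxU).symm) ≪≫ (a.app K).symm ≪≫ (DCoh.Lpull g).mapIso b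
  exact ⟨e₁.trans ((Iso.homCongr c (Iso.refl _)).trans e₂.symm)⟩

/-- Near `x`, only the cohomology with `x` in its support survives. -/
theorem exists_nhd_isLE (K : DCoh.D X) (hK : DCoh.IsCohD K) (b c : ℤ) [K.IsLE c] (x : X)
    (h : ∀ i : ℤ, b < i → x ∉ CohB1.support (DCoh.HD K i)) :
    ∃ U : X.Opens, x ∈ U ∧ ((DCoh.restrictD U.ι).obj K).IsLE b := by
  have hc : IsClosed (⋃ i ∈ Finset.Ioc b c, CohB1.support (DCoh.HD K i)) :=
    Set.Finite.isClosed_biUnion (Finset.finite_toSet _) fun i _ =>
      Groth.L16.CohSupport.isClosed_support _ (hK i).2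
  let U : X.Opens := ⟨_, hc.isOpen_compl⟩
  refine ⟨U, fun hx => ?_, ?_⟩
  · obtain ⟨i, hi, hxi⟩ := Set.mem_iUnion₂.1 hx
    exact h i (Finset.mem_Ioc.1 hi).1 hxi
  rw [DerivedCategory.isLE_iff]
  intro i hi
  refine IsZero.of_iso ?_ (HDResIso U.ι K i)
  rw [Groth.L21.Mod.isZero_iff_support_eq_empty]
  refine (Groth.L21.Mod.support_restrict U.ι (DCoh.HD K i)).trans (Set.eq_empty_of_forall_notMem fun y hy => ?_)
  rcases le_or_gt i c with hic | hic
  · exact y.2 (Set.mem_iUnion₂.2 ⟨i, Finset.mem_Ioc.2 ⟨hi, hic⟩, hy⟩)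
  · exact (Groth.L29.CohSupp.support_of_isZero (DerivedCategory.isZero_of_isLE K c i hic)).subset hy

variable [IsLocallyNoetherian X]

/-- The criterion of Stacks: Homs to a closed point bound the cohomology at that point. -/
theorem hom_pt_zero_iff {x : X} (hx : IsClosed ({x} : Set X)) (K : DCoh.D X) (hK : DCoh.IsCohD K)
    (c : ℤ) [K.IsLE c] (b : ℤ) :
    (∀ i : ℤ, b < i → x ∉ CohB1.support (DCoh.HD K i)) ↔
      ∀ i : ℤ, b < i → ∀ φ : K ⟶ (ptD x)⟦-i⟧, φ = 0 := by
  constructor
  · intro h i hi φ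
    obtain ⟨U, hxU, hle⟩ := exists_nhd_isLE K hK b c x h
    obtain ⟨e⟩ := nonempty_local_equiv hx U hxU K (-i)
    haveI := hle
    haveI : DerivedCategory.TStructure.t.IsGE ((DCoh.inD U.toScheme (ptLoc U x hxU))⟦-i⟧) i :=
      DerivedCategory.TStructure.t.isGE_shift _ 0 (-i) i (by omega)
    exact e.injective ((DerivedCategory.TStructure.t.zero_of_isLE_of_isGE _ b i hi hle inferInstance).trans
      (DerivedCategory.TStructure.t.zero_of_isLE_of_isGE _ b i hi hle inferInstance).symm)
  · intro h i
    induction' hn : (c - i).toNat using Nat.strong_induction_on with n ih generalizing i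
    intro hi hsupp
    have habove : ∀ j : ℤ, i < j → x ∉ CohB1.support (DCoh.HD K j) := fun j hj => by
      rcases le_or_gt j c with hjc | hjc
      · exact ih (c - j).toNat (by omega) j rfl (by omega)
      · exact fun hxs => (Groth.L29.CohSupp.support_of_isZero (DerivedCategory.isZero_of_isLE K c j hjc)).subset hxs
    obtain ⟨U, hxU, hle⟩ := exists_nhd_isLE K hK i c x habove
    haveI := hle
    obtain ⟨f₀, hf₀⟩ := exists_hom_pt (hK i) hsupp
    let f := X.fromSpecResidueField x
    let g := liftPt U x hxU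
    let adjf := Scheme.Modules.pullbackPushforwardAdjunction f
    let adjg := Scheme.Modules.pullbackPushforwardAdjunction g
    let q : (Scheme.Modules.pullback f).obj (DCoh.HD K i) ≅
        (Scheme.Modules.pullback g).obj ((Scheme.Modules.restrictFunctor U.ι).obj (DCoh.HD K i)) :=
      eqToIso (by rw [liftPt_ι]) ≪≫ ((Scheme.Modules.pullbackComp g U.ι).app _).symm ≪≫
        (Scheme.Modules.pullback g).mapIso ((Scheme.Modules.restrictFunctorIsoPullback U.ι).app _).symm
    let θ := (adjf.homEquiv (DCoh.HD K i) (Coh.structureModule _)).symm.trans ((Iso.homCongr q (Iso.refl _)).trans (adjg.homEquiv _ _))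
    haveI : (Scheme.Modules.pullback f).Additive := adjf.left_adjoint_additive
    haveI : (Scheme.Modules.pushforward g).Additive := adjg.right_adjoint_additive
    have h0 : θ 0 = 0 := by
      simp [θ, Adjunction.homEquiv_counit, Adjunction.homEquiv_unit]
    have hψ : θ f₀ ≠ 0 := fun hh => hf₀ (θ.injective (hh.trans h0.symm))
    obtain ⟨φ, hφ⟩ := exists_top_hom ((DCoh.restrictD U.ι).obj K) i ((HDResIso U.ι K i).hom ≫ θ f₀)
      (fun hh => hψ (by rwa [← cancel_epi (HDResIso U.ι K i).hom, comp_zero]))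
    obtain ⟨e⟩ := nonempty_local_equiv hx U hxU K (-i)
    have hsub : Subsingleton (K ⟶ (ptD x)⟦-i⟧) := subsingleton_of_forall_eq 0 (h i hi)
    exact hφ (e.symm.injective (Subsingleton.elim _ _))

/-- Test objects concentrated at a point. -/
theorem module_zero_of_pt {x : X} (hx : IsClosed ({x} : Set X)) (K : DCoh.D X)
    (h : ∀ m : ℤ, ∀ φ : ptD x ⟶ K⟦m⟧, φ = 0) :
    ∀ (n : ℕ) (M : X.Modules), Coh.IsCoh M → CohB1.support M ⊆ {x} → Groth.L16.CohSupport.len x M ≤ n →
      ∀ m : ℤ, ∀ φ : DCoh.inD X M ⟶ K⟦m⟧, φ = 0 := by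
  intro n
  induction n with
  | zero =>
    intro M _ hs hl m φ
    have hz : IsZero M := (Groth.L21.Mod.isZero_iff_support_eq_empty M).2 (Set.eq_empty_of_forall_notMem fun y hy =>
      (Groth.L16.CohSupport.len_eq_zero_iff x M).1 (le_antisymm hl zero_le') (hs hy ▸ hy))
    exact ((DerivedCategory.singleFunctor X.Modules 0).map_isZero hz).eq_of_src _ _
  | succ n ih =>
    intro M hM hs hl m φ
    by_cases hz : IsZero M
    · exact ((DerivedCategory.singleFunctor X.Modules 0).map_isZero hz).eq_of_src _ _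
    have hxM : x ∈ CohB1.support M := by
      obtain ⟨y, hy⟩ := Set.nonempty_iff_ne_empty.2 (mt (Groth.L21.Mod.isZero_iff_support_eq_empty M).2 hz)
      exact hs hy ▸ hy
    obtain ⟨f, hf⟩ := exists_hom_pt hM hxM
    have hS₁ := Groth.L16.Devissage.shortExact_kernel_image f
    have hS₂ := Groth.L16.Devissage.shortExact_image_cokernel f
    have hl₁ : Groth.L16.CohSupport.len x (pt x) = 1 := by
      obtain ⟨e⟩ := nonempty_iso_sky x
      rw [Groth.L16.CohSupport.len_congr e]
      refine ((Groth.L00.Sky.counitIso x).app (Groth.L21.RR.resMod x)).toLinearEquiv.length_eq.trans ?_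
      show Module.length (X.presheaf.stalk x) (IsLocalRing.ResidueField (X.presheaf.stalk x)) = 1
      rw [Module.length_eq_of_surjective IsLocalRing.residue_surjective]
      exact Module.length_eq_one _ _
    have himg : Groth.L16.CohSupport.len x (Abelian.image f) ≠ 0 := by
      intro h0
      have : IsZero (Abelian.image f) := (Groth.L21.Mod.isZero_iff_support_eq_empty _).2
        (Set.eq_empty_of_forall_notMem fun y hy => (Groth.L16.CohSupport.len_eq_zero_iff x _).1 h0
          (hs ((Groth.L16.Devissage.support_union hS₁).2 hy) ▸ hy))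
      exact hf (by rw [← Abelian.image.fac f, this.eq_of_tgt (Abelian.factorThruImage f) 0, zero_comp])
    have hadd₂ := Groth.L16.CohSupport.len_add hS₂ x
    rw [hl₁] at hadd₂
    have hcok : Groth.L16.CohSupport.len x (cokernel f) = 0 := by
      have h1 : (1 : ℕ∞) ≤ Groth.L16.CohSupport.len x (Abelian.image f) := ENat.one_le_iff_ne_zero.2 himg
      have h2 : Groth.L16.CohSupport.len x (Abelian.image f) + Groth.L16.CohSupport.len x (cokernel f) = 1 := hadd₂.symm
      have h3 : Groth.L16.CohSupport.len x (Abelian.image f) = 1 := le_antisymm (h2 ▸ le_self_add) h1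
      rw [h3] at h2
      exact WithTop.add_left_cancel ENat.one_ne_top (h2.trans (add_zero 1).symm)
    haveI : Epi f := by
      refine Preadditive.epi_of_isZero_cokernel f ((Groth.L21.Mod.isZero_iff_support_eq_empty _).2
        (Set.eq_empty_of_forall_notMem fun y hy => ?_))
      have := PointSky.support_pt_subset hx ((Groth.L16.Devissage.support_union hS₂).2 hy)
      exact (Groth.L16.CohSupport.len_eq_zero_iff x _).1 hcok (this ▸ hy)
    have hS : (ShortComplex.mk (kernel.ι f) f (kernel.condition f)).ShortExact :=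
      { exact := ShortComplex.exact_kernel f }
    have hk : Coh.IsCoh (kernel f) := (Groth.L16.CohKernel.isCoh_kernel_cokernel hM (isCoh_pt hx) f).1
    have hlk : Groth.L16.CohSupport.len x (kernel f) ≤ n := by
      have h2 := Groth.L16.CohSupport.len_add hS x
      dsimp at h2
      rw [hl₁] at h2
      rw [h2] at hl
      push_cast at hl
      exact (ENat.add_le_add_iff_right ENat.one_ne_top).1 hl
    obtain ⟨ψ, hψ⟩ := Triangle.yoneda_exact₂ _ hS.singleTriangle_distinguished φ
      (ih (kernel f) hk ((Groth.L16.Devissage.support_union hS).1.trans hs) hlk m _)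
    rw [hψ, h m ψ]
    exact comp_zero

/-- The same for bounded coherent objects concentrated at the point. -/
theorem zero_of_pt [CompactSpace X] {x : X} (hx : IsClosed ({x} : Set X)) (K : DCoh.D X)
    (h : ∀ m : ℤ, ∀ φ : ptD x ⟶ K⟦m⟧, φ = 0) :
    ∀ (n : ℕ) (P : DCoh.D X) (a b : ℤ), P.IsGE a → P.IsLE b → b < a + n → DCoh.IsCohD P →
      (∀ i : ℤ, CohB1.support (DCoh.HD P i) ⊆ {x}) → ∀ m : ℤ, ∀ φ : P ⟶ K⟦m⟧, φ = 0 := by
  intro n
  induction n with
  | zero =>
    intro P a b ha hb hab _ _ m φ
    haveI := ha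
    haveI := hb
    exact (DerivedCategory.TStructure.t.isZero P b a (by simpa using hab)).eq_of_src _ _
  | succ n ih =>
    intro P a b ha hb hab hP hs m φ
    haveI := ha
    haveI := hb
    let T := (DerivedCategory.TStructure.t (C := X.Modules))
    let L := (T.truncLT (a + 1)).obj P
    let R := (T.truncGE (a + 1)).obj P
    haveI : DerivedCategory.IsLE L a := inferInstanceAs (T.IsLE ((T.truncLT (a + 1)).obj P) a)
    haveI : DerivedCategory.IsGE L a := by
      rw [DerivedCategory.isGE_iff]
      intro i hi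
      have := Groth.L10.isIso_H_ι (A := X.Modules) (a + 1) i (by omega) P
      exact (DerivedCategory.isZero_of_isGE P a i hi).of_iso
        (asIso ((DerivedCategory.homologyFunctor X.Modules i).map ((T.truncLTι (a + 1)).app P)))
    haveI : DerivedCategory.IsGE R (a + 1) := inferInstance
    haveI : DerivedCategory.IsLE R (max b a) := by
      rw [DerivedCategory.isLE_iff]
      intro i hi
      have := Groth.L10.isIso_H_π (A := X.Modules) (a + 1) i (by omega) P
      exact (DerivedCategory.isZero_of_isLE P b i (by omega)).of_iso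
        (asIso ((DerivedCategory.homologyFunctor X.Modules i).map ((T.truncGEπ (a + 1)).app P))).symm
    have hR : ∀ i, Coh.IsCoh (DCoh.HD R i) ∧ CohB1.support (DCoh.HD R i) ⊆ {x} := fun i => by
      by_cases hi : a + 1 ≤ i
      · have := Groth.L10.isIso_H_π (A := X.Modules) (a + 1) i hi P
        let e := asIso ((DerivedCategory.homologyFunctor X.Modules i).map ((T.truncGEπ (a + 1)).app P))
        exact ⟨Groth.L16.CohSupport.isCoh_of_iso e (hP i),
          (Groth.L21.Mod.support_congr e).symm.subset.trans (hs i)⟩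
      · have hz : IsZero (DCoh.HD R i) := DerivedCategory.isZero_of_isGE R (a + 1) i (by omega)
        exact ⟨RHomC.isCoh_of_isZero hz, (Groth.L29.CohSupp.support_of_isZero hz).subset.trans (Set.empty_subset _)⟩
    have hL : ∀ ψ : L ⟶ K⟦m⟧, ψ = 0 := by
      intro ψ
      obtain ⟨N, ⟨e⟩⟩ := DerivedCategory.exists_iso_singleFunctor_obj_of_isGE_of_isLE L a
      have := Groth.L10.isIso_H_ι (A := X.Modules) (a + 1) a (by omega) P
      let e₀ : DCoh.HD P a ≅ N :=
        (asIso ((DerivedCategory.homologyFunctor X.Modules a).map ((T.truncLTι (a + 1)).app P))).symm ≪≫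
          (DerivedCategory.homologyFunctor X.Modules a).mapIso e ≪≫
          (DerivedCategory.singleFunctorCompHomologyFunctorIso X.Modules a).app N
      have hNc : Coh.IsCoh N := Groth.L16.CohSupport.isCoh_of_iso e₀ (hP a)
      have hNs : CohB1.support N ⊆ {x} := (Groth.L21.Mod.support_congr e₀).symm.subset.trans (hs a)
      have hlen : Groth.L16.CohSupport.len x N ≠ ⊤ :=
        Groth.L16.CohSupport.len_ne_top hNc fun z hz _ => hNs hz
      obtain ⟨n', hn'⟩ := ENat.ne_top_iff_exists.1 hlen
      let σ : L ≅ (DCoh.inD X N)⟦-a⟧ :=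
        e ≪≫ (((DerivedCategory.singleFunctors X.Modules).shiftIso (-a) a 0 (by omega)).app N).symm
      let χ : DCoh.inD X N ⟶ K⟦m + a⟧ :=
        (shiftFunctorCompIsoId (DCoh.D X) (-a) a (by omega)).inv.app _ ≫ (σ.inv ≫ ψ)⟦a⟧' ≫
          (shiftFunctorAdd' (DCoh.D X) m a (m + a) rfl).inv.app K
      have hχ : χ = 0 := module_zero_of_pt hx K h n' N hNc hNs hn'.ge (m + a) χ
      have h1 : (σ.inv ≫ ψ)⟦a⟧' = 0 := by
        rw [← cancel_epi ((shiftFunctorCompIsoId (DCoh.D X) (-a) a (by omega)).inv.app (DCoh.inD X N)),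
          ← cancel_mono ((shiftFunctorAdd' (DCoh.D X) m a (m + a) rfl).inv.app K), comp_zero, zero_comp, Category.assoc]
        exact hχ
      have h2 : σ.inv ≫ ψ = 0 :=
        (shiftFunctor (DCoh.D X) a).map_injective (h1.trans ((shiftFunctor (DCoh.D X) a).map_zero _ _).symm)
      rwa [← cancel_epi σ.inv, comp_zero]
    obtain ⟨ψ, hψ⟩ := Triangle.yoneda_exact₂ _ (T.triangleLTGE_distinguished (a + 1) P) φ (hL _)
    rw [hψ, ih R (a + 1) (max b a) inferInstance inferInstance (by push_cast at hab; omega)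
      (fun i => (hR i).1) (fun i => (hR i).2) m ψ]
    exact comp_zero

end Groth.L07.BvdB.PointHom
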