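import Groth.Agent.L07.BvdB.DualFun
import Groth.Agent.L07.BvdB.PointHom
import Groth.Agent.L29.DCoh.ExtZeroD
import Groth.Agent.S1005
import Groth.Prelude.Def_Models

/-! Homs from closed points, through duality. -/

set_option autoImplicit false
set_option linter.style.haveILetI false
set_option backward.defeqAttrib.useBackward true
set_option backward.isDefEq.respectTransparency false
set_option backward.isDefEq.respectTransparency.types false

universe u
open CategoryTheory CategoryTheory.Limits AlgebraicGeometry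
attribute [local instance] HasDerivedCategory.standard

noncomputable section

namespace Groth.L07.BvdB.PointDual

open Groth.L00 Groth.L29.DC PointSky PointHom DualFun

attribute [local instance] KFlat.hasLTensorCx RHom.hasRSheafHom

variable {X : Scheme.{u}}

theorem isZero_RSheafHom {U : Scheme.{u}} (K : CochainComplex U.Modules ℤ)
    (hK : IsZero (DerivedCategory.Q.obj K)) (M : DCoh.D U) : IsZero ((DCoh.RSheafHom K).obj M) := by
  rw [IsZero.iff_id_eq_zero]
  have hz : IsZero ((DCoh.LTensorCx K).obj ((DCoh.RSheafHom K).obj M)) := by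
    refine IsZero.of_iso ?_ (((eps (X := U)).app K).app _).symm
    exact IsZero.of_iso (((dten (X := U)).obj _).map_isZero hK)
      ((swap (X := U) ((DCoh.RSheafHom K).obj M)).app (DerivedCategory.Q.obj K))
  apply ((DCoh.RSheafHomAdj K).homEquiv _ _).symm.injective
  exact hz.eq_of_src _ _

/-- The dual vanishes where the object does. -/
theorem isZero_restrict_dual (U : X.Opens) {A : DCoh.D X} (hA : IsZero ((DCoh.restrictD U.ι).obj A)) :
    IsZero ((DCoh.restrictD U.ι).obj (dual A)) := by
  haveI := ExtZero.preservesFiniteLimits U.ι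
  let K := rep A
  haveI := ExtZero.preservesFiniteLimits (U.ι)
  obtain ⟨r⟩ := ExtZero.nonempty_res_RSheafHom (j := U.ι) K
  refine IsZero.of_iso ?_ ((DCoh.restrictD U.ι).mapIso (dualIso A (repIso A)) ≪≫ r.app _)
  refine isZero_RSheafHom _ (hA.of_iso ?_) _
  exact ((ExtZero.res U.ι).mapDerivedCategoryFactors.app K).symm ≪≫ (DCoh.restrictD U.ι).mapIso (repIso A)

/-- An open on which a perfect object vanishes kills the object with the same dual. -/
theorem isZero_restrict_of_dual (U : X.Opens) {A : DCoh.D X} (hA : DCoh.IsPerfect A)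
    (h : IsZero ((DCoh.restrictD U.ι).obj (dual A))) : IsZero ((DCoh.restrictD U.ι).obj A) := by
  obtain ⟨e⟩ := nonempty_bidual hA
  exact (isZero_restrict_dual U h).of_iso ((DCoh.restrictD U.ι).mapIso e.symm)

variable [IsLocallyNoetherian X]

theorem support_HD_subset (U : X.Opens) {A : DCoh.D X} (h : IsZero ((DCoh.restrictD U.ι).obj A)) (i : ℤ)
    {y : X} (hy : y ∈ U) : y ∉ CohB1.support (DCoh.HD A i) := by
  intro hs
  have hz : IsZero ((Scheme.Modules.restrictFunctor U.ι).obj (DCoh.HD A i)) :=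
    ((DerivedCategory.homologyFunctor _ i).map_isZero h).of_iso (HDResIso U.ι A i).symm
  have h' : CohB1.support ((DCoh.HD A i).restrict U.ι) = ∅ := (Groth.L21.Mod.isZero_iff_support_eq_empty _).1 hz
  rw [Groth.L21.Mod.support_restrict] at h'
  exact h'.subset (show (⟨y, hy⟩ : U.toScheme) ∈ U.ι ⁻¹' CohB1.support (DCoh.HD A i) from hs)

omit [IsLocallyNoetherian X] in
/-- Vanishing of all cohomology near a point. -/
theorem isZero_restrict_of_support (U : X.Opens) {A : DCoh.D X}
    (h : ∀ (i : ℤ) (y : X), y ∈ U → y ∉ CohB1.support (DCoh.HD A i)) : IsZero ((DCoh.restrictD U.ι).obj A) := by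
  haveI : ((DCoh.restrictD U.ι).obj A).IsGE 1 := by
    rw [DerivedCategory.isGE_iff]
    intro i _
    refine IsZero.of_iso ?_ (HDResIso U.ι A i)
    rw [Groth.L21.Mod.isZero_iff_support_eq_empty]
    exact (Groth.L21.Mod.support_restrict U.ι _).trans (Set.eq_empty_of_forall_notMem fun y hy => h i y.1 y.2 hy)
  haveI : ((DCoh.restrictD U.ι).obj A).IsLE 0 := by
    rw [DerivedCategory.isLE_iff]
    intro i _
    refine IsZero.of_iso ?_ (HDResIso U.ι A i)
    rw [Groth.L21.Mod.isZero_iff_support_eq_empty]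
    exact (Groth.L21.Mod.support_restrict U.ι _).trans (Set.eq_empty_of_forall_notMem fun y hy => h i y.1 y.2 hy)
  exact DerivedCategory.TStructure.t.isZero _ 0 1 (by omega)

variable [CompactSpace X]

/-- Left spanning at a point. -/
theorem zero_near_of_to_pt {x : X} (hx : IsClosed ({x} : Set X)) (K : DCoh.D X) (hK : DCoh.IsPerfect K)
    (h : ∀ (i : ℤ) (φ : K ⟶ (ptD x)⟦i⟧), φ = 0) :
    ∃ U : X.Opens, x ∈ U ∧ IsZero ((DCoh.restrictD U.ι).obj K) := by
  obtain ⟨a, c, ha, hc⟩ := Groth.L29.CohSupp.exists_bounds_of_perfect hK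
  haveI := ha
  haveI := hc
  have hcoh := Groth.L29.CohSupp.isCohD_of_perfect hK
  have hsupp := (hom_pt_zero_iff hx K hcoh c (a - 1)).2 fun i _ => h (-i)
  obtain ⟨U, hxU, hle⟩ := exists_nhd_isLE K hcoh (a - 1) c x hsupp
  haveI := hle
  haveI : ((DCoh.restrictD U.ι).obj K).IsGE a := by
    rw [DerivedCategory.isGE_iff]
    exact fun i hi => ((Scheme.Modules.restrictFunctor U.ι).map_isZero
      (DerivedCategory.isZero_of_isGE K a i hi)).of_iso (HDResIso U.ι K i)
  exact ⟨U, hxU, DerivedCategory.TStructure.t.isZero _ (a - 1) a (by omega)⟩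

theorem isPerfect_ptD (hreg : ∀ x : X, IsRegularLocalRing (X.presheaf.stalk x)) {x : X}
    (hx : IsClosed ({x} : Set X)) : DCoh.IsPerfect (ptD x) := by
  refine Groth.Agent.S1005.result X hreg (ptD x) 0 0 fun i => ?_
  rcases eq_or_ne i 0 with rfl | hi
  · exact Groth.L16.CohSupport.isCoh_of_iso
      ((DerivedCategory.singleFunctorCompHomologyFunctorIso X.Modules 0).app (pt x)).symm (isCoh_pt hx)
  · rcases lt_or_gt_of_ne hi with h | h
    · exact RHomC.isCoh_of_isZero (DerivedCategory.isZero_of_isGE _ 0 i h)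
    · exact RHomC.isCoh_of_isZero (DerivedCategory.isZero_of_isLE _ 0 i h)

/-- Right spanning at a point. -/
theorem zero_near_of_from_pt (hreg : ∀ x : X, IsRegularLocalRing (X.presheaf.stalk x)) {x : X}
    (hx : IsClosed ({x} : Set X)) (K : DCoh.D X) (hK : DCoh.IsPerfect K)
    (h : ∀ (i : ℤ) (φ : ptD x ⟶ K⟦i⟧), φ = 0) :
    ∃ U : X.Opens, x ∈ U ∧ IsZero ((DCoh.restrictD U.ι).obj K) := by
  have hpt := isPerfect_ptD hreg hx
  obtain ⟨U, hxU, hz⟩ := zero_near_of_to_pt hx (dual K) (isPerfect_dual hK) fun j φ => by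
    have hjp : DCoh.IsPerfect ((ptD x)⟦j⟧) := perfect_shift hpt j
    obtain ⟨eB⟩ := nonempty_bidual hjp
    obtain ⟨eK⟩ := nonempty_bidual hK
    let P := dual ((ptD x)⟦j⟧)
    have hP : DCoh.IsPerfect P := isPerfect_dual hjp
    obtain ⟨a, b, ha, hb⟩ := Groth.L29.CohSupp.exists_bounds_of_perfect hP
    let V : X.Opens := ⟨({x} : Set X)ᶜ, hx.isOpen_compl⟩
    have hV : IsZero ((DCoh.restrictD V.ι).obj ((ptD x)⟦j⟧)) := isZero_restrict_of_support V fun i y hy hs => by
      have hs' := (Groth.L21.Mod.support_congr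
        (((DerivedCategory.homologyFunctor X.Modules 0).shiftIso j i (j + i) rfl).app (ptD x))).subset hs
      rcases eq_or_ne (j + i) 0 with h0 | h0
      · have hs0 : y ∈ CohB1.support (DCoh.HD (ptD x) (j + i)) := hs'
        rw [h0] at hs0
        exact hy (support_pt_subset hx ((Groth.L21.Mod.support_congr
          ((DerivedCategory.singleFunctorCompHomologyFunctorIso X.Modules 0).app (pt x))).subset hs0))
      · refine (Groth.L29.CohSupp.support_of_isZero ?_).subset hs'
        rcases lt_or_gt_of_ne h0 with h0 | h0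
        · exact DerivedCategory.isZero_of_isGE (ptD x) 0 (j + i) h0
        · exact DerivedCategory.isZero_of_isLE (ptD x) 0 (j + i) h0
    have hPV := isZero_restrict_dual V hV
    have hz := zero_of_pt hx K h (b - a + 1).toNat P a b ha hb (by omega)
      (Groth.L29.CohSupp.isCohD_of_perfect hP) (fun i y hy => by
        by_contra hne
        exact support_HD_subset V hPV i (show y ∈ V from hne) hy) 0
    let e : (dual K ⟶ (ptD x)⟦j⟧) ≃ (P ⟶ K⟦(0 : ℤ)⟧) :=
      (Iso.homCongr (Iso.refl (dual K)) eB.symm).trans ((theta (dual K) P).trans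
        (Iso.homCongr (Iso.refl P) (eK ≪≫ ((shiftFunctorZero (DCoh.D X) ℤ).app K).symm)))
    exact e.injective ((hz _).trans (hz _).symm)
  exact ⟨U, hxU, isZero_restrict_of_dual U hK hz⟩

end Groth.L07.BvdB.PointDual
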