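import Groth.Agent.L07.BvdB.PointEfface
import Groth.Agent.L07.BvdB.PointDual
import Groth.Agent.L07.BvdB.DualPerf
import Groth.Agent.L07.BvdB.FibreHom
import Groth.Agent.L04.RegularPd
import Groth.Agent.L29.Dual.KoszulExt
import Groth.Agent.L10.RelPC.TensorPullMax
import Mathlib.Algebra.Homology.DerivedCategory.Ext.MapBijective
import Mathlib.Algebra.Category.ModuleCat.Ext.Basic

/-! The dual of a closed point of a regular scheme is the point, shifted down by the dimension. -/

set_option autoImplicit false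
set_option linter.style.haveILetI false
set_option backward.defeqAttrib.useBackward true
set_option backward.isDefEq.respectTransparency false
set_option backward.isDefEq.respectTransparency.types false

universe u
open CategoryTheory CategoryTheory.Limits AlgebraicGeometry Opposite IsLocalRing
attribute [local instance] HasDerivedCategory.standard

noncomputable section

namespace Groth.L07.BvdB.DualPoint

open Groth.L00 Groth.L00.Sky Groth.L29 Groth.L29.DC Groth.L29.BCAdj PointSky PointHom PointDual DualFun PointEfface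

variable {X : Scheme.{u}} [IsLocallyNoetherian X] {x : X}

omit [IsLocallyNoetherian X] in
/-- A nonzero endomorphism of the point is invertible. -/
theorem isIso_of_ne_zero (f : pt x ⟶ pt x) (hf : f ≠ 0) : IsIso f := by
  obtain ⟨s⟩ := nonempty_iso_sky x
  obtain ⟨g, hg⟩ : ∃ g : Groth.L21.RR.resMod x ⟶ Groth.L21.RR.resMod x, (skyF x).map g = s.inv ≫ f ≫ s.hom := by
    haveI : IsIso ((adj x).counit.app (Groth.L21.RR.resMod x)) := isIso_counit _
    refine ⟨inv ((adj x).counit.app _) ≫ ((adj x).homEquiv _ _).symm (s.inv ≫ f ≫ s.hom), ?_⟩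
    apply ((adj x).homEquiv _ _).symm.injective
    rw [Adjunction.homEquiv_counit, (adj x).counit_naturality, IsIso.hom_inv_id_assoc]
  haveI : IsSimpleModule (X.presheaf.stalk x) (Groth.L21.RR.resMod x) :=
    isSimpleModule_iff_quot_maximal.2 ⟨maximalIdeal (X.presheaf.stalk x), inferInstance, ⟨LinearEquiv.refl _ _⟩⟩
  have hg0 : g.hom ≠ 0 := fun h => hf (by
    rw [← cancel_epi s.inv, ← cancel_mono s.hom, comp_zero, zero_comp, Category.assoc, ← hg,
      show g = 0 from ModuleCat.hom_ext h, Functor.map_zero])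
  haveI : IsIso g := by
    haveI : IsIso ((forget (ModuleCat.{u} (X.presheaf.stalk x))).map g) :=
      (isIso_iff_bijective _).2 (LinearMap.bijective_of_ne_zero hg0)
    exact isIso_of_reflects_iso g (forget _)
  rw [show f = s.hom ≫ (skyF x).map g ≫ s.inv by rw [hg]; simp]
  infer_instance

/-- The point embeds in every nonzero coherent module supported at it. -/
theorem exists_mono_pt (hx : IsClosed ({x} : Set X)) {M : X.Modules} (hM : Coh.IsCoh M)
    (hs : CohB1.support M ⊆ {x}) (h0 : ¬ IsZero M) : ∃ j : pt x ⟶ M, Mono j ∧ j ≠ 0 := by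
  obtain ⟨N, hN, ⟨e⟩⟩ := exists_sky hx hM hs
  haveI := (isFiniteLength_iff_isNoetherian_isArtinian.1 hN).2
  haveI : Nontrivial N := not_subsingleton_iff_nontrivial.1 fun h =>
    h0 (((skyF x).map_isZero (ModuleCat.isZero_of_subsingleton N)).of_iso e)
  haveI : IsAtomic (Submodule (X.presheaf.stalk x) N) :=
    isAtomic_of_orderBot_wellFounded_lt IsWellFounded.wf
  obtain ⟨K, hK, -⟩ := (eq_bot_or_exists_atom_le (⊤ : Submodule (X.presheaf.stalk x) N)).resolve_left top_ne_bot
  haveI : IsSimpleModule (X.presheaf.stalk x) K := isSimpleModule_iff_isAtom.2 hK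
  obtain ⟨J, hJ, ⟨eJ⟩⟩ := isSimpleModule_iff_quot_maximal.1 (‹IsSimpleModule (X.presheaf.stalk x) K›)
  obtain rfl : J = maximalIdeal (X.presheaf.stalk x) := IsLocalRing.eq_maximalIdeal hJ
  let l : Groth.L21.RR.resMod x ⟶ N := ModuleCat.ofHom
    (K.subtype.comp (eJ.symm.toLinearMap : ResidueField (X.presheaf.stalk x) →ₗ[X.presheaf.stalk x] K))
  haveI : Mono l := (ModuleCat.mono_iff_injective l).2 (Subtype.val_injective.comp eJ.symm.injective)
  haveI : (skyF (X := X) x).PreservesMonomorphisms := inferInstance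
  obtain ⟨s⟩ := nonempty_iso_sky x
  refine ⟨s.hom ≫ (skyF x).map l ≫ e.inv, inferInstance, fun h => ?_⟩
  have hz : IsZero (pt x) := by
    rw [IsZero.iff_id_eq_zero, ← cancel_mono (s.hom ≫ (skyF x).map l ≫ e.inv), h, comp_zero, comp_zero]
  obtain ⟨p, hp⟩ := exists_hom_pt hM (x := x) (by
    obtain ⟨y, hy⟩ := Set.nonempty_iff_ne_empty.2 (mt (Groth.L21.Mod.isZero_iff_support_eq_empty M).2 h0)
    exact hs hy ▸ hy)
  exact hp (hz.eq_of_tgt _ _)

omit [IsLocallyNoetherian X] in
theorem hom_eq_zero_neg (i : ℤ) (hi : i < 0) (φ : ptD x ⟶ (ptD x)⟦i⟧) : φ = 0 := by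
  let T := (DerivedCategory.TStructure.t (C := X.Modules))
  haveI : T.IsLE (ptD x) 0 := inferInstanceAs (((DerivedCategory.singleFunctor X.Modules 0).obj (pt x)).IsLE 0)
  haveI : T.IsGE (ptD x) 0 := inferInstanceAs (((DerivedCategory.singleFunctor X.Modules 0).obj (pt x)).IsGE 0)
  haveI : T.IsGE ((ptD x)⟦i⟧) (-i) := T.isGE_shift (ptD x) 0 i (-i) (by omega)
  exact T.zero φ 0 (-i) (by omega)

/-- The dual of the point is a shift of the point. -/
theorem exists_shift (hreg : ∀ x : X, IsRegularLocalRing (X.presheaf.stalk x)) [CompactSpace X]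
    (hx : IsClosed ({x} : Set X)) : ∃ c : ℤ, Nonempty (dual (ptD x) ≅ (ptD x)⟦-c⟧) := by
  have hpt := isPerfect_ptD hreg hx
  let T := dual (ptD x)
  have hT : DCoh.IsPerfect T := isPerfect_dual hpt
  obtain ⟨eb⟩ := nonempty_bidual hpt
  have hcoh := Groth.L29.CohSupp.isCohD_of_perfect hT
  let V : X.Opens := ⟨({x} : Set X)ᶜ, hx.isOpen_compl⟩
  have hsupp : ∀ i, CohB1.support (DCoh.HD T i) ⊆ {x} := fun i y hy => by
    by_contra hne
    refine support_HD_subset V (isZero_restrict_dual V (isZero_restrict_of_support V fun j z hz hs => ?_)) i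
      (show y ∈ V from hne) hy
    rcases eq_or_ne j 0 with rfl | hj
    · exact hz (support_pt_subset hx ((Groth.L21.Mod.support_congr
        ((DerivedCategory.singleFunctorCompHomologyFunctorIso X.Modules 0).app (pt x))).subset hs))
    · refine (Groth.L29.CohSupp.support_of_isZero ?_).subset hs
      rcases lt_or_gt_of_ne hj with h0 | h0
      · exact DerivedCategory.isZero_of_isGE (ptD x) 0 j h0
      · exact DerivedCategory.isZero_of_isLE (ptD x) 0 j h0
  have hsh : ∀ n : ℤ, n < 0 → ∀ ψ : (ptD x)⟦-n⟧ ⟶ ptD x, ψ = 0 := fun n hn ψ => by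
    apply (shiftFunctor (DCoh.D X) n).map_injective
    rw [← cancel_epi (((shiftFunctorCompIsoId (DCoh.D X) (-n) n (by omega)).app (ptD x)).inv), Functor.map_zero,
      comp_zero]
    exact hom_eq_zero_neg n hn _
  have hTT : ∀ n : ℤ, n < 0 → ∀ φ : T ⟶ T⟦n⟧, φ = 0 := fun n hn φ => by
    obtain ⟨s⟩ := nonempty_dual_shift (ptD x) (-n)
    let s' : dual ((ptD x)⟦-n⟧) ≅ T⟦n⟧ := s ≪≫ eqToIso (by rw [neg_neg])
    let E := (Iso.homCongr (Iso.refl T) s'.symm).trans ((theta T ((ptD x)⟦-n⟧)).trans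
      (Iso.homCongr (Iso.refl ((ptD x)⟦-n⟧)) eb))
    exact E.injective ((hsh n hn _).trans (hsh n hn _).symm)
  have hne : ¬ IsZero T := fun hz => by
    have hsub : ∀ ψ : ptD x ⟶ ptD x, ψ = 0 := fun ψ => by
      let E := (theta T (ptD x)).trans (Iso.homCongr (Iso.refl (ptD x)) eb)
      obtain ⟨a, rfl⟩ := E.surjective ψ
      obtain ⟨b, hb⟩ := E.surjective 0
      rw [← hb, hz.eq_of_src a b]
    obtain ⟨p, hp⟩ := exists_hom_pt (isCoh_pt hx) (x := x) (by
      by_contra hxs
      obtain ⟨sk⟩ := nonempty_iso_sky x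
      exact hxs (fun h => absurd ((Groth.L16.CohSupport.len_eq_zero_iff x (pt x)).2 (by exact fun h' => h' h)) (by
        rw [Groth.L16.CohSupport.len_congr sk]
        refine ne_of_eq_of_ne (((Groth.L00.Sky.counitIso x).app (Groth.L21.RR.resMod x)).toLinearEquiv.length_eq.trans ?_) one_ne_zero
        show Module.length (X.presheaf.stalk x) (IsLocalRing.ResidueField (X.presheaf.stalk x)) = 1
        rw [Module.length_eq_of_surjective IsLocalRing.residue_surjective]
        exact Module.length_eq_one _ _)))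
    exact hp ((DerivedCategory.singleFunctor X.Modules 0).map_injective ((hsub _).trans (Functor.map_zero _ _ _).symm))
  have hinj : ∀ {e e' : T ⟶ T}, dualMap e = dualMap e' → e = e' := fun {e e'} h =>
    congrArg (fun w => InducedCategory.Hom.hom (Quiver.Hom.unop w))
      ((DualPerf.dualP (X := X)).map_injective
        (a₁ := (ObjectProperty.homMk e : (⟨T, hT⟩ : (SGA6.perfP X).FullSubcategory) ⟶ ⟨T, hT⟩).op)
        (a₂ := (ObjectProperty.homMk e' : (⟨T, hT⟩ : (SGA6.perfP X).FullSubcategory) ⟶ ⟨T, hT⟩).op)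
        (ObjectProperty.hom_ext _ h))
  have hz0 : dualMap (0 : T ⟶ T) = 0 := by
    have h := dualMap_add (0 : T ⟶ T) 0
    rw [zero_add] at h
    simpa using h
  have hend : ∀ e : T ⟶ T, e ≠ 0 → IsIso (dualMap e) := fun e he => by
    obtain ⟨g, hg⟩ := (DerivedCategory.singleFunctor X.Modules 0).map_surjective (eb.inv ≫ dualMap e ≫ eb.hom)
    haveI := isIso_of_ne_zero g (fun h => he (hinj (by
      rw [hz0, ← cancel_epi eb.inv, ← cancel_mono eb.hom, Category.assoc, ← hg, h, Functor.map_zero]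
      simp)))
    rw [show dualMap e = eb.hom ≫ (DerivedCategory.singleFunctor X.Modules 0).map g ≫ eb.inv by rw [hg]; simp]
    infer_instance
  -- the extreme degrees
  obtain ⟨lo, hi, hlo, hhi⟩ := Groth.L29.CohSupp.exists_bounds_of_perfect hT
  classical
  let S := (Finset.Icc lo hi).filter fun i => ¬ IsZero (DCoh.HD T i)
  have hout : ∀ i, i ∉ S → IsZero (DCoh.HD T i) := fun i hiS => by
    by_contra hz
    rcases lt_or_ge i lo with h | h
    · exact hz (DerivedCategory.isZero_of_isGE T lo i h)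
    rcases lt_or_ge hi i with h' | h'
    · exact hz (DerivedCategory.isZero_of_isLE T hi i h')
    exact hiS (Finset.mem_filter.2 ⟨Finset.mem_Icc.2 ⟨h, h'⟩, hz⟩)
  have hS : S.Nonempty := by
    by_contra hS
    have hz : ∀ i, IsZero (DCoh.HD T i) := fun i => hout i fun h => hS ⟨i, h⟩
    haveI : T.IsGE 1 := (DerivedCategory.isGE_iff _ _).2 fun i _ => hz i
    haveI : T.IsLE 0 := (DerivedCategory.isLE_iff _ _).2 fun i _ => hz i
    exact hne (DerivedCategory.TStructure.t.isZero T 0 1 (by omega))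
  let a := S.min' hS
  let b := S.max' hS
  haveI hGE : T.IsGE a := (DerivedCategory.isGE_iff _ _).2 fun i hi => hout i fun h => by
    have := S.min'_le i h; omega
  haveI hLE : T.IsLE b := (DerivedCategory.isLE_iff _ _).2 fun i hi => hout i fun h => by
    have := S.le_max' i h; omega
  have ha : ¬ IsZero (DCoh.HD T a) := (Finset.mem_filter.1 (S.min'_mem hS)).2
  have hb : ¬ IsZero (DCoh.HD T b) := (Finset.mem_filter.1 (S.max'_mem hS)).2
  let t := (DerivedCategory.TStructure.t (C := X.Modules))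
  let L := (t.truncLT (a + 1)).obj T
  let ιL : L ⟶ T := (t.truncLTι (a + 1)).app T
  haveI : DerivedCategory.IsLE L a := inferInstance
  haveI : DerivedCategory.IsGE L a := (DerivedCategory.isGE_iff _ _).2 fun i hi => by
    haveI := Groth.L10.isIso_H_ι (a + 1) i (by omega) T
    exact (DerivedCategory.isZero_of_isGE T a i hi).of_iso
      (asIso ((DerivedCategory.homologyFunctor X.Modules i).map ιL))
  haveI := Groth.L10.isIso_H_ι (a + 1) a (by omega) T
  let eH : DCoh.HD L a ≅ DCoh.HD T a := asIso ((DerivedCategory.homologyFunctor X.Modules a).map ιL)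
  obtain ⟨eL⟩ := Groth.L10.exists_iso_single_H L a
  obtain ⟨j, hjm, hj⟩ := exists_mono_pt hx (Groth.L16.CohSupport.isCoh_of_iso eH.symm (hcoh a))
    ((Groth.L21.Mod.support_congr eH).subset.trans (hsupp a)) (fun h => ha (h.of_iso eH.symm))
  obtain ⟨p, hp⟩ := exists_hom_pt (hcoh b) (x := x) (by
    obtain ⟨y, hy⟩ := Set.nonempty_iff_ne_empty.2 (mt (Groth.L21.Mod.isZero_iff_support_eq_empty _).2 hb)
    exact hsupp b hy ▸ hy)
  have hab : a = b := by
    refine le_antisymm (S.min'_le b (S.max'_mem hS)) (not_lt.1 fun hab => ?_)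
    obtain ⟨φ, hφ⟩ := exists_top_hom T b (p ≫ j) (fun h => hp (by rw [← cancel_mono j, h, zero_comp]))
    let σ : L ≅ (DCoh.inD X (DCoh.HD L a))⟦-a⟧ := eL ≪≫
      (((DerivedCategory.singleFunctors X.Modules).shiftIso (-a) a 0 (by omega)).app (DCoh.HD L a)).symm
    let τ : (DCoh.inD X (DCoh.HD L a))⟦-b⟧ ≅ L⟦a - b⟧ :=
      (shiftFunctorAdd' (DCoh.D X) (-a) (a - b) (-b) (by omega)).app _ ≪≫ (shiftFunctor _ (a - b)).mapIso σ.symm
    let φ₁ : T ⟶ L⟦a - b⟧ := φ ≫ τ.hom
    let c := (shiftFunctorCompIsoId (DCoh.D X) (a - b) (b - a) (by omega)).app L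
    let ψ : T⟦b - a⟧ ⟶ L := φ₁⟦b - a⟧' ≫ c.hom
    have hψ : ψ ≫ ιL = 0 := by
      have h1 : φ₁ ≫ ιL⟦a - b⟧' = 0 := hTT _ (by omega) _
      have hn : c.hom ≫ ιL = (ιL⟦a - b⟧')⟦b - a⟧' ≫ ((shiftFunctorCompIsoId (DCoh.D X) (a - b) (b - a) (by omega)).app T).hom :=
        ((shiftFunctorCompIsoId (DCoh.D X) (a - b) (b - a) (by omega)).hom.naturality ιL).symm
      rw [Category.assoc, hn, ← Functor.map_comp_assoc, h1, Functor.map_zero, zero_comp]
    have hR := Pretriangulated.inv_rot_of_distTriang _ (t.triangleLTGE_distinguished (a + 1) T)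
    obtain ⟨w, hw⟩ := ((t.triangleLTGE (a + 1)).obj T).invRotate.coyoneda_exact₂ hR ψ hψ
    have hw0 : w = 0 := by
      haveI : t.IsLE T b := hLE
      haveI : t.IsLE (T⟦b - a⟧) a := t.isLE_shift T b (b - a) a (by omega)
      haveI : t.IsGE ((t.truncGE (a + 1)).obj T) (a + 1) := inferInstance
      haveI : t.IsGE (((t.truncGE (a + 1)).obj T)⟦(-1 : ℤ)⟧) (a + 2) := t.isGE_shift _ (a + 1) (-1) (a + 2) (by omega)
      haveI : t.IsGE ((t.triangleLTGE (a + 1)).obj T).invRotate.obj₁ (a + 2) :=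
        inferInstanceAs (t.IsGE (((t.truncGE (a + 1)).obj T)⟦(-1 : ℤ)⟧) (a + 2))
      exact t.zero w a (a + 2) (by omega)
    have hψ0 : ψ = 0 := hw.trans ((congrArg (· ≫ _) hw0).trans zero_comp)
    have hφ₁ : φ₁ = 0 := (shiftFunctor (DCoh.D X) (b - a)).map_injective (by
      rw [← cancel_mono c.hom, Functor.map_zero, zero_comp]; exact hψ0)
    exact hφ (by rw [← cancel_mono τ.hom, zero_comp]; exact hφ₁)
  haveI : DerivedCategory.IsLE T a := hab ▸ hLE
  obtain ⟨eT⟩ := Groth.L10.exists_iso_single_H T a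
  have eM : DCoh.HD T a ≅ DCoh.HD T b := eqToIso (by rw [hab])
  obtain ⟨j', hj'm, hj'⟩ := exists_mono_pt hx (hcoh a) (hsupp a) ha
  let F := DerivedCategory.singleFunctor X.Modules a
  let mk : (DCoh.HD T a ⟶ DCoh.HD T a) → (T ⟶ T) := fun g => eT.hom ≫ F.map g ≫ eT.inv
  have hmk : ∀ g g', mk (g ≫ g') = mk g ≫ mk g' := fun g g' => by simp [mk]
  have hmk0 : ∀ g, mk g = 0 → g = 0 := fun g h => F.map_injective (by
    rw [Functor.map_zero, ← cancel_epi eT.hom, ← cancel_mono eT.inv, comp_zero, zero_comp, Category.assoc]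
    exact h)
  let p' : DCoh.HD T a ⟶ pt x := eM.hom ≫ p
  have hp' : p' ≠ 0 := fun h => hp (by rw [← cancel_epi eM.hom, comp_zero]; exact h)
  have hpj : p' ≫ j' ≠ 0 := fun h => hp' (by rw [← cancel_mono j', h, zero_comp])
  have hQ : IsZero (cokernel j') := by
    by_contra hQ
    have hs : CohB1.support (cokernel j') ⊆ {x} :=
      (Groth.L29.CohSupp.support_of_epi (cokernel.π j')).trans (hsupp a)
    obtain ⟨p'', hp''⟩ := exists_hom_pt
      (Groth.L16.CohKernel.isCoh_kernel_cokernel (isCoh_pt hx) (hcoh a) j').2 (x := x) (by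
        obtain ⟨y, hy⟩ := Set.nonempty_iff_ne_empty.2 (mt (Groth.L21.Mod.isZero_iff_support_eq_empty _).2 hQ)
        exact hs hy ▸ hy)
    let e := mk (p' ≫ j')
    let e' := mk (cokernel.π j' ≫ p'' ≫ j')
    have hee : e ≫ e' = 0 := by
      rw [← hmk, Category.assoc, cokernel.condition_assoc, zero_comp, comp_zero]
      simp [mk]
    haveI := hend e (fun h => hpj (hmk0 _ h))
    have h1 : dualMap e' ≫ dualMap e = 0 := by rw [← dualMap_comp, hee, hz0]
    have h2 : e' = 0 := hinj (by rw [hz0, ← cancel_mono (dualMap e), h1, zero_comp])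
    have h3 := hmk0 _ h2
    rw [← comp_zero (f := cokernel.π j'), cancel_epi, ← zero_comp (f := j'), cancel_mono] at h3
    exact hp'' h3
  haveI : Epi j' := Preadditive.epi_of_isZero_cokernel j' hQ
  haveI : IsIso j' := isIso_of_mono_of_epi j'
  exact ⟨a, ⟨eT ≪≫ F.mapIso (asIso j').symm ≪≫
    (((DerivedCategory.singleFunctors X.Modules).shiftIso (-a) a 0 (by omega)).app (pt x)).symm⟩⟩

omit [IsLocallyNoetherian X] in
/-- Self extensions of the point are those of the residue field. -/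
theorem nonempty_ext_equiv (n : ℕ) :
    Nonempty ((ptD x ⟶ (ptD x)⟦(n : ℤ)⟧) ≃
      Abelian.Ext (Groth.L21.RR.resMod x) (Groth.L21.RR.resMod x) n) := by
  haveI : HasExt.{u + 1} X.Modules := HasExt.standard _
  haveI : IsIso (adj (X := X) x).counit :=
    haveI := fun N => isIso_counit (x := x) N
    NatIso.isIso_of_isIso_app _
  haveI : (skyF (X := X) x).Full := (adj x).fullyFaithfulROfIsIsoCounit.full
  haveI : (skyF (X := X) x).Faithful := (adj x).fullyFaithfulROfIsIsoCounit.faithful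
  haveI : PreservesFiniteLimits (skyF (X := X) x) := Functor.preservesFiniteLimits_of_preservesHomology _
  haveI : PreservesFiniteColimits (skyF (X := X) x) := Functor.preservesFiniteColimits_of_preservesHomology _
  haveI : (Groth.L00.Stk.F X x).PreservesMonomorphisms := inferInstance
  haveI : (skyF (X := X) x).PreservesInjectiveObjects := Functor.preservesInjectiveObjects_of_adjunction_of_preservesMonomorphisms (adj x)
  obtain ⟨s⟩ := nonempty_iso_sky x
  let e := (DerivedCategory.singleFunctor X.Modules 0).mapIso s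
  let b := Equiv.ofBijective _
    ((skyF x).mapExt_bijective_of_preservesInjectiveObjects (Groth.L21.RR.resMod x) (Groth.L21.RR.resMod x) n)
  exact ⟨(Iso.homCongr e ((shiftFunctor _ (n : ℤ)).mapIso e)).trans (Abelian.Ext.homEquiv.symm.trans b.symm)⟩

/-- The dual of the point: the shift is the dimension. -/
theorem nonempty_dual_pt {k : Type u} [Field k] [X.Over (Spec (CommRingCat.of k))] (hreg : ∀ x : X, IsRegularLocalRing (X.presheaf.stalk x)) [CompactSpace X]
    (hx : IsClosed ({x} : Set X)) (d : ℕ) (hd : ringKrullDim (X.presheaf.stalk x) = d) :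
    Nonempty (dual (ptD x) ≅ (ptD x)⟦-(d : ℤ)⟧) := by
  obtain ⟨c, ⟨eT⟩⟩ := exists_shift hreg hx
  haveI : ∀ y : X, DCoh.HasLpull (X.fromSpecResidueField y) := fun y => KFlat.hasLpull _
  haveI : IsRegularLocalRing (X.presheaf.stalk x) := hreg x
  have hpt := isPerfect_ptD hreg hx
  -- the algebra
  obtain ⟨rs, hlen, hrs, hgen⟩ := Groth.L04.exists_regular_generators hd
  obtain ⟨hvan, htop⟩ := Groth.L29.KoszulExt.exists_top_and_vanishing rs hrs.toIsWeaklyRegular
  let eq : ModuleCat.of (X.presheaf.stalk x) ((X.presheaf.stalk x) ⧸ Ideal.ofList rs) ≅ Groth.L21.RR.resMod x :=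
    (Submodule.quotEquivOfEq _ _ hgen).toModuleIso
  have hvan' : ∀ n : ℕ, d < n → Subsingleton (Abelian.Ext (Groth.L21.RR.resMod x) (Groth.L21.RR.resMod x) n) := by
    intro n hn
    haveI := hvan (Groth.L21.RR.resMod x) n (hlen ▸ hn)
    exact subsingleton_of_forall_eq 0 fun z => by
      have h : (Abelian.Ext.mk₀ eq.inv).comp ((Abelian.Ext.mk₀ eq.hom).comp z (zero_add n)) (zero_add n) = z := by simp
      rw [← h, Subsingleton.elim ((Abelian.Ext.mk₀ eq.hom).comp z (zero_add n)) 0, Abelian.Ext.comp_zero]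
  have hnon : ¬ Subsingleton (Abelian.Ext (Groth.L21.RR.resMod x) (Groth.L21.RR.resMod x) d) := fun hsub => by
    obtain ⟨e⟩ := htop (Groth.L21.RR.resMod x)
    rw [hlen] at e
    haveI : Subsingleton (Abelian.Ext (ModuleCat.of (X.presheaf.stalk x) ((X.presheaf.stalk x) ⧸ Ideal.ofList rs))
        (Groth.L21.RR.resMod x) d) := subsingleton_of_forall_eq 0 fun z => by
      have h : (Abelian.Ext.mk₀ eq.hom).comp ((Abelian.Ext.mk₀ eq.inv).comp z (zero_add d)) (zero_add d) = z := by simp
      rw [← h, Subsingleton.elim ((Abelian.Ext.mk₀ eq.inv).comp z (zero_add d)) 0, Abelian.Ext.comp_zero]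
    haveI := e.symm.injective.subsingleton
    have h0 : Ideal.ofList rs • (⊤ : Submodule (X.presheaf.stalk x) (Groth.L21.RR.resMod x)) = ⊥ := by
      refine eq_bot_iff.2 (Submodule.smul_le.2 fun r hr m _ => ?_)
      obtain ⟨m, rfl⟩ := IsLocalRing.residue_surjective m
      rw [hgen] at hr
      exact (Submodule.mem_bot _).2 (Ideal.Quotient.eq_zero_iff_mem.2 (Ideal.mul_mem_right m _ hr))
    haveI : Subsingleton (Groth.L21.RR.resMod x) :=
      ((Submodule.quotEquivOfEqBot _ h0).toEquiv.symm).subsingleton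
    exact one_ne_zero (α := ResidueField (X.presheaf.stalk x)) (Subsingleton.elim (α := Groth.L21.RR.resMod x) _ _)
  have hxs : x ∈ CohB1.support (pt x) := by
    by_contra hxs
    obtain ⟨sk⟩ := nonempty_iso_sky x
    exact hxs (fun h => absurd ((Groth.L16.CohSupport.len_eq_zero_iff x (pt x)).2 (by exact fun h' => h' h)) (by
      rw [Groth.L16.CohSupport.len_congr sk]
      refine ne_of_eq_of_ne (((Groth.L00.Sky.counitIso x).app (Groth.L21.RR.resMod x)).toLinearEquiv.length_eq.trans ?_) one_ne_zero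
      show Module.length (X.presheaf.stalk x) (IsLocalRing.ResidueField (X.presheaf.stalk x)) = 1
      rw [Module.length_eq_of_surjective IsLocalRing.residue_surjective]
      exact Module.length_eq_one _ _))
  let sh : ∀ n : ℤ, ((ptD x)⟦-n⟧ ⟶ ptD x) ≃ (ptD x ⟶ (ptD x)⟦n⟧) := fun n =>
    (Equiv.ofBijective _ ((Functor.FullyFaithful.ofFullyFaithful (shiftFunctor (DCoh.D X) n)).map_bijective _ _)).trans
      (Iso.homCongr ((shiftFunctorCompIsoId (DCoh.D X) (-n) n (by omega)).app (ptD x)) (Iso.refl _))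
  have dshift : ∀ n : ℤ, Nonempty (dual ((ptD x)⟦-n⟧) ≅ (ptD x)⟦n - c⟧) := fun n => by
    obtain ⟨s⟩ := nonempty_dual_shift (ptD x) (-n)
    exact ⟨s ≪≫ (shiftFunctor _ (- -n)).mapIso eT ≪≫
      ((shiftFunctorAdd' (DCoh.D X) (-c) (- -n) (n - c) (by omega)).app _).symm⟩
  -- the shift is at most the dimension
  have hc1 : c ≤ d := by
    by_contra hcd
    obtain ⟨s⟩ := dshift c
    obtain ⟨E⟩ := FibreHom.nonempty_hom_pt_equiv (k := k) hx _ (perfect_shift hpt (-c))
    have hzero : ∀ ψ : ptD x ⟶ (ptD x)⟦c⟧, ψ = 0 := by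
      intro ψ
      obtain ⟨n, hn⟩ : ∃ n : ℕ, c = n := ⟨c.toNat, by omega⟩
      subst hn
      obtain ⟨q⟩ := nonempty_ext_equiv (x := x) n
      haveI := hvan' n (by omega)
      exact q.injective (Subsingleton.elim _ _)
    have hb : PerfD.betti (dual ((ptD x)⟦-c⟧)) x 0 = 0 := FibreHom.betti_eq_zero _ x 0 fun φ => by
      refine E.symm.injective ((sh c).injective ?_)
      exact (hzero _).trans (hzero _).symm
    have hx0 := FibreNakayama.notMem_support _ (isPerfect_dual (perfect_shift hpt (-c))) x 0 hb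
    refine hx0 ((Groth.L21.Mod.support_congr ((DerivedCategory.homologyFunctor X.Modules 0).mapIso
      (s ≪≫ (shiftFunctorZero' (DCoh.D X) (c - c) (by omega)).app _) ≪≫
      (DerivedCategory.singleFunctorCompHomologyFunctorIso X.Modules 0).app (pt x))).symm.subset hxs)
  -- and at least the dimension
  have hc2 : (d : ℤ) ≤ c := by
    by_contra hcd
    obtain ⟨s⟩ := dshift d
    obtain ⟨E⟩ := FibreHom.nonempty_hom_pt_equiv (k := k) hx _ (perfect_shift hpt (-(d : ℤ)))
    obtain ⟨q⟩ := nonempty_ext_equiv (x := x) d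
    refine hnon ⟨fun a b => ?_⟩
    refine q.symm.injective ((sh d).symm.injective (E.injective ?_))
    let Z := Spec (X.residueField x)
    haveI : Projective (Coh.structureModule Z) := FibreHom.projective_structureModule (Groth.L29.DC.Fib.pt x)
    have hle : (dual ((ptD x)⟦-(d : ℤ)⟧)).IsLE (-1) := by
      let t := (DerivedCategory.TStructure.t (C := X.Modules))
      haveI : t.IsLE (ptD x) 0 := inferInstanceAs (((DerivedCategory.singleFunctor X.Modules 0).obj (pt x)).IsLE 0)
      haveI : t.IsLE ((ptD x)⟦(d : ℤ) - c⟧) (c - d) := t.isLE_shift (ptD x) 0 ((d : ℤ) - c) (c - d) (by omega)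
      haveI : t.IsLE ((ptD x)⟦(d : ℤ) - c⟧) (-1) := t.isLE_of_le _ (c - d) (-1) (by omega)
      exact t.isLE_of_iso s.symm (-1)
    have hL := Groth.L10.RelPC.TensorPullMax.isLE_Lpull (X.fromSpecResidueField x) _ (-1) hle
    have hzero : ∀ v : OD Z ⟶ ((DCoh.Lpull (X.fromSpecResidueField x)).obj (dual ((ptD x)⟦-(d : ℤ)⟧)))⟦(0 : ℤ)⟧,
        v = 0 := fun v => by
      obtain ⟨Q, hQ, ⟨eQ⟩⟩ := (((DCoh.Lpull (X.fromSpecResidueField x)).obj
        (dual ((ptD x)⟦-(d : ℤ)⟧)))).exists_iso_Q_obj_of_isLE (-1)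
      haveI := hQ
      let o := (DerivedCategory.singleFunctorIsoCompQ Z.Modules 0).app (Coh.structureModule Z)
      let z := (shiftFunctorZero (DCoh.D Z) ℤ).app ((DCoh.Lpull (X.fromSpecResidueField x)).obj
        (dual ((ptD x)⟦-(d : ℤ)⟧)))
      have := DerivedCategory.from_singleFunctor_obj_eq_zero_of_projective (P := Coh.structureModule Z) (i := 0)
        (o.inv ≫ v ≫ z.hom ≫ eQ.hom) (-1) (by omega)
      rw [← cancel_epi o.inv, ← cancel_mono (z.hom ≫ eQ.hom), comp_zero, zero_comp, Category.assoc]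
      exact this
    exact (hzero _).trans (hzero _).symm
  exact ⟨eT ≪≫ eqToIso (by rw [le_antisymm hc1 hc2])⟩

end Groth.L07.BvdB.DualPoint
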