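import Groth.Agent.L29.DCoh.FibreSplit
import Groth.Agent.L29.K.CohSupp
import Groth.Agent.L16.Rees.FibreMonoEpi
import Groth.Agent.L16.NegPow.Gen
import Groth.Agent.L29.DCoh.RHomBound
import Groth.Agent.L07.BvdB.PointHom

/-! A cohomology sheaf of a perfect object vanishes where the corresponding fibre cohomology does. -/

set_option autoImplicit false
set_option linter.style.haveILetI false
set_option backward.isDefEq.respectTransparency false
set_option backward.isDefEq.respectTransparency.types false

universe u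
open CategoryTheory CategoryTheory.Limits AlgebraicGeometry Opposite CochainComplex
attribute [local instance] HasDerivedCategory.standard

noncomputable section

namespace Groth.L07.BvdB.FibreNakayama

open Groth.L29.DC Groth.L29.DC.Fib

/-- Modulo the boundaries a surjective null homotopic endomorphism is injective. -/
theorem ker_le_range {R A M B : Type*} [CommRing R] [AddCommGroup A] [AddCommGroup M] [AddCommGroup B]
    [Module R A] [Module R M] [Module R B] [Module.Finite R M] (d : A →ₗ[R] M) (e : M →ₗ[R] B)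
    (h : M →ₗ[R] A) (h' : B →ₗ[R] M) (hs : Function.Surjective (h'.comp e + d.comp h))
    (hd : ∀ a, e (d a) = 0) : LinearMap.ker e ≤ LinearMap.range d := by
  let f := h'.comp e + d.comp h
  let Q := LinearMap.range d
  have hle : Q ≤ Q.comap f := by
    rintro _ ⟨a, rfl⟩
    exact ⟨h (d a), by simp [f, hd]⟩
  let g := Q.mapQ Q f hle
  have hg : Function.Surjective g := by
    intro q
    obtain ⟨m, rfl⟩ := Submodule.mkQ_surjective Q q
    obtain ⟨m', rfl⟩ := hs m
    exact ⟨Q.mkQ m', rfl⟩
  intro v hv
  rw [LinearMap.mem_ker] at hv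
  have : g (Q.mkQ v) = g 0 := by
    rw [map_zero]
    exact (Submodule.Quotient.mk_eq_zero Q).2 ⟨h v, by simp [f, hv]⟩
  exact (Submodule.Quotient.mk_eq_zero Q).1 (OrzechProperty.injective_of_surjective_endomorphism g hg this)

variable {X : Scheme.{u}} [IsLocallyNoetherian X]

/-- The cohomology sheaf vanishes near a point where the fibre cohomology does. -/
theorem notMem_support [∀ x : X, DCoh.HasLpull (X.fromSpecResidueField x)] (E : DCoh.D X)
    (hE : DCoh.IsPerfect E) (x : X) (i : ℤ) (hx : PerfD.betti E x i = 0) :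
    x ∉ CohB1.support (DCoh.HD E i) := by
  obtain ⟨U, j, _, P, n, α, hxU, hP, hα, he⟩ := exists_model_of_perfect E hE x
  obtain ⟨u, rfl⟩ := hxU
  haveI := hα
  haveI : IsLocallyNoetherian U := LocallyOfFiniteType.isLocallyNoetherian j
  haveI := Groth.L00.KFlat.hasLpull (lpt j u)
  letI := stalkField (pt (j u)) (isField_stalk_pt _)
  let ρ := Groth.L00.PullStalk.φ (lpt j u) (pt (j u))
  have hdd : ∀ a b d (v : (Φ ρ).obj (P.X a)), ((Φ ρ).map (P.d b d)).hom (((Φ ρ).map (P.d a b)).hom v) = 0 :=
    fun a b d v => by rw [← map_comp_apply, HomologicalComplex.d_comp_d, Functor.map_zero]; rfl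
  have hex : ∀ v : (Φ ρ).obj (P.X i), ((Φ ρ).map (P.d i (i + 1))).hom v = 0 →
      ∃ w, ((Φ ρ).map (P.d (i - 1) i)).hom w = v := by
    intro v hv
    have h := betti_add_rkp j E hP n (fun i => (he i).some) (Approx.of_isIso α (i - 1)) u
      (show i - 1 < i by omega)
    rw [hx, zero_add] at h
    haveI : FiniteDimensional ((Spec (X.residueField (j u))).presheaf.stalk (pt (j u))) ((Φ ρ).obj (P.X i)) :=
      finiteDimensional_Φ_of_iso ρ (he i).some
    have hn := finrank_Φ_of_iso ρ (he i).some
    let f := ((Φ ρ).map (P.d (i - 1) i)).hom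
    let g := ((Φ ρ).map (P.d i (i + 1))).hom
    have hrn := g.finrank_range_add_finrank_ker
    have hle : LinearMap.range f ≤ LinearMap.ker g := by
      rintro _ ⟨w, rfl⟩
      exact hdd _ _ _ w
    change Module.finrank _ (LinearMap.range f) + Module.finrank _ (LinearMap.range g) = n i at h
    have heq : LinearMap.range f = LinearMap.ker g :=
      Submodule.eq_of_le_of_finrank_eq hle (by omega)
    exact LinearMap.mem_range.1 (heq ▸ (LinearMap.mem_ker.2 hv : v ∈ LinearMap.ker g))
  obtain ⟨h, c, hc, hh⟩ := exists_pseudo ρ (he i).some (he (i + 1)).some (P.d i (i + 1))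
  obtain ⟨h', c', hc', hh'⟩ := exists_pseudo ρ (he (i - 1)).some (he i).some (P.d (i - 1) i)
  let uu : P.X i ⟶ P.X i := P.d i (i + 1) ≫ h + h' ≫ P.d (i - 1) i
  have huu : ∀ v : (Φ ρ).obj (P.X i), ((Φ ρ).map uu).hom v =
      ((Φ ρ).map h).hom (((Φ ρ).map (P.d i (i + 1))).hom v) +
        ((Φ ρ).map (P.d (i - 1) i)).hom (((Φ ρ).map h').hom v) := fun v => by
    simp only [uu]
    rw [Functor.map_add, ModuleCat.hom_add, LinearMap.add_apply, map_comp_apply, map_comp_apply]
  have hinj : Function.Injective ((Φ ρ).map uu).hom := by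
    rw [injective_iff_map_eq_zero]
    intro v hv
    have h1 := congrArg ((Φ ρ).map (P.d i (i + 1))).hom hv
    rw [huu, map_add, hdd, hh, add_zero, map_zero] at h1
    have hdv := (smul_eq_zero.1 h1).resolve_left hc
    obtain ⟨w, rfl⟩ := hex v hdv
    rw [huu, hdd, map_zero, zero_add, hh'] at hv
    exact (smul_eq_zero.1 hv).resolve_left hc'
  obtain ⟨W, hW, hWiso⟩ := exists_isIso_nhd ρ (he i).some (he i).some uu hinj
  rw [lpt_pt] at hW
  let S := Groth.L00.Stk.F U u
  -- the stalk of `uu` is surjective
  haveI : IsIso (S.map uu) := by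
    have := hWiso
    let y : (W : Scheme.{u}) := ⟨u, hW⟩
    haveI : IsIso ((Groth.L21.Mod.stalkF U (W.ι y)).map uu) :=
      (NatIso.isIso_map_iff (Groth.L21.Mod.restrictStalkF W.ι y) uu).1
        (inferInstanceAs (IsIso ((Groth.L21.Mod.stalkF (W : Scheme.{u}) y).map
          ((Scheme.Modules.restrictFunctor W.ι).map uu))))
    haveI : IsIso ((forget₂ (ModuleCat.{u} (U.presheaf.stalk u)) AddCommGrpCat.{u}).map (S.map uu)) :=
      (NatIso.isIso_map_iff (Groth.L00.Stk.forgetIso (X := U) u) uu).2
        (inferInstanceAs (IsIso ((Groth.L21.Mod.stalkF U (W.ι y)).map uu)))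
    exact isIso_of_reflects_iso (S.map uu) (forget₂ (ModuleCat.{u} (U.presheaf.stalk u)) AddCommGrpCat.{u})
  haveI : Module.Finite (U.presheaf.stalk u) (S.obj (P.X i)) :=
    Groth.L16.Rees.FibreMonoEpi.finite_stalk (Groth.L16.NegPow.isCoh_of_isFinLocFree (hP.2 i)) u
  have hsurj : Function.Surjective ((S.map h).hom.comp (S.map (P.d i (i + 1))).hom +
      (S.map (P.d (i - 1) i)).hom.comp (S.map h').hom) := fun v => by
    obtain ⟨w, hw⟩ := (ConcreteCategory.bijective_of_isIso (S.map uu)).2 v
    refine ⟨w, Eq.trans ?_ hw⟩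
    simp only [uu, Functor.map_add, Functor.map_comp]
    rfl
  haveI : S.PreservesZeroMorphisms := inferInstance
  have hex' : ((P.sc' (i - 1) i (i + 1)).map S).Exact := by
    rw [ShortComplex.moduleCat_exact_iff]
    intro v hv
    exact LinearMap.mem_range.1 (ker_le_range (S.map (P.d (i - 1) i)).hom (S.map (P.d i (i + 1))).hom
      (S.map h').hom (S.map h).hom hsurj (fun a => by
        rw [← LinearMap.comp_apply, ← ModuleCat.hom_comp, ← Functor.map_comp, HomologicalComplex.d_comp_d,
          Functor.map_zero]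
        rfl) (LinearMap.mem_ker.2 hv))
  have hz : IsZero (S.obj ((P.sc' (i - 1) i (i + 1)).homology)) :=
    (ShortComplex.exact_iff_isZero_homology _).1 hex' |>.of_iso ((P.sc' (i - 1) i (i + 1)).mapHomologyIso S).symm
  have hu : u ∉ CohB1.support ((DerivedCategory.homologyFunctor U.Modules i).obj (DerivedCategory.Q.obj P)) := by
    let e : (DerivedCategory.homologyFunctor U.Modules i).obj (DerivedCategory.Q.obj P) ≅
        (P.sc' (i - 1) i (i + 1)).homology := (DerivedCategory.homologyFunctorFactors U.Modules i).app P ≪≫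
      ShortComplex.homologyMapIso (P.isoSc' (i - 1) i (i + 1) (by simp) (by simp))
    rw [Groth.L21.Mod.support_congr e, Groth.L21.Mod.mem_support_iff_not_isZero, not_not]
    exact ((forget₂ (ModuleCat.{u} (U.presheaf.stalk u)) AddCommGrpCat.{u}).map_isZero hz).of_iso
      ((Groth.L00.Stk.forgetIso (X := U) u).app _).symm
  intro hs
  refine hu ((Groth.L21.Mod.support_congr (((DerivedCategory.homologyFunctor U.Modules i).mapIso (asIso α)) ≪≫
    HDResIso j E i)).symm.subset ?_)
  exact (Groth.L21.Mod.support_restrict j (DCoh.HD E i)).symm.subset hs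

end Groth.L07.BvdB.FibreNakayama
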