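import Groth.Agent.L07.BvdB.PointHom
import Groth.Agent.L04.InjNoeth
import Groth.Agent.L17.CohClass
import Mathlib.Algebra.Category.ModuleCat.EnoughInjectives
import Mathlib.Algebra.Homology.DerivedCategory.KInjective
import Mathlib.RingTheory.FiniteLength

/-! Higher extensions between modules of finite length at a closed point are effaceable among such modules. -/

set_option autoImplicit false
set_option linter.style.haveILetI false
set_option backward.defeqAttrib.useBackward true
set_option backward.isDefEq.respectTransparency false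
set_option backward.isDefEq.respectTransparency.types false

universe u
open CategoryTheory CategoryTheory.Limits CategoryTheory.Pretriangulated AlgebraicGeometry
open TopologicalSpace Opposite IsLocalRing
attribute [local instance] HasDerivedCategory.standard

noncomputable section

namespace Groth.L07.BvdB.PointEfface

open Groth.L00.Sky Groth.L07.BvdB.PointSky

/-- Into a single injective object there are no maps of positive degree. -/
theorem hom_single_eq_zero {C : Type*} [Category C] [Abelian C] [HasDerivedCategory C] (A I : C) [Injective I]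
    (i : ℤ) (hi : i ≠ 0)
    (φ : (DerivedCategory.singleFunctor C 0).obj A ⟶ ((DerivedCategory.singleFunctor C 0).obj I)⟦i⟧) : φ = 0 := by
  let SA := (CochainComplex.singleFunctor C 0).obj A
  let SI := (CochainComplex.singleFunctor C 0).obj I
  haveI : CochainComplex.IsStrictlyGE SI 0 := inferInstanceAs (CochainComplex.IsStrictlyGE ((CochainComplex.singleFunctor C 0).obj I) 0)
  haveI : ∀ n : ℤ, Injective (SI.X n) := fun n => by
    rcases eq_or_ne n 0 with rfl | hn
    · exact Injective.of_iso (HomologicalComplex.singleObjXSelf (ComplexShape.up ℤ) 0 I).symm inferInstance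
    · exact (HomologicalComplex.isZero_single_obj_X (ComplexShape.up ℤ) 0 I n hn).injective
  haveI : SI.IsKInjective := CochainComplex.isKInjective_of_injective SI 0
  haveI : (SI⟦i⟧).IsKInjective := inferInstance
  let eA := ((DerivedCategory.singleFunctorIsoCompQ C 0).app A) ≪≫
    (DerivedCategory.quotientCompQhIso C).symm.app SA
  let eI : ((DerivedCategory.singleFunctor C 0).obj I)⟦i⟧ ≅
      DerivedCategory.Qh.obj ((HomotopyCategory.quotient C _).obj (SI⟦i⟧)) :=
    (shiftFunctor _ i).mapIso ((DerivedCategory.singleFunctorIsoCompQ C 0).app I) ≪≫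
      (DerivedCategory.Q.commShiftIso i).symm.app SI ≪≫ (DerivedCategory.quotientCompQhIso C).symm.app (SI⟦i⟧)
  obtain ⟨g, hg⟩ := (CochainComplex.IsKInjective.Qh_map_bijective ((HomotopyCategory.quotient C _).obj SA) (SI⟦i⟧)).2
    (eA.inv ≫ φ ≫ eI.hom)
  obtain ⟨f, rfl⟩ := (HomotopyCategory.quotient C _).map_surjective g
  have hf : f = 0 := by
    ext n
    rcases eq_or_ne n 0 with rfl | hn
    · exact (IsZero.of_iso (HomologicalComplex.isZero_single_obj_X (ComplexShape.up ℤ) 0 I (0 + i) (by omega))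
        (CochainComplex.shiftFunctorObjXIso SI i 0 (0 + i) rfl)).eq_of_tgt _ _
    · exact (HomologicalComplex.isZero_single_obj_X (ComplexShape.up ℤ) 0 A n hn).eq_of_src _ _
  rw [hf, Functor.map_zero, Functor.map_zero] at hg
  rw [← cancel_epi eA.inv, ← cancel_mono eI.hom, comp_zero, zero_comp, Category.assoc]
  exact hg.symm

theorem isArtinianRing_quotient_pow {R : Type u} [CommRing R] [IsLocalRing R] [IsNoetherianRing R] (n : ℕ) :
    IsArtinianRing (R ⧸ (maximalIdeal R) ^ n) := by
  rcases Nat.eq_zero_or_pos n with rfl | hn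
  · haveI : Subsingleton (R ⧸ (maximalIdeal R) ^ 0) :=
      Ideal.Quotient.subsingleton_iff.2 (by rw [pow_zero, Ideal.one_eq_top])
    infer_instance
  haveI : IsNoetherianRing (R ⧸ (maximalIdeal R) ^ n) := inferInstance
  refine isArtinianRing_iff_isNoetherianRing_krullDimLE_zero.2 ⟨inferInstance, Ring.krullDimLE_zero_iff.2 fun P hP => ?_⟩
  haveI := hP
  have hle : maximalIdeal R ≤ P.comap (Ideal.Quotient.mk ((maximalIdeal R) ^ n)) :=
    (Ideal.IsPrime.pow_le_iff hn.ne').1 fun r hr => by
      rw [Ideal.mem_comap, Ideal.Quotient.eq_zero_iff_mem.2 hr]; exact P.zero_mem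
  have heq : P.comap (Ideal.Quotient.mk ((maximalIdeal R) ^ n)) = maximalIdeal R :=
    ((maximalIdeal.isMaximal R).eq_of_le (Ideal.comap_ne_top _ hP.ne_top) hle).symm
  rw [← Ideal.map_comap_of_surjective _ Ideal.Quotient.mk_surjective P, heq]
  exact Ideal.IsMaximal.map_of_surjective_of_ker_le Ideal.Quotient.mk_surjective
    (by rw [Ideal.mk_ker]; exact Ideal.pow_le_self hn.ne')

variable {X : Scheme.{u}}

theorem subsingleton_stalk {x : X} (hx : IsClosed ({x} : Set X)) (N : ModuleCat.{u} (X.presheaf.stalk x))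
    {y : X} (hy : y ≠ x) : Subsingleton ((sky x N).presheaf.stalk y) := by
  refine subsingleton_of_forall_eq 0 fun v => ?_
  obtain ⟨U, hU, s, rfl⟩ := TopCat.Presheaf.exists_germ_eq (sky x N).presheaf v
  let V : X.Opens := U ⊓ ⟨({x} : Set X)ᶜ, hx.isOpen_compl⟩
  rw [← Groth.L20.ModStalk.germ_rs (sky x N) (inf_le_left : V ≤ U) (show y ∈ V from ⟨hU, hy⟩) s]
  have h0 : Groth.L18.Frame.rs (sky x N) (inf_le_left : V ≤ U) s = 0 := sec_ext fun h => absurd rfl h.2
  rw [h0, map_zero]

theorem support_sky {x : X} (hx : IsClosed ({x} : Set X)) (N : ModuleCat.{u} (X.presheaf.stalk x)) :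
    CohB1.support (sky x N) ⊆ {x} := fun _ hy => by
  by_contra hne
  exact hy (subsingleton_stalk hx N hne)

instance (x : X) : (skyF (X := X) x).Additive := (adj x).right_adjoint_additive

/-- The skyscraper functor of a closed point is exact. -/
theorem shortExact_sky {x : X} (hx : IsClosed ({x} : Set X)) {S : ShortComplex (ModuleCat.{u} (X.presheaf.stalk x))}
    (hS : S.ShortExact) : (S.map (skyF x)).ShortExact := by
  rw [Groth.L21.Mod.shortExact_iff_stalk]
  intro y
  by_cases hy : y = x
  · subst hy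
    exact ShortComplex.shortExact_of_iso (S.mapNatIso (counitIso y)).symm (show (S.map (𝟭 _)).ShortExact from hS) |>.map_of_exact
      (forget₂ (ModuleCat.{u} (X.presheaf.stalk y)) AddCommGrpCat.{u})
  · have hz : ∀ N, IsZero ((Groth.L21.Mod.stalkF X y).obj ((skyF x).obj N)) := fun N =>
      @AddCommGrpCat.isZero_of_subsingleton _ (subsingleton_stalk hx N hy)
    exact { exact := ShortComplex.exact_of_isZero_X₂ _ (hz _)
            mono_f := ⟨fun _ _ _ => (hz S.X₁).eq_of_tgt _ _⟩
            epi_g := ⟨fun _ _ _ => (hz S.X₃).eq_of_src _ _⟩ }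

variable [IsLocallyNoetherian X]

/-- Skyscrapers of modules of finite length at closed points are coherent. -/
theorem isCoh_sky {x : X} (hx : IsClosed ({x} : Set X)) :
    ∀ (n : ℕ) (N : ModuleCat.{u} (X.presheaf.stalk x)), Module.length (X.presheaf.stalk x) N ≤ n →
      Coh.IsCoh (sky x N) := by
  intro n
  induction n with
  | zero =>
    intro N hN
    have : Subsingleton N := Module.length_eq_zero_iff.1 (le_antisymm hN zero_le)
    exact Groth.L29.DC.RHomC.isCoh_of_isZero ((skyF x).map_isZero (ModuleCat.isZero_of_subsingleton N))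
  | succ n ih =>
    intro N hN
    rcases subsingleton_or_nontrivial N with hN0 | hN0
    · exact Groth.L29.DC.RHomC.isCoh_of_isZero ((skyF x).map_isZero (ModuleCat.isZero_of_subsingleton N))
    haveI : IsNoetherian (X.presheaf.stalk x) N := (isFiniteLength_iff_isNoetherian_isArtinian.1
      (Module.length_ne_top_iff.1 (ne_top_of_le_ne_top (ENat.natCast_ne_top _) hN))).1
    obtain ⟨K, hK, -⟩ := (eq_top_or_exists_le_coatom (⊥ : Submodule (X.presheaf.stalk x) N)).resolve_left bot_ne_top
    haveI : IsSimpleModule (X.presheaf.stalk x) (N ⧸ K) := isSimpleModule_iff_isCoatom.2 hK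
    obtain ⟨J, hJ, ⟨eJ⟩⟩ := isSimpleModule_iff_quot_maximal.1 (‹IsSimpleModule (X.presheaf.stalk x) (N ⧸ K)›)
    obtain rfl : J = maximalIdeal (X.presheaf.stalk x) := IsLocalRing.eq_maximalIdeal hJ
    let e : (N ⧸ K) ≃ₗ[X.presheaf.stalk x] ResidueField (X.presheaf.stalk x) := eJ
    let p : N ⟶ Groth.L21.RR.resMod x := ModuleCat.ofHom (e.toLinearMap.comp K.mkQ)
    have hp : Function.Surjective p := e.surjective.comp K.mkQ_surjective
    have hS : (ShortComplex.mk (kernel.ι p) p (kernel.condition p)).ShortExact :=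
      haveI : Epi p := (ModuleCat.epi_iff_surjective p).2 hp
      { exact := ShortComplex.exact_kernel p }
    have hl : Module.length (X.presheaf.stalk x) (kernel p : ModuleCat _) + 1 = Module.length (X.presheaf.stalk x) N := by
      have h1 : Module.length (X.presheaf.stalk x) (Groth.L21.RR.resMod x) = 1 := by
        show Module.length (X.presheaf.stalk x) (ResidueField (X.presheaf.stalk x)) = 1
        rw [Module.length_eq_of_surjective IsLocalRing.residue_surjective]
        exact Module.length_eq_one _ _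
      have h2 := Module.length_eq_add_of_exact (kernel.ι p).hom p.hom
        ((ModuleCat.mono_iff_injective _).1 inferInstance) hp
        ((ShortComplex.ShortExact.moduleCat_exact_iff_function_exact _).1 hS.exact)
      rw [h2, h1]
    have hker : Coh.IsCoh (sky x (kernel p)) := ih _ (by
      rw [← hl] at hN
      push_cast at hN
      exact (ENat.add_le_add_iff_right ENat.one_ne_top).1 hN)
    obtain ⟨s⟩ := nonempty_iso_sky x
    exact Groth.L17.CohClass.isCoh_of_shortExact _ (shortExact_sky hx hS) hker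
      (Groth.L16.CohSupport.isCoh_of_iso s (isCoh_pt hx))

/-- A coherent module supported at the point is the skyscraper of its stalk. -/
theorem exists_sky {x : X} (hx : IsClosed ({x} : Set X)) {M : X.Modules} (hM : Coh.IsCoh M)
    (hs : CohB1.support M ⊆ {x}) :
    ∃ N : ModuleCat.{u} (X.presheaf.stalk x), IsFiniteLength (X.presheaf.stalk x) N ∧ Nonempty (M ≅ sky x N) := by
  refine ⟨(Groth.L00.Stk.F X x).obj M, Module.length_ne_top_iff.1
    (Groth.L16.CohSupport.len_ne_top hM fun z hz _ => hs hz), ?_⟩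
  haveI : IsIso ((adj x).unit.app M) := by
    rw [Groth.L21.Mod.isIso_iff_stalk_bijective]
    intro y
    by_cases hy : y = x
    · subst hy
      haveI := isIso_counit ((Groth.L00.Stk.F X y).obj M)
      haveI : IsIso ((Groth.L00.Stk.F X y).map ((adj y).unit.app M)) := by
        haveI : IsIso ((Groth.L00.Stk.F X y).map ((adj y).unit.app M) ≫ (adj y).counit.app ((Groth.L00.Stk.F X y).obj M)) := by
          rw [show (Groth.L00.Stk.F X y).map ((adj y).unit.app M) ≫
              (adj y).counit.app ((Groth.L00.Stk.F X y).obj M) = 𝟙 _ from (adj y).left_triangle_components M]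
          infer_instance
        exact IsIso.of_isIso_comp_right _ ((adj y).counit.app ((Groth.L00.Stk.F X y).obj M))
      exact ConcreteCategory.bijective_of_isIso ((Groth.L00.Stk.F X y).map ((adj y).unit.app M))
    · haveI : Subsingleton (M.presheaf.stalk y) := not_nontrivial_iff_subsingleton.1 fun h =>
        hy (hs (not_subsingleton_iff_nontrivial.2 h))
      haveI := subsingleton_stalk hx ((Groth.L00.Stk.F X x).obj M) hy
      exact ⟨fun a b _ => @Subsingleton.elim (M.presheaf.stalk y) _ a b,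
        fun b => ⟨0, @Subsingleton.elim ((sky x _).presheaf.stalk y) _ _ b⟩⟩
  exact ⟨asIso ((adj x).unit.app M)⟩

/-- Effacement by modules of finite length. -/
theorem efface {x : X} (hx : IsClosed ({x} : Set X)) :
    ∀ (i : ℕ) (M Q : ModuleCat.{u} (X.presheaf.stalk x)), IsFiniteLength (X.presheaf.stalk x) M →
      LocCoh.IsPowerTorsion (maximalIdeal (X.presheaf.stalk x)) Q →
      ∀ η : DCoh.inD X ((skyF x).obj M) ⟶ (DCoh.inD X ((skyF x).obj Q))⟦((i + 1 : ℕ) : ℤ)⟧,
      ∃ (M' : ModuleCat.{u} (X.presheaf.stalk x)) (q : M' ⟶ M), IsFiniteLength (X.presheaf.stalk x) M' ∧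
        Function.Surjective q ∧ (DerivedCategory.singleFunctor X.Modules 0).map ((skyF x).map q) ≫ η = 0 := by
  intro i
  induction' i using Nat.strong_induction_on with i ih
  intro M Q hM hQ η
  haveI : IsNoetherianRing (X.presheaf.stalk x) := inferInstance
  let I := Injective.under Q
  let m := maximalIdeal (X.presheaf.stalk x)
  haveI hI0 : Injective I := Injective.injective_under Q
  have hI : Module.Injective (X.presheaf.stalk x) I := Module.injective_module_of_injective_object (inj := hI0)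
  let E : ModuleCat.{u} (X.presheaf.stalk x) := ModuleCat.of _ (Groth.L04.powTorsion m I)
  haveI : Injective E :=
    (Module.injective_iff_injective_object (X.presheaf.stalk x) E).1 (Groth.L04.injective_powTorsion hI m)
  have hQE : ∀ a : Q, (Injective.ι Q).hom a ∈ Groth.L04.powTorsion m I := fun a => by
    obtain ⟨n, hn⟩ := hQ a
    exact Groth.L04.mem_powTorsion.2 ⟨n, fun r hr => by rw [← map_smul, hn r hr, map_zero]⟩
  let u : Q ⟶ E := ModuleCat.ofHom ((Injective.ι Q).hom.codRestrict _ hQE)
  have hu : Function.Injective u := fun a b h =>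
    (ModuleCat.mono_iff_injective (Injective.ι Q)).1 inferInstance (congrArg Subtype.val h)
  let Q' : ModuleCat.{u} (X.presheaf.stalk x) := ModuleCat.of _ (E ⧸ LinearMap.range u.hom)
  let π : E ⟶ Q' := ModuleCat.ofHom (Submodule.mkQ _)
  have hQ' : LocCoh.IsPowerTorsion m Q' := fun a => by
    obtain ⟨a, rfl⟩ := Submodule.mkQ_surjective (LinearMap.range u.hom) a
    obtain ⟨n, hn⟩ := Groth.L04.isPowerTorsion_powTorsion m I a
    exact ⟨n, fun r hr => (map_smul (Submodule.mkQ (LinearMap.range u.hom)) r a).symm.trans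
      ((congrArg _ (hn r hr)).trans (map_zero _))⟩
  have hzero : u ≫ π = 0 := by
    ext a
    exact (Submodule.Quotient.mk_eq_zero _).2 ⟨a, rfl⟩
  have hS : (ShortComplex.mk u π hzero).ShortExact :=
    { exact := (ShortComplex.ShortExact.moduleCat_exact_iff_function_exact _).2 fun a =>
        (Submodule.Quotient.mk_eq_zero _).trans Iff.rfl
      mono_f := (ModuleCat.mono_iff_injective u).2 hu
      epi_g := (ModuleCat.epi_iff_surjective π).2 (Submodule.mkQ_surjective _) }
  let T := (shortExact_sky hx hS).singleTriangle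
  have hT : T ∈ distTriang _ := (shortExact_sky hx hS).singleTriangle_distinguished
  haveI : Injective ((skyF x).obj E) :=
    haveI : (Groth.L00.Stk.F X x).PreservesMonomorphisms := inferInstance
    Injective.injective_of_adjoint (adj x) E
  have hη : η ≫ T.mor₁⟦((i + 1 : ℕ) : ℤ)⟧' = 0 := hom_single_eq_zero _ ((skyF x).obj E) _ (by omega) _
  let a := (shiftFunctorAdd' (DCoh.D X) ((i : ℕ) : ℤ) 1 ((i + 1 : ℕ) : ℤ) (by omega)).app T.obj₁
  let a₂ := (shiftFunctorAdd' (DCoh.D X) ((i : ℕ) : ℤ) 1 ((i + 1 : ℕ) : ℤ) (by omega)).app T.obj₂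
  obtain ⟨η', hη'⟩ : ∃ η' : DCoh.inD X ((skyF x).obj M) ⟶ T.obj₃⟦((i : ℕ) : ℤ)⟧,
      ∀ {P : DCoh.D X} (v : P ⟶ DCoh.inD X ((skyF x).obj M)), v ≫ η' = 0 ∨
        (∃ w : P ⟶ T.obj₂⟦((i : ℕ) : ℤ)⟧, v ≫ η' = w ≫ T.mor₂⟦((i : ℕ) : ℤ)⟧') → v ≫ η = 0 := by
    let o : T.obj₁⟦((i + 1 : ℕ) : ℤ)⟧ ≅ (T.obj₁⟦(1 : ℤ)⟧)⟦((i : ℕ) : ℤ)⟧ :=
      (shiftFunctorAdd' (DCoh.D X) 1 ((i : ℕ) : ℤ) ((i + 1 : ℕ) : ℤ) (by omega)).app T.obj₁
    have h1 : (η ≫ o.hom) ≫ (T.mor₁⟦(1 : ℤ)⟧')⟦((i : ℕ) : ℤ)⟧' = 0 := by
      rw [Category.assoc]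
      have hn := (shiftFunctorAdd' (DCoh.D X) 1 ((i : ℕ) : ℤ) ((i + 1 : ℕ) : ℤ) (by omega)).hom.naturality T.mor₁
      show η ≫ (shiftFunctorAdd' (DCoh.D X) 1 ((i : ℕ) : ℤ) ((i + 1 : ℕ) : ℤ) (by omega)).hom.app T.obj₁ ≫ _ = 0
      erw [← hn]
      rw [← Category.assoc, hη, zero_comp]
    let η₁ := (shiftFunctorCompIsoId (DCoh.D X) (-((i : ℕ) : ℤ)) ((i : ℕ) : ℤ) (by omega)).app (DCoh.inD X ((skyF x).obj M))
    obtain ⟨φ₁, hφ₁⟩ := (shiftFunctor (DCoh.D X) ((i : ℕ) : ℤ)).map_surjective (η₁.hom ≫ η ≫ o.hom)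
    have h2 : φ₁ ≫ T.mor₁⟦(1 : ℤ)⟧' = 0 := by
      apply (shiftFunctor (DCoh.D X) ((i : ℕ) : ℤ)).map_injective
      rw [Functor.map_comp, hφ₁, Category.assoc, h1, comp_zero, Functor.map_zero]
    obtain ⟨ψ, hψ⟩ := T.coyoneda_exact₁ hT φ₁ h2
    refine ⟨η₁.inv ≫ ψ⟦((i : ℕ) : ℤ)⟧', fun {P} v hv => ?_⟩
    have key : η ≫ o.hom = (η₁.inv ≫ ψ⟦((i : ℕ) : ℤ)⟧') ≫ T.mor₃⟦((i : ℕ) : ℤ)⟧' := by
      rw [Category.assoc, ← Functor.map_comp, ← hψ, hφ₁, Iso.inv_hom_id_assoc]
    rw [← cancel_mono o.hom, Category.assoc, key, ← Category.assoc, zero_comp]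
    rcases hv with hv | ⟨w, hw⟩
    · rw [hv, zero_comp]
    · rw [hw, Category.assoc, ← Functor.map_comp, comp_distTriang_mor_zero₂₃ T hT, Functor.map_zero, comp_zero]
  rcases Nat.eq_zero_or_pos i with hi | hi
  · subst hi
    let z := (shiftFunctorZero (DCoh.D X) ℤ).app T.obj₃
    obtain ⟨g₀, hg₀⟩ := (DerivedCategory.singleFunctor X.Modules 0).map_surjective (η' ≫ z.hom)
    obtain ⟨g, hg⟩ : ∃ g : M ⟶ Q', (skyF x).map g = g₀ := by
      haveI : IsIso ((adj x).counit.app M) := isIso_counit M
      refine ⟨inv ((adj x).counit.app M) ≫ ((adj x).homEquiv _ _).symm g₀, ?_⟩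
      apply ((adj x).homEquiv _ _).symm.injective
      rw [Adjunction.homEquiv_counit, (adj x).counit_naturality, IsIso.hom_inv_id_assoc]
    obtain ⟨S₀, hS₀⟩ := (isFiniteLength_iff_isNoetherian_isArtinian.1 hM).1.noetherian ⊤
    classical
    choose pre hpre using fun s : M => Submodule.mkQ_surjective (LinearMap.range u.hom) (g.hom s)
    let gen : S₀ → E × M := fun s => (pre s.1, s.1)
    let N₀ := Submodule.span (X.presheaf.stalk x) (Set.range gen)
    let M' : ModuleCat.{u} (X.presheaf.stalk x) := ModuleCat.of _ N₀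
    let q : M' ⟶ M := ModuleCat.ofHom ((LinearMap.snd _ E M).comp N₀.subtype)
    let h : M' ⟶ E := ModuleCat.ofHom ((LinearMap.fst _ E M).comp N₀.subtype)
    have hcomm : q ≫ g = h ≫ π := by
      ext ⟨p, hp⟩
      show g.hom p.2 = Submodule.mkQ (LinearMap.range u.hom) p.1
      induction hp using Submodule.span_induction with
      | mem p hp => obtain ⟨s, rfl⟩ := hp; exact (hpre s.1).symm
      | zero => simp
      | add a b _ _ ha hb => simp only [Prod.fst_add, Prod.snd_add, map_add, ha, hb]
      | smul r a _ ha => simp only [Prod.smul_fst, Prod.smul_snd, map_smul, ha]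
    have hq : Function.Surjective q := fun y => by
      have hy : y ∈ Submodule.span (X.presheaf.stalk x) (S₀ : Set M) := hS₀ ▸ Submodule.mem_top
      have hle : Submodule.span (X.presheaf.stalk x) (S₀ : Set M) ≤ LinearMap.range q.hom :=
        Submodule.span_le.2 fun s hs => ⟨⟨gen ⟨s, hs⟩, Submodule.subset_span ⟨_, rfl⟩⟩, rfl⟩
      exact hle hy
    have hM' : IsFiniteLength (X.presheaf.stalk x) M' := by
      haveI : IsArtinian (X.presheaf.stalk x) M := (isFiniteLength_iff_isNoetherian_isArtinian.1 hM).2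
      haveI : IsNoetherian (X.presheaf.stalk x) M := (isFiniteLength_iff_isNoetherian_isArtinian.1 hM).1
      let E₀ := Submodule.map (LinearMap.fst _ E M) N₀
      have hE₀ : E₀.FG := (Submodule.fg_span (Set.finite_range gen)).map _
      obtain ⟨n, hn⟩ := Groth.L04.exists_pow_kills_of_fg (Groth.L04.isPowerTorsion_powTorsion m I) hE₀
      haveI : Module.Finite (X.presheaf.stalk x) E₀ := Module.Finite.iff_fg.2 hE₀
      haveI : IsArtinian (X.presheaf.stalk x) E₀ := by
        let hT' : Module.IsTorsionBySet (X.presheaf.stalk x) E₀ ((m ^ n : Ideal _) : Set _) :=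
          fun z r => Subtype.ext (hn z.1 z.2 r.1 r.2)
        letI := hT'.module
        haveI : IsScalarTower (X.presheaf.stalk x) ((X.presheaf.stalk x) ⧸ m ^ n) E₀ := hT'.isScalarTower
        haveI : IsArtinianRing ((X.presheaf.stalk x) ⧸ m ^ n) :=
          Groth.L07.BvdB.PointEfface.isArtinianRing_quotient_pow n
        haveI : Module.Finite ((X.presheaf.stalk x) ⧸ m ^ n) E₀ :=
          Module.Finite.of_restrictScalars_finite (X.presheaf.stalk x) _ _
        exact isArtinian_of_surjective_algebraMap (R := (X.presheaf.stalk x) ⧸ m ^ n) Ideal.Quotient.mk_surjective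
      refine isFiniteLength_iff_isNoetherian_isArtinian.2 ⟨isNoetherian_of_fg_of_noetherian N₀ (Submodule.fg_span (Set.finite_range gen)), ?_⟩
      · let inc : N₀ →ₗ[X.presheaf.stalk x] E₀ × M :=
          (LinearMap.codRestrict E₀ ((LinearMap.fst _ E M).comp N₀.subtype) fun p => ⟨p.1, p.2, rfl⟩).prod
            ((LinearMap.snd _ E M).comp N₀.subtype)
        exact isArtinian_of_injective inc fun a b hab => Subtype.ext (Prod.ext
          (congrArg (fun p : E₀ × M => (p.1 : E)) hab) (congrArg (fun p : E₀ × M => p.2) hab))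
    refine ⟨M', q, hM', hq, hη' _ (Or.inr ⟨(DerivedCategory.singleFunctor X.Modules 0).map ((skyF x).map h) ≫
      (shiftFunctorZero (DCoh.D X) ℤ).inv.app T.obj₂, ?_⟩)⟩
    have h3 : η' = (DerivedCategory.singleFunctor X.Modules 0).map ((skyF x).map g) ≫ z.inv := by
      rw [hg, hg₀, Category.assoc, Iso.hom_inv_id, Category.comp_id]
    rw [h3, ← Functor.map_comp_assoc, ← Functor.map_comp, hcomm, Functor.map_comp, Functor.map_comp]
    simp only [Category.assoc]
    exact congrArg _ ((shiftFunctorZero (DCoh.D X) ℤ).inv.naturality _)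
  · obtain ⟨j, rfl⟩ : ∃ j, i = j + 1 := ⟨i - 1, by omega⟩
    obtain ⟨M', q, hM', hq, hq0⟩ := ih j (by omega) M Q' hM hQ' η'
    exact ⟨M', q, hM', hq, hη' _ (Or.inl hq0)⟩

end Groth.L07.BvdB.PointEfface
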