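import Groth.Agent.L07.BvdB.PointSky
import Groth.Agent.L07.BvdB.PointEfface
import Mathlib.AlgebraicGeometry.Morphisms.ClosedImmersion

/-! Artinian thickenings of a closed point as closed subschemes. -/

set_option autoImplicit false
set_option linter.style.haveILetI false
set_option backward.isDefEq.respectTransparency false
set_option backward.isDefEq.respectTransparency.types false

universe u
open CategoryTheory CategoryTheory.Limits AlgebraicGeometry TopologicalSpace Opposite IsLocalRing

noncomputable section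

namespace Groth.L07.BvdB.ThickPoint

open Groth.L18.Frame (rs)

variable {X : Scheme.{u}}

/-- The ring of the thickening. -/
abbrev ring (x : X) (n : ℕ) : CommRingCat.{u} :=
  CommRingCat.of ((X.presheaf.stalk x) ⧸ maximalIdeal (X.presheaf.stalk x) ^ n)

/-- The quotient. -/
abbrev quot (x : X) (n : ℕ) : X.presheaf.stalk x ⟶ ring x n :=
  CommRingCat.ofHom (Ideal.Quotient.mk (maximalIdeal (X.presheaf.stalk x) ^ n))

/-- The inclusion of the thickening. -/
def incl (x : X) (n : ℕ) : Spec (ring x n) ⟶ X := Spec.map (quot x n) ≫ X.fromSpecStalk x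

theorem incl_apply (x : X) (n : ℕ) (hn : 0 < n) (p : Spec (ring x n)) : incl x n p = x := by
  have hp : Spec.map (quot x n) p = closedPoint (X.presheaf.stalk x) := by
    refine PrimeSpectrum.ext ((maximalIdeal.isMaximal _).eq_of_le (Spec.map (quot x n) p).isPrime.ne_top ?_).symm
    refine (Ideal.IsPrime.pow_le_iff hn.ne' (hP := (Spec.map (quot x n) p).isPrime)).1 fun r hr => ?_
    show (quot x n).hom r ∈ p.asIdeal
    rw [show (quot x n).hom r = 0 from Ideal.Quotient.eq_zero_iff_mem.2 hr]
    exact zero_mem _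
  show X.fromSpecStalk x (Spec.map (quot x n) p) = x
  rw [hp, Scheme.fromSpecStalk_closedPoint]

theorem isClosedImmersion_incl {x : X} (hx : IsClosed ({x} : Set X)) (n : ℕ) (hn : 0 < n) :
    IsClosedImmersion (incl x n) := by
  haveI : IsClosedImmersion (Spec.map (quot x n)) :=
    IsClosedImmersion.spec_of_surjective _ Ideal.Quotient.mk_surjective
  haveI : IsPreimmersion (incl x n) := by rw [incl]; infer_instance
  haveI : Nontrivial (ring x n) := by
    refine Ideal.Quotient.nontrivial_iff.2 fun h => ?_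
    exact (maximalIdeal.isMaximal (X.presheaf.stalk x)).ne_top (top_le_iff.1 (h ▸ Ideal.pow_le_self hn.ne'))
  refine IsClosedImmersion.of_isPreimmersion _ ?_
  convert hx
  refine Set.eq_singleton_iff_nonempty_unique_mem.2 ⟨Set.range_nonempty _, ?_⟩
  rintro _ ⟨p, rfl⟩
  exact incl_apply x n hn p

/-- The structure sheaf of the thickening. -/
abbrev thick (x : X) (n : ℕ) : X.Modules := (Coh.push (incl x n)).obj (Coh.structureModule _)

theorem isCoh_thick [IsLocallyNoetherian X] {x : X} (hx : IsClosed ({x} : Set X)) (n : ℕ) (hn : 0 < n) :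
    Coh.IsCoh (thick x n) :=
  haveI := isClosedImmersion_incl hx n hn
  haveI : IsNoetherianRing (X.presheaf.stalk x) := inferInstance
  haveI : IsNoetherianRing (ring x n) := inferInstanceAs (IsNoetherianRing ((X.presheaf.stalk x) ⧸ maximalIdeal (X.presheaf.stalk x) ^ n))
  Groth.L16.CohClosedPush.isCoh_push (incl x n) (Groth.L16.Rees.RelVanish.isCoh_structureModule _)

theorem support_thick {x : X} (hx : IsClosed ({x} : Set X)) (n : ℕ) (hn : 0 < n) :
    CohB1.support (thick x n) ⊆ {x} := fun p hp => by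
  haveI := isClosedImmersion_incl hx n hn
  obtain ⟨q, rfl⟩ := Groth.L16.CohClosedPush.support_push_subset (incl x n) _ hp
  exact incl_apply x n hn q

/-- Constants on the thickening. -/
def cst (x : X) (n : ℕ) (V : X.Opens) : ring x n →+* Γ(Spec (ring x n), incl x n ⁻¹ᵁ V) :=
  ((Scheme.ΓSpecIso (ring x n)).inv ≫ (Spec (ring x n)).presheaf.map (homOfLE le_top).op).hom

theorem app_eq_cst {x : X} {n : ℕ} {V : X.Opens} (h : x ∈ V) (r : Γ(X, V)) :
    (incl x n).app V r = cst x n V ((quot x n).hom (X.presheaf.germ V x h r)) := by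
  have h1 : (X.fromSpecStalk x).app V r = (Spec (X.presheaf.stalk x)).presheaf.map (homOfLE le_top).op
      ((Scheme.ΓSpecIso (X.presheaf.stalk x)).inv (X.presheaf.germ V x h r)) := by
    rw [Scheme.fromSpecStalk_app h]
    rfl
  show ((Spec.map (quot x n) ≫ X.fromSpecStalk x).app V) r = _
  rw [Scheme.Hom.comp_app, CommRingCat.comp_apply, h1]
  have h2 := congr($((Spec.map (quot x n)).naturality (homOfLE (le_top : X.fromSpecStalk x ⁻¹ᵁ V ≤ ⊤)).op)
    ((Scheme.ΓSpecIso (X.presheaf.stalk x)).inv (X.presheaf.germ V x h r)))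
  refine h2.trans ?_
  have h3 := congr($(Scheme.ΓSpecIso_inv_naturality (quot x n)) (X.presheaf.germ V x h r))
  show (Spec (ring x n)).presheaf.map _ ((Spec.map (quot x n)).appTop _) = _
  rw [CommRingCat.comp_apply, CommRingCat.comp_apply] at h3
  rw [← h3]
  rfl

/-- Constants as sections of the module. -/
def cstS (x : X) (n : ℕ) (V : X.Opens) : ring x n →+ Γ(thick x n, V) :=
  (_root_.OmegaSh.strSect (Spec (ring x n)) (incl x n ⁻¹ᵁ V)).comp (cst x n V).toAddMonoidHom

theorem rs_cstS (x : X) (n : ℕ) {U V : X.Opens} (h : V ≤ U) (c : ring x n) :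
    rs (thick x n) h (cstS x n U c) = cstS x n V c := by
  show (Spec (ring x n)).presheaf.map (homOfLE (Scheme.Hom.preimage_mono _ h)).op
    ((Spec (ring x n)).presheaf.map _ ((Scheme.ΓSpecIso (ring x n)).inv c)) = _
  rw [← CommRingCat.comp_apply ((Spec (ring x n)).presheaf.map _), ← Functor.map_comp]
  rfl

theorem smul_cstS {x : X} {n : ℕ} {V : X.Opens} (h : x ∈ V) (r : Γ(X, V)) (c : ring x n) :
    r • cstS x n V c = cstS x n V ((quot x n).hom (X.presheaf.germ V x h r) * c) := by
  show (incl x n).app V r * cst x n V c = cst x n V _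
  rw [app_eq_cst h, map_mul]

theorem bijective_cstS {x : X} {n : ℕ} (hn : 0 < n) {V : X.Opens} (h : x ∈ V) :
    Function.Bijective (fun c => cstS x n V c) := by
  have htop : incl x n ⁻¹ᵁ V = ⊤ := top_le_iff.1 fun p _ => show incl x n p ∈ V by rw [incl_apply x n hn]; exact h
  haveI : IsIso (homOfLE (le_top : incl x n ⁻¹ᵁ V ≤ ⊤)) :=
    ⟨homOfLE htop.ge, Subsingleton.elim _ _, Subsingleton.elim _ _⟩
  haveI : IsIso ((Scheme.ΓSpecIso (ring x n)).inv ≫
      (Spec (ring x n)).presheaf.map (homOfLE (le_top : incl x n ⁻¹ᵁ V ≤ ⊤)).op) := inferInstance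
  exact (ConcreteCategory.bijective_of_isIso ((Scheme.ΓSpecIso (ring x n)).inv ≫
      (Spec (ring x n)).presheaf.map (homOfLE (le_top : incl x n ⁻¹ᵁ V ≤ ⊤)).op))

theorem bijective_germ {x : X} {n : ℕ} (hn : 0 < n) {U : X.Opens} (hU : x ∈ U) :
    Function.Bijective ((thick x n).presheaf.germ U x hU) := by
  have hres : ∀ (U V : X.Opens) (h : V ≤ U), x ∈ V → Function.Bijective (rs (thick x n) h) := fun U V h hV =>
    (Function.Bijective.of_comp_iff _ (bijective_cstS hn (h hV))).1 (by
      have e : (fun a => rs (thick x n) h a) ∘ (fun c => cstS x n U c) = fun c => cstS x n V c :=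
        funext fun c => rs_cstS x n h c
      exact e ▸ bijective_cstS hn hV)
  refine ⟨fun a b hab => ?_, fun s => ?_⟩
  · obtain ⟨W, hW, i₁, i₂, h⟩ := TopCat.Presheaf.germ_eq (thick x n).presheaf x hU hU a b hab
    exact (hres U W i₁.le hW).1 h
  · obtain ⟨W, hW, s', rfl⟩ := (thick x n).presheaf.exists_germ_eq (x := x) s
    obtain ⟨t, ht⟩ := (hres U (U ⊓ W) inf_le_left ⟨hU, hW⟩).2 (rs (thick x n) inf_le_right s')
    refine ⟨t, ?_⟩
    rw [← Groth.L20.ModStalk.germ_rs (thick x n) inf_le_left ⟨hU, hW⟩ t, ht, Groth.L20.ModStalk.germ_rs]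

/-- The stalk of the thickening is the quotient ring. -/
theorem nonempty_stalk_iso (x : X) (n : ℕ) (hn : 0 < n) :
    Nonempty (((X.presheaf.stalk x) ⧸ maximalIdeal (X.presheaf.stalk x) ^ n) ≃ₗ[X.presheaf.stalk x]
      ((Groth.L00.Stk.F X x).obj (thick x n))) := by
  let φ : ring x n → (thick x n).presheaf.stalk x := fun c => (thick x n).presheaf.germ ⊤ x trivial (cstS x n ⊤ c)
  have hφ : Function.Bijective φ := (bijective_germ hn (U := ⊤) trivial).comp (bijective_cstS hn trivial)
  have hsmul : ∀ (r : X.presheaf.stalk x) (c : (X.presheaf.stalk x) ⧸ maximalIdeal (X.presheaf.stalk x) ^ n),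
      φ (r • c) = r • φ c := by
    intro r c
    obtain ⟨U, hU, a, rfl⟩ := TopCat.Presheaf.exists_germ_eq (F := X.presheaf) (x := x) r
    have hU' : ∀ c', φ c' = (thick x n).presheaf.germ U x hU (cstS x n U c') := fun c' => by
      refine (Groth.L20.ModStalk.germ_rs (thick x n) (le_top : U ≤ ⊤) hU _).symm.trans ?_
      exact congrArg _ (rs_cstS x n _ c')
    rw [hU', hU']
    refine Eq.trans (congrArg _ ?_) (Groth.L20.ModStalk.germ_smul (thick x n) hU a _)
    refine Eq.trans (congrArg _ ?_) (smul_cstS hU a c).symm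
    rw [Algebra.smul_def]
    rfl
  exact ⟨LinearEquiv.ofBijective
    { toFun := φ
      map_add' := fun a b => by
        show (thick x n).presheaf.germ ⊤ x trivial (cstS x n ⊤ (a + b)) = _
        rw [map_add, map_add]
      map_smul' := hsmul } hφ⟩

end Groth.L07.BvdB.ThickPoint
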