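import Groth.Agent.L29.DCoh.RpushAffine
import Groth.Agent.L29.DCoh.ClosedProj
import Groth.Agent.L29.DCoh.PCQCoh
import Groth.Agent.L29.DCoh.QCohLocal
import Groth.Agent.L29.LocFree
import Groth.Agent.L00.RpushComp
import Groth.Agent.L07.BvdB.ThickPoint
import Groth.Agent.L07.BvdB.FibreHom
import Groth.Agent.Lead.ClosedRpush
import Groth.Agent.S0017
import Groth.Agent.L10.RelPC.TensorPullMax

/-! Cohomology of a twist by a thickened point is detected after direct image. -/

set_option autoImplicit false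
set_option linter.style.haveILetI false
set_option backward.defeqAttrib.useBackward true
set_option backward.isDefEq.respectTransparency false
set_option backward.isDefEq.respectTransparency.types false

universe u

open CategoryTheory CategoryTheory.Limits CategoryTheory.Pretriangulated AlgebraicGeometry DerivedCategory

attribute [local instance] HasDerivedCategory.standard

namespace Groth.L07.BvdB.FibrePush

open Groth.L10 Groth.L29.DC Groth.L29.DC.RpushQC

variable {X S : Scheme.{u}}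

local notation "tt" => DerivedCategory.TStructure.t

/-- Affine direct images detect vanishing in each degree. -/
theorem isZero_HD_of_isZero_Rpush (f : X ⟶ S) [IsAffineHom f] [DCoh.HasRpush f] (C : DCoh.D X)
    (hC : DCoh.IsQCohD C) (k : ℤ) (h : IsZero ((homologyFunctor S.Modules k).obj ((DCoh.Rpush f).obj C))) :
    IsZero ((homologyFunctor X.Modules k).obj C) := by
  haveI := Groth.L17.PushQCoh.hasInjectiveResolutions X
  haveI := QRlim.enoughKInj X
  haveI := Groth.L17.PushQCoh.additive_push f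
  haveI : EnoughInjectives X.Modules := (ModRDer.insts X.sheaf).1
  let α := (DCoh.pushKh f).totalRightDerivedUnit DerivedCategory.Qh
    (HomotopyCategory.quasiIso X.Modules (ComplexShape.up ℤ))
  let E := C⟦k⟧
  have hzE : IsZero ((homologyFunctor S.Modules 0).obj ((DCoh.Rpush f).obj E)) :=
    h.of_iso ((homologyFunctor S.Modules 0).mapIso
      (RDerTri.nonempty_obj_shift (F := Scheme.Modules.pushforward f) α C k).some ≪≫ hShiftIso _ k 0 k (by omega))
  have hE : DCoh.IsQCohD E := fun i => isQCoh_of_iso' (hShiftIso C k i (k + i) rfl).symm (hC (k + i))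
  have hvan : ∀ (M : X.Modules), Coh.IsQCoh M → ∀ p : ℕ, (0 : ℤ) < (p : ℤ) → IsZero ((Coh.Rpush f p).obj M) :=
    fun M hM p hp => isZero_Rpush_affine f M hM p (by omega)
  haveI := isIso_H_π f 0 hvan E hE 0 0 (by simp)
  let a : ℤ := -((0 : ℕ) : ℤ)
  let Y := ((tt).truncGE a).obj E
  have hY0 : IsZero ((homologyFunctor S.Modules 0).obj ((DCoh.Rpush f).obj Y)) :=
    hzE.of_iso
      (asIso ((homologyFunctor S.Modules 0).map ((DCoh.Rpush f).map (((tt).truncGEπ a).app E)))).symm
  haveI : DerivedCategory.IsGE Y 0 := by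
    rw [DerivedCategory.isGE_iff]
    exact fun i hi => isZero_H_GE a i (by simp only [a]; omega) E
  let L := ((tt).truncLT 1).obj Y
  let R := ((tt).truncGE 1).obj Y
  haveI : DerivedCategory.IsLE L 0 := (tt).isLE_truncLT_obj _ _ _ (by omega)
  haveI : DerivedCategory.IsGE L 0 := by
    rw [DerivedCategory.isGE_iff]
    intro i hi
    have := isIso_H_ι 1 i (by omega) Y
    exact (DerivedCategory.isZero_of_isGE Y 0 i hi).of_iso
      (asIso ((homologyFunctor X.Modules i).map (((tt).truncLTι 1).app Y)))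
  haveI : DerivedCategory.IsGE R 1 := inferInstance
  obtain ⟨δ, hT⟩ := RDerTri.exists_triangle (F := Scheme.Modules.pushforward f) α _
    ((tt).triangleLTGE_distinguished 1 Y)
  have hRge := isGE_Rpush f R 1
  haveI : IsIso ((homologyFunctor S.Modules 0).map ((DCoh.Rpush f).map (((tt).truncLTι 1).app Y))) :=
    isIso_H_mor₁ _ hT 0 (DerivedCategory.isZero_of_isGE ((DCoh.Rpush f).obj R) 1 (0 - 1) (by omega))
      (DerivedCategory.isZero_of_isGE ((DCoh.Rpush f).obj R) 1 0 (by omega))
  obtain ⟨e⟩ := exists_iso_single_H L 0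
  let M := (homologyFunctor X.Modules 0).obj L
  haveI := isIso_H_ι 1 0 (by omega) Y
  haveI := L10.isIso_H_π a 0 (by simp [a]) E
  let eC : M ≅ (homologyFunctor X.Modules k).obj C :=
    asIso ((homologyFunctor X.Modules 0).map (((tt).truncLTι 1).app Y)) ≪≫
      (asIso ((homologyFunctor X.Modules 0).map (((tt).truncGEπ a).app E))).symm ≪≫ hShiftIso C k 0 k (by omega)
  refine IsZero.of_iso ?_ eC.symm
  obtain ⟨-, -, h3⟩ := RDerBound.single_H (F := Scheme.Modules.pushforward f) α 0 M 0
    (fun p hp => isZero_Rpush_affine f M (isQCoh_of_iso' eC.symm (hC k)) p hp)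
  refine isZero_of_isZero_push f M (isQCoh_of_iso' eC.symm (hC k)) ?_
  refine IsZero.of_iso ?_ (((Scheme.Modules.pushforward f).rightDerivedZeroIsoSelf.app M).symm ≪≫ (h3 0).some.symm)
  refine IsZero.of_iso ?_ ((homologyFunctor S.Modules _).mapIso ((DCoh.Rpush f).mapIso e.symm))
  exact hY0.of_iso (asIso ((homologyFunctor S.Modules 0).map ((DCoh.Rpush f).map (((tt).truncLTι 1).app Y))))

open Groth.L00 Groth.L29 Groth.L07.BvdB.ThickPoint

attribute [local instance] KFlat.hasLTensorCx

/-- Vanishing of the direct image of the twist by a thickened point gives vanishing of the twist. -/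
theorem isZero_twist {P Y T : Scheme.{u}} [IsLocallyNoetherian X] {sX : X ⟶ T} {sY : Y ⟶ T} {p1 : P ⟶ X}
    {p2 : P ⟶ Y} (sq : IsPullback p1 p2 sX sY) [IsAffine T] [DCoh.HasRpush p2] {x : X} (hx : IsClosed ({x} : Set X)) (n : ℕ) (hn : 0 < n)
    [∀ G : P.Modules, DCoh.HasLTensorMod G] (K : DCoh.D P) (hK : DCoh.IsQCohD K) (k : ℤ)
    (h : IsZero (DCoh.HD ((DCoh.Rpush p2).obj
      ((DCoh.LTensorMod ((Scheme.Modules.pullback p1).obj (thick x n))).obj K)) k)) :
    IsZero (DCoh.HD ((DCoh.LTensorMod ((Scheme.Modules.pullback p1).obj (thick x n))).obj K) k) := by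
  let i := incl x n
  haveI := isClosedImmersion_incl hx n hn
  let ι := pullback.snd i p1
  haveI : IsClosedImmersion ι := MorphismProperty.pullback_snd i p1 inferInstance
  have sq' : IsPullback (pullback.fst i p1) (ι ≫ p2) (i ≫ sX) sY :=
    (IsPullback.of_hasPullback i p1).paste_vert sq
  haveI : IsAffineHom (i ≫ sX) := inferInstance
  haveI : IsAffineHom (ι ≫ p2) := MorphismProperty.of_isPullback (P := @IsAffineHom) sq' inferInstance
  haveI := RpushQC.hasRpush ι
  haveI := RpushQC.hasRpush (ι ≫ p2)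
  haveI := ClosedPC.additive ι
  haveI := ClosedPC.exactLeft ι
  haveI := ClosedPC.exactRight ι
  haveI : Coh.IsQCoh (Coh.structureModule (Spec (ring x n))) :=
    haveI : IsNoetherianRing (X.presheaf.stalk x) := inferInstance
    haveI : IsNoetherianRing (ring x n) := inferInstanceAs (IsNoetherianRing ((X.presheaf.stalk x) ⧸ IsLocalRing.maximalIdeal (X.presheaf.stalk x) ^ n))
    (Groth.L16.Rees.RelVanish.isCoh_structureModule _).1
  obtain ⟨bc⟩ := Groth.Agent.S0017.result i p1 (pullback.fst i p1) ι (IsPullback.of_hasPullback i p1)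
    (Coh.structureModule (Spec (ring x n)))
  let eG : (Scheme.Modules.pullback p1).obj (thick x n) ≅ (Coh.push ι).obj (Coh.structureModule _) :=
    bc ≪≫ (Coh.push ι).mapIso (Groth.L29.LocFree.pullbackUnitIso (pullback.fst i p1))
  obtain ⟨Pk, q, hPk, -, hq, -⟩ := KFlat.exists_resolution (DerivedCategory.Q.objPreimage K)
  haveI := (DerivedCategory.isIso_Q_map_iff_quasiIso _ q).2 hq
  let eK : DCoh.toD P Pk ≅ K := asIso (DerivedCategory.Q.map q) ≪≫ DerivedCategory.Q.objObjPreimageIso K
  let G := (Scheme.Modules.pullback p1).obj (thick x n)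
  let Sg := (HomologicalComplex.single P.Modules (ComplexShape.up ℤ) 0).obj G
  let eS : DerivedCategory.Q.obj Sg ≅ DCoh.inD P G :=
    (((SingleFunctors.evaluation _ _ 0).mapIso
      (DerivedCategory.singleFunctorsPostcompQIso P.Modules)).app G).symm
  let Z := pullback i p1
  let OZ : DCoh.D Z := DCoh.inD Z (Coh.structureModule Z)
  obtain ⟨e₀⟩ := Groth.Lead.ClosedRpush.nonempty_Rpush_iso_pD ι OZ
  let e₁ : DCoh.inD P G ≅ (DCoh.Rpush ι).obj OZ :=
    (DerivedCategory.singleFunctor P.Modules 0).mapIso eG ≪≫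
    (e₀ ≪≫ ((Scheme.Modules.pushforward ι).mapDerivedCategorySingleFunctor 0).app (Coh.structureModule _)).symm
  obtain ⟨e₂⟩ := ClosedProj.nonempty_projection ι Pk hPk OZ
  let Pf := ((Scheme.Modules.pullback ι).mapHomologicalComplex (ComplexShape.up ℤ)).obj Pk
  haveI := BC.LTExact.isIso_cnt Pf (isKFlat_of_isStrictlyPerfect (RHom.isStrictlyPerfect_O0 (X := Z)))
  let oQ : DerivedCategory.Q.obj (RHom.O0 Z) ≅ OZ :=
    (((SingleFunctors.evaluation _ _ 0).mapIso
      (DerivedCategory.singleFunctorsPostcompQIso _)).app (Coh.structureModule _)).symm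
  haveI := KFlat.hasLpull ι
  let eL : (DCoh.LTensorCx Pf).obj OZ ≅ (DCoh.Lpull ι).obj (DCoh.toD P Pk) :=
    ((DCoh.LTensorCx Pf).mapIso oQ.symm ≪≫ asIso (BC.LTExact.cnt Pf _) ≪≫
      DerivedCategory.Q.mapIso (KFlat.commIso (RHom.O0 Z) Pf ≪≫ BC.PFNat.unitL Pf)) ≪≫
    (DerivedApi.objIso (DerivedApi.acyclicKFlat_pullback ι) Pk hPk).symm
  let N := (DCoh.Lpull ι).obj (DCoh.toD P Pk)
  let e : (DCoh.LTensorMod G).obj K ≅ (DCoh.Rpush ι).obj N :=
    (DCoh.LTensorMod G).mapIso eK.symm ≪≫
      DerivedApi.objIso (DerivedApi.acyclicKFlat_tensorMod G) Pk hPk ≪≫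
      DerivedCategory.Q.mapIso (DerivedApi.tensorModCxIso G Pk) ≪≫
      ((Assoc.allIso Pk hPk).app Sg).symm ≪≫ (DCoh.LTensorCx Pk).mapIso (eS ≪≫ e₁) ≪≫ e₂ ≪≫
      (DCoh.Rpush ι).mapIso eL
  obtain ⟨c⟩ := RpushComp.rpush_comp ι p2
  have hN : DCoh.IsQCohD N := isQCohD_Lpull ι (isQCohD_of_iso eK.symm hK)
  have hNz : IsZero ((homologyFunctor Z.Modules k).obj N) := isZero_HD_of_isZero_Rpush (ι ≫ p2) N hN k
    (h.of_iso ((homologyFunctor Y.Modules k).mapIso ((c.app N).symm ≪≫ (DCoh.Rpush p2).mapIso e.symm)))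
  obtain ⟨eN⟩ := Groth.Lead.ClosedRpush.nonempty_Rpush_iso_pD ι N
  obtain ⟨m⟩ := Groth.L10.RelPC.TensorPullMax.isLE_map (Scheme.Modules.pushforward ι) N k
  exact ((Scheme.Modules.pushforward ι).map_isZero hNz).of_iso
    ((homologyFunctor P.Modules k).mapIso (e ≪≫ eN) ≪≫ m)

end Groth.L07.BvdB.FibrePush
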