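import Groth.Agent.L07.BvdB.ThickPoint
import Groth.Agent.L29.DCoh.TorTest
import Groth.Agent.L29.DCoh.FibreLocal
import Groth.Agent.L29.K.CohSupp
import Groth.Agent.L00.PullStalk
import Groth.Agent.L16.Rees.FibreMonoEpi
import Groth.Agent.L16.NegPow.Gen
import Mathlib.RingTheory.Filtration

/-! Cohomology of a perfect object is seen on the thickenings of the fibre. -/

set_option autoImplicit false
set_option linter.style.haveILetI false
set_option backward.isDefEq.respectTransparency false
set_option backward.isDefEq.respectTransparency.types false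

universe u
open CategoryTheory CategoryTheory.Limits AlgebraicGeometry Opposite IsLocalRing TensorProduct
attribute [local instance] HasDerivedCategory.standard

noncomputable section

namespace Groth.L07.BvdB.KrullFibre

/-- Krull intersection for one spot of a complex. -/
theorem ker_le_range {B : Type u} [CommRing B] [IsLocalRing B] [IsNoetherianRing B]
    {A M C : Type u} [AddCommGroup A] [Module B A] [AddCommGroup M] [Module B M] [Module.Finite B M]
    [AddCommGroup C] [Module B C] (d : A →ₗ[B] M) (e : M →ₗ[B] C)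
    (h : ∀ n : ℕ, 0 < n → ∃ (J : Ideal B) (_ : J ≤ maximalIdeal B ^ n) (N : ModuleCat.{u} B) (g : N)
      (π : N →ₗ[B] B ⧸ J), π g = 1 ∧ Function.Exact (d.rTensor N) (e.rTensor N)) :
    LinearMap.ker e ≤ LinearMap.range d := by
  intro v hv
  rw [LinearMap.mem_ker] at hv
  let Q := LinearMap.range d
  have hmem : Q.mkQ v ∈ ⨅ n : ℕ, maximalIdeal B ^ n • (⊤ : Submodule B (M ⧸ Q)) := by
    refine Submodule.mem_iInf _ |>.2 fun n => ?_
    rcases Nat.eq_zero_or_pos n with rfl | hn
    · simp
    obtain ⟨J, hJ, N, g, π, hπ, hex⟩ := h n hn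
    obtain ⟨w, hw⟩ := (hex (v ⊗ₜ g)).1 (by rw [LinearMap.rTensor_tmul, hv, TensorProduct.zero_tmul])
    let T : M ⊗[B] N →ₗ[B] (M ⧸ J • (⊤ : Submodule B M)) :=
      (TensorProduct.tensorQuotEquivQuotSMul M J).toLinearMap.comp (π.lTensor M)
    have hT : T (v ⊗ₜ g) = Submodule.Quotient.mk v := by
      simp only [T, LinearMap.comp_apply, LinearMap.lTensor_tmul, hπ, LinearEquiv.coe_coe]
      rw [show (1 : B ⧸ J) = Ideal.Quotient.mk J 1 from rfl, TensorProduct.tensorQuotEquivQuotSMul_tmul_mk, one_smul]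
    have hin : Submodule.Quotient.mk v ∈ Submodule.map (J • (⊤ : Submodule B M)).mkQ Q := by
      rw [← hT, ← hw]
      clear hw
      induction w using TensorProduct.induction_on with
      | zero => simp only [map_zero, Submodule.zero_mem]
      | tmul a x =>
        obtain ⟨b, hb⟩ := Ideal.Quotient.mk_surjective (π x)
        refine ⟨b • d a, Q.smul_mem b ⟨a, rfl⟩, ?_⟩
        simp only [T, LinearMap.rTensor_tmul, LinearMap.comp_apply, LinearMap.lTensor_tmul, LinearEquiv.coe_coe]
        rw [← hb, TensorProduct.tensorQuotEquivQuotSMul_tmul_mk]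
        rfl
      | add a b ha hb => simp only [map_add]; exact Submodule.add_mem _ ha hb
    obtain ⟨q, hq, hqv⟩ := hin
    have hsub : v - q ∈ J • (⊤ : Submodule B M) := (Submodule.Quotient.eq _).1 hqv.symm
    have hq0 : Q.mkQ q = 0 := (Submodule.Quotient.mk_eq_zero Q).2 hq
    have hm : Q.mkQ (v - q) ∈ Submodule.map Q.mkQ (maximalIdeal B ^ n • (⊤ : Submodule B M)) :=
      Submodule.mem_map_of_mem (Submodule.smul_mono_left hJ hsub)
    rw [map_sub, hq0, sub_zero, Submodule.map_smul'', Submodule.map_top, Submodule.range_mkQ] at hm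
    exact hm
  rw [Ideal.iInf_pow_smul_eq_bot_of_isLocalRing _ (maximalIdeal.isMaximal B).ne_top, Submodule.mem_bot] at hmem
  exact (Submodule.Quotient.mk_eq_zero Q).1 hmem

open Groth.L00 Groth.L00.DerivedApi Groth.L00.TorAmp Groth.L29 Groth.L29.DC Groth.L29.DC.Fib Groth.L29.DC.TorTest Groth.L07.BvdB.ThickPoint

variable {X P : Scheme.{u}} [IsLocallyNoetherian P]

/-- The cohomology sheaf vanishes at a point if it does on all thickenings of the fibre through it. -/
theorem notMem_support (p : P ⟶ X) (K : DCoh.D P) (hK : DCoh.IsPerfect K) (z : P) (i : ℤ)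
    [∀ G : P.Modules, DCoh.HasLTensorMod G]
    (h : ∀ n : ℕ, 0 < n →
      IsZero (DCoh.HD ((DCoh.LTensorMod ((Scheme.Modules.pullback p).obj (thick (p z) n))).obj K) i)) :
    z ∉ CohB1.support (DCoh.HD K i) := by
  obtain ⟨U, j, _, Qc, r, α, hzU, hQc, hα, he⟩ := exists_model_of_perfect K hK z
  obtain ⟨u, rfl⟩ := hzU
  haveI := hα
  haveI : IsLocallyNoetherian U := LocallyOfFiniteType.isLocallyNoetherian j
  let S := Groth.L00.Stk.F U u
  haveI : Module.Finite (U.presheaf.stalk u) (S.obj (Qc.X i)) :=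
    Groth.L16.Rees.FibreMonoEpi.finite_stalk (Groth.L16.NegPow.isCoh_of_isFinLocFree (hQc.2 i)) u
  obtain ⟨Pk, q, hPk, -, hq, -⟩ := KFlat.exists_resolution (DerivedCategory.Q.objPreimage K)
  haveI := (DerivedCategory.isIso_Q_map_iff_quasiIso _ q).2 hq
  let eK : DCoh.toD P Pk ≅ K := asIso (DerivedCategory.Q.map q) ≪≫ DerivedCategory.Q.objObjPreimageIso K
  let R := Scheme.Modules.restrictFunctor j
  let eU : DCoh.toD U ((R.mapHomologicalComplex (ComplexShape.up ℤ)).obj Pk) ≅ DCoh.toD U Qc :=
    (R.mapDerivedCategoryFactors.app Pk).symm ≪≫ (DCoh.restrictD j).mapIso eK ≪≫ (asIso α).symm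
  have hker : LinearMap.ker (S.map (Qc.d i (i + 1))).hom ≤ LinearMap.range (S.map (Qc.d (i - 1) i)).hom := by
    refine ker_le_range _ _ fun n hn => ?_
    let f := j ≫ p
    let x := f u
    let φ := PullStalk.φ f u
    let J := Ideal.map φ (maximalIdeal (X.presheaf.stalk x) ^ n)
    have hJ : J ≤ maximalIdeal (U.presheaf.stalk u) ^ n := by
      refine (Ideal.map_pow φ _ n).le.trans (Ideal.pow_right_mono ?_ n)
      have hloc : IsLocalHom φ := inferInstanceAs (IsLocalHom (f.stalkMap u).hom)
      exact ((IsLocalRing.local_hom_TFAE φ).out 0 2 :).1 hloc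
    let G := (Scheme.Modules.pullback p).obj (thick (p (j u)) n)
    obtain ⟨et⟩ := nonempty_stalk_iso x n hn
    let MJ : ModuleCat.{u} (X.presheaf.stalk x) :=
      (ModuleCat.restrictScalars φ).obj (ModuleCat.of (U.presheaf.stalk u) (U.presheaf.stalk u ⧸ J))
    let one' : MJ := (1 : (U.presheaf.stalk u) ⧸ J)
    let ψ₀ : (X.presheaf.stalk x) →ₗ[X.presheaf.stalk x] MJ :=
      LinearMap.toSpanSingleton (X.presheaf.stalk x) MJ one'
    let ψ₁ : (Groth.L00.Stk.F X x).obj (thick x n) →ₗ[X.presheaf.stalk x] MJ :=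
      (Submodule.liftQ (maximalIdeal (X.presheaf.stalk x) ^ n) ψ₀ (fun a ha => by
        rw [LinearMap.mem_ker]
        show Ideal.Quotient.mk J (φ a) * 1 = 0
        rw [mul_one, Ideal.Quotient.eq_zero_iff_mem]
        exact Ideal.mem_map_of_mem φ ha)).comp et.symm.toLinearMap
    let ψ : (Groth.L00.Stk.F X x).obj (thick x n) ⟶ MJ := ModuleCat.homEquiv.symm ψ₁
    let g₀ : (Groth.L00.Stk.F X x).obj (thick x n) := et 1
    let adjE := ModuleCat.extendRestrictScalarsAdj φ
    let eG : (Groth.L00.Stk.F U u).obj (G.restrict j) ≅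
        (ModuleCat.extendScalars φ).obj ((Groth.L00.Stk.F X x).obj (thick x n)) :=
      (Groth.L00.Stk.F U u).mapIso ((Scheme.Modules.restrictFunctorIsoPullback j).app G ≪≫
        (Scheme.Modules.pullbackComp j p).app _) ≪≫ (PullStalk.stalkIso f u).app _
    let π₁ := (adjE.homEquiv _ _).symm ψ
    refine ⟨J, hJ, _, eG.inv (adjE.unit.app _ g₀), π₁.hom.comp eG.hom.hom, ?_, ?_⟩
    · show π₁ (eG.hom (eG.inv _)) = _
      rw [Iso.inv_hom_id_apply]
      have h1 := congrArg (fun m => (ConcreteCategory.hom m) g₀)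
        ((adjE.homEquiv_unit _ _ π₁).symm.trans ((adjE.homEquiv _ _).apply_symm_apply ψ))
      refine Eq.trans h1 ?_
      show ψ₁ (et 1) = one'
      simp only [ψ₁, LinearMap.comp_apply, LinearEquiv.coe_coe, LinearEquiv.symm_apply_apply]
      exact one_smul (X.presheaf.stalk x) one'
    · haveI := DerivedApi.hasLTensorMod (G.restrict j)
      refine Groth.L00.TorAmp.exact_rTensor Qc (G.restrict j) u (i - 1) i (i + 1) (by omega) rfl ?_
      have h1 := (DerivedApi.isZero_HD_iff (DerivedApi.acyclicKFlat_tensorMod G) hPk eK i).1 (h n hn)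
      have h2 : IsZero (HG (DCoh.tensorRightMod (G.restrict j))
          ((R.mapHomologicalComplex (ComplexShape.up ℤ)).obj Pk) i) :=
        (R.map_isZero h1).of_iso (HGRestrictIso j G Pk i)
      exact (DerivedApi.isZero_HD_iff (DerivedApi.acyclicKFlat_tensorMod (G.restrict j))
        (isKFlat_of_isStrictlyPerfect hQc) (Iso.refl _) i).1
        ((DerivedApi.isZero_HD_iff (DerivedApi.acyclicKFlat_tensorMod (G.restrict j))
          (isKFlat_restrict j hPk) eU i).2 h2)
  have hex' : ((Qc.sc' (i - 1) i (i + 1)).map S).Exact := by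
    rw [ShortComplex.moduleCat_exact_iff]
    intro v hv
    exact LinearMap.mem_range.1 (hker (LinearMap.mem_ker.2 hv))
  have hz : IsZero (S.obj ((Qc.sc' (i - 1) i (i + 1)).homology)) :=
    (ShortComplex.exact_iff_isZero_homology _).1 hex' |>.of_iso ((Qc.sc' (i - 1) i (i + 1)).mapHomologyIso S).symm
  have hu : u ∉ CohB1.support ((DerivedCategory.homologyFunctor U.Modules i).obj (DerivedCategory.Q.obj Qc)) := by
    let e : (DerivedCategory.homologyFunctor U.Modules i).obj (DerivedCategory.Q.obj Qc) ≅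
        (Qc.sc' (i - 1) i (i + 1)).homology := (DerivedCategory.homologyFunctorFactors U.Modules i).app Qc ≪≫
      ShortComplex.homologyMapIso (Qc.isoSc' (i - 1) i (i + 1) (by simp) (by simp))
    rw [Groth.L21.Mod.support_congr e, Groth.L21.Mod.mem_support_iff_not_isZero, not_not]
    exact ((forget₂ (ModuleCat.{u} (U.presheaf.stalk u)) AddCommGrpCat.{u}).map_isZero hz).of_iso
      ((Groth.L00.Stk.forgetIso (X := U) u).app _).symm
  intro hs
  refine hu ((Groth.L21.Mod.support_congr (((DerivedCategory.homologyFunctor U.Modules i).mapIso (asIso α)) ≪≫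
    HDResIso j K i)).symm.subset ?_)
  exact (Groth.L21.Mod.support_restrict j (DCoh.HD K i)).symm.subset hs

end Groth.L07.BvdB.KrullFibre
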