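import Groth.Agent.L07.BvdB.FibrePush
import Groth.Agent.L07.BvdB.KrullFibre
import Groth.Agent.L29.DCoh.Triangle
import Groth.Agent.L29.K.CohSupp
import Groth.Agent.L16.CohSupport
import Groth.Agent.L00.TorAmp

/-! Cohomology of a perfect object is detected after twisting by thickened points and pushing. -/

set_option autoImplicit false
set_option linter.style.haveILetI false
set_option backward.defeqAttrib.useBackward true
set_option backward.isDefEq.respectTransparency false
set_option backward.isDefEq.respectTransparency.types false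

universe u

open CategoryTheory CategoryTheory.Limits CategoryTheory.Pretriangulated AlgebraicGeometry DerivedCategory
attribute [local instance] HasDerivedCategory.standard

namespace Groth.L07.BvdB.KernelSystem

open Groth.L00 Groth.L00.TorAmp Groth.L10 Groth.L07.BvdB.ThickPoint

/-- A left derived functor on K-flat complexes sends some cone triangle to a triangle. -/
theorem exists_cone {X Y : Scheme.{u}} {G : Y.Modules ⥤ X.Modules} [G.Additive]
    [(DerivedApi.Kh G).HasLeftDerivedFunctor (HomotopyCategory.quasiIso Y.Modules (ComplexShape.up ℤ))]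
    (hG : DerivedApi.AcyclicKFlat G) {K L : DCoh.D Y} (f : K ⟶ L) :
    ∃ (C : DCoh.D Y) (g : L ⟶ C) (h : C ⟶ K⟦(1 : ℤ)⟧), Triangle.mk f g h ∈ distTriang (DCoh.D Y) ∧
      ∃ (a : (DerivedApi.LG G).obj L ⟶ (DerivedApi.LG G).obj C)
        (b : (DerivedApi.LG G).obj C ⟶ ((DerivedApi.LG G).obj K)⟦(1 : ℤ)⟧),
        Triangle.mk ((DerivedApi.LG G).map f) a b ∈ distTriang (DCoh.D X) := by
  obtain ⟨P₁, q₁, hP₁, -, hq₁, -⟩ := KFlat.exists_resolution (DerivedCategory.Q.objPreimage K)
  obtain ⟨P₂, q₂, hP₂, -, hq₂, -⟩ := KFlat.exists_resolution (DerivedCategory.Q.objPreimage L)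
  haveI := (DerivedCategory.isIso_Q_map_iff_quasiIso _ q₁).2 hq₁
  haveI := (DerivedCategory.isIso_Q_map_iff_quasiIso _ q₂).2 hq₂
  let e₁ : DCoh.toD Y P₁ ≅ K := asIso (DerivedCategory.Q.map q₁) ≪≫ DerivedCategory.Q.objObjPreimageIso K
  let e₂ : DCoh.toD Y P₂ ≅ L := asIso (DerivedCategory.Q.map q₂) ≪≫ DerivedCategory.Q.objObjPreimageIso L
  obtain ⟨R, s, hs, g', hg⟩ := DerivedCategory.right_fac (e₁.hom ≫ f ≫ e₂.inv)
  haveI := hs
  let r := (KFlat.rF Y).app R
  haveI : QuasiIso r := KFlat.quasiIso_rF R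
  haveI : IsIso (DerivedCategory.Q.map r) :=
    Localization.inverts DerivedCategory.Q (HomologicalComplex.quasiIso Y.Modules (ComplexShape.up ℤ))
      _ ((HomologicalComplex.mem_quasiIso_iff _).2 inferInstance)
  have hR : DCoh.IsKFlat ((KFlat.RF Y).obj R) := KFlat.isKFlat_RF R
  let φ : (KFlat.RF Y).obj R ⟶ P₂ := r ≫ g'
  haveI : IsIso (DerivedCategory.Q.map (r ≫ s)) := by rw [Functor.map_comp]; infer_instance
  let eR : DCoh.toD Y ((KFlat.RF Y).obj R) ≅ K := asIso (DerivedCategory.Q.map (r ≫ s)) ≪≫ e₁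
  have hsq : DerivedCategory.Q.map φ ≫ e₂.hom = eR.hom ≫ f := by
    change DerivedCategory.Q.map φ ≫ e₂.hom = (DerivedCategory.Q.map (r ≫ s) ≫ e₁.hom) ≫ f
    rw [Category.assoc]
    have : e₁.hom ≫ f = inv (DerivedCategory.Q.map s) ≫ DerivedCategory.Q.map g' ≫ e₂.hom := by
      rw [← Category.assoc, ← hg]; simp
    rw [this, Functor.map_comp, Functor.map_comp]
    simp
  obtain ⟨C, g, h, hT⟩ := Pretriangulated.distinguished_cocone_triangle f
  let eC : DCoh.toD Y (CochainComplex.mappingCone φ) ≅ C :=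
    Triangle.π₃.mapIso (isoTriangleOfIso₁₂ _ _ (DerivedCategory.mappingCone_triangle_distinguished φ) hT
      eR e₂ hsq)
  let F := G.mapHomologicalComplex (ComplexShape.up ℤ)
  let E₁ : (DerivedApi.LG G).obj K ≅ DCoh.toD X (F.obj ((KFlat.RF Y).obj R)) :=
    (DerivedApi.LG G).mapIso eR.symm ≪≫ DerivedApi.objIso hG _ hR
  let E₂ : (DerivedApi.LG G).obj L ≅ DCoh.toD X (F.obj P₂) :=
    (DerivedApi.LG G).mapIso e₂.symm ≪≫ DerivedApi.objIso hG _ hP₂
  let E₃ : (DerivedApi.LG G).obj C ≅ DCoh.toD X (CochainComplex.mappingCone (F.map φ)) :=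
    (DerivedApi.LG G).mapIso eC.symm ≪≫ DerivedApi.objIso hG _ (KFlat.isKFlat_cone φ hR hP₂) ≪≫
      DerivedCategory.Q.mapIso (CochainComplex.mappingCone.mapHomologicalComplexIso φ G)
  let T := DerivedCategory.Q.mapTriangle.obj (CochainComplex.mappingCone.triangle (F.map φ))
  have hT' : T ∈ distTriang (DCoh.D X) := DerivedCategory.mappingCone_triangle_distinguished (F.map φ)
  have nat : (DerivedApi.LG G).map (DerivedCategory.Q.map φ) ≫ (DerivedApi.objIso hG P₂ hP₂).hom =
      (DerivedApi.objIso hG _ hR).hom ≫ DerivedCategory.Q.map (F.map φ) := by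
    have n1 : DerivedCategory.Q.map φ ≫ (DerivedCategory.quotientCompQhIso Y.Modules).inv.app P₂ =
        (DerivedCategory.quotientCompQhIso Y.Modules).inv.app _ ≫
          (HomotopyCategory.quotient Y.Modules (ComplexShape.up ℤ) ⋙ DerivedCategory.Qh).map φ :=
      (DerivedCategory.quotientCompQhIso Y.Modules).inv.naturality φ
    have n2 := (DerivedApi.counit G).naturality φ
    have n3 := (DerivedApi.cxqIso G).hom.naturality φ
    simp only [DerivedApi.objIso, Iso.trans_hom, Functor.mapIso_hom, Iso.symm_hom, Iso.app_inv, asIso_hom,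
      Iso.app_hom, Category.assoc]
    rw [← Functor.map_comp_assoc, n1, Functor.map_comp_assoc]
    congr 1
    rw [← Category.assoc ((DerivedApi.LG G).map _)]
    erw [n2]
    rw [Category.assoc]
    congr 1
  refine ⟨C, g, h, hT, E₂.hom ≫ T.mor₂ ≫ E₃.inv, E₃.hom ≫ T.mor₃ ≫ E₁.inv⟦(1 : ℤ)⟧', ?_⟩
  refine isomorphic_distinguished _ hT' _ (Triangle.isoMk _ _ E₁ E₂ E₃ ?_ ?_ ?_)
  · change (DerivedApi.LG G).map f ≫ E₂.hom = E₁.hom ≫ DerivedCategory.Q.map (F.map φ)
    simp only [E₁, E₂, Iso.trans_hom, Functor.mapIso_hom, Iso.symm_hom, Category.assoc]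
    rw [← nat, ← Category.assoc, ← Category.assoc, ← Functor.map_comp, ← Functor.map_comp]
    congr 2
    rw [Iso.eq_inv_comp, ← Category.assoc, ← hsq, Category.assoc, e₂.hom_inv_id, Category.comp_id]
  · simp
  · simp [← Functor.map_comp]

/-- The third vertex has no cohomology where the first map is epi and mono one degree higher. -/
theorem isZero_H₃ {A : Type*} [Category A] [Abelian A] [HasDerivedCategory A]
    {T : Triangle (DerivedCategory A)} (hT : T ∈ distTriang _) (j : ℤ)
    (h₁ : Epi ((homologyFunctor A j).map T.mor₁)) (h₂ : Mono ((homologyFunctor A (j + 1)).map T.mor₁)) :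
    IsZero ((homologyFunctor A j).obj T.obj₃) := by
  refine (HomologySequence.exact₃ T hT j (j + 1) rfl).isZero_X₂ ?_ ?_
  · exact (HomologySequence.exact₂ T hT j).epi_f_iff.1 h₁
  · exact (HomologySequence.exact₁ T hT j (j + 1) rfl).mono_g_iff.1 h₂

/-- The first map is an isomorphism where the third vertex has no cohomology in this and the previous degree. -/
theorem isIso_H_of_isZero_H₃ {A : Type*} [Category A] [Abelian A] [HasDerivedCategory A]
    {T : Triangle (DerivedCategory A)} (hT : T ∈ distTriang _) (i : ℤ)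
    (h₁ : IsZero ((homologyFunctor A (i - 1)).obj T.obj₃)) (h₂ : IsZero ((homologyFunctor A i).obj T.obj₃)) :
    IsIso ((homologyFunctor A i).map T.mor₁) := by
  haveI : Mono ((homologyFunctor A i).map T.mor₁) :=
    (HomologySequence.exact₁ T hT (i - 1) i (by omega)).mono_g (h₁.eq_of_src _ _)
  haveI : Epi ((homologyFunctor A i).map T.mor₁) :=
    (HomologySequence.exact₂ T hT i).epi_f (h₂.eq_of_tgt _ _)
  exact isIso_of_mono_of_epi _

variable {X Y P S : Scheme.{u}} [IsLocallyNoetherian X] [IsLocallyNoetherian P]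

/-- A perfect object has no cohomology in a degree where no twist by a thickened point has after push. -/
theorem isZero_of_twists {sX : X ⟶ S} {sY : Y ⟶ S} {p1 : P ⟶ X} {p2 : P ⟶ Y}
    (sq : IsPullback p1 p2 sX sY) [IsAffine S] [DCoh.HasRpush p2] [∀ G : P.Modules, DCoh.HasLTensorMod G]
    [CompactSpace P] (hcl : ∀ z : P, IsClosed ({z} : Set P) → IsClosed ({p1 z} : Set X))
    (K : DCoh.D P) (hK : DCoh.IsPerfect K) (i : ℤ)
    (h : ∀ x : X, IsClosed ({x} : Set X) → ∀ n : ℕ, 0 < n →
      IsZero (DCoh.HD ((DCoh.Rpush p2).obj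
        ((DCoh.LTensorMod ((Scheme.Modules.pullback p1).obj (thick x n))).obj K)) i)) :
    IsZero (DCoh.HD K i) := by
  rw [Groth.L21.Mod.isZero_iff_support_eq_empty]
  by_contra hne
  obtain ⟨z, hzs, hz⟩ := (Groth.L16.CohSupport.isClosed_support _
    (Groth.L29.CohSupp.isCohD_of_perfect hK i).2).exists_closed_singleton (Set.nonempty_iff_ne_empty.2 hne)
  exact KrullFibre.notMem_support p1 K hK z i (fun n hn => FibrePush.isZero_twist sq (hcl z hz) n hn K
    (Groth.L29.DC.PCQCoh.isQCohD_of_perfect hK) i (h (p1 z) (hcl z hz) n hn)) hzs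

end Groth.L07.BvdB.KernelSystem
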