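import Groth.Agent.L07.BvdB.Transfer
import Groth.Agent.L16.ProjSpace.RelTwist
import Groth.Agent.L20.PnPic.Over
import Groth.Prelude.Def_DDual2
import Groth.Prelude.Def_Twist2

/-! Cohomology of twists on projective space over a field detects bounded coherent objects. -/

set_option autoImplicit false
set_option linter.style.haveILetI false
set_option linter.unusedSectionVars false
set_option backward.defeqAttrib.useBackward true
set_option backward.isDefEq.respectTransparency false
set_option backward.isDefEq.respectTransparency.types false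

universe u
open CategoryTheory CategoryTheory.Limits AlgebraicGeometry
attribute [local instance] HasDerivedCategory.standard

noncomputable section

namespace Groth.L07.BvdB

variable (n : ℕ) (k : Type u) [Field k]

local notation "P'" => CohB1.ProjSpaceOver n (Spec (CommRingCat.of k))
local notation "O'" => Twist.twistOver n (Spec (CommRingCat.of k))

theorem isInvertible_twistOver (d : ℤ) : PicF.IsInvertible (O' d) :=
  Groth.L18.Ample.isInvertible_pullback _ (Groth.L16.ProjTwist.isInvertible_twistProjSpace n _ d)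

theorem nonempty_inverse_over (a b : ℤ) (h : a + b = 0) :
    Nonempty (CohB1.tensorMod (O' a) (O' b) ≅ Coh.structureModule P') := by
  obtain rfl : b = -a := by omega
  exact (PicGrp.cl_eq_cl_iff _ _).1 (Groth.L20.PnPic.mul_tcl_neg n (Spec (CommRingCat.of k)) a)

theorem hflOver (d : ℤ) : FlatMod.IsFinLocFree (O' d) :=
  Groth.L16.Existence.isFinLocFree_of_isInvertible (isInvertible_twistOver n k d)

theorem fin_twist_iff (K : DCoh.D P') (d : ℤ) [DCoh.HasLTensorMod (O' d)] :
    Fin' k (DCoh.inD P' (O' (-d))) K ↔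
      Fin' k (DCoh.inD P' (Coh.structureModule P')) ((DCoh.LTensorMod (O' d)).obj K) := by
  let T := Groth.Lead.TwistEquiv.T (O' d) (hflOver n k d)
  obtain ⟨e⟩ := nonempty_inverse_over n k d (-d) (add_neg_cancel d)
  obtain ⟨e'⟩ := nonempty_inverse_over n k (-d) d (neg_add_cancel d)
  haveI : T.IsEquivalence := Groth.Lead.TwistEquiv.isEquivalence _ (hflOver n k (-d)) e e'
  let eO : T.obj (DCoh.inD P' (O' (-d))) ≅ DCoh.inD P' (Coh.structureModule P') :=
    Groth.Lead.TwistEquiv.TSingle (O' d) (hflOver n k d) (O' (-d)) ≪≫ (DerivedCategory.singleFunctor _ 0).mapIso e'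
  let eK : T.obj K ≅ (DCoh.LTensorMod (O' d)).obj K :=
    ((Groth.Lead.TwistEquiv.ltIso (O' d) (hflOver n k d)).app K).symm
  constructor
  · intro h
    refine ⟨fun m => ?_, h.2.subset fun m hm => ?_⟩
    · have := h.1 m
      exact Module.Finite.equiv ((LinearEquiv.ofBijective (T.mapLinearMap k : (DCoh.inD P' (O' (-d)) ⟶ K⟦m⟧) →ₗ[k] _)
        ((Functor.FullyFaithful.ofFullyFaithful T).map_bijective _ _)).trans
          (Linear.homCongr k eO ((T.commShiftIso m).app K ≪≫ (shiftFunctor _ m).mapIso eK)))
    · exact ((LinearEquiv.ofBijective (T.mapLinearMap k : (DCoh.inD P' (O' (-d)) ⟶ K⟦m⟧) →ₗ[k] _)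
        ((Functor.FullyFaithful.ofFullyFaithful T).map_bijective _ _)).trans
          (Linear.homCongr k eO ((T.commShiftIso m).app K ≪≫ (shiftFunctor _ m).mapIso eK))).toEquiv.nontrivial_congr.2 hm
  · exact fun h => Fin'.of_functor T ((h.of_left_iso eO.symm).of_iso eK.symm)

theorem isProper_over : IsProper (P' ↘ Spec (CommRingCat.of k)) := Groth.L16.ProjSpace.isProper_toBase n _

theorem twist_forward (K : DCoh.D P') [∀ d : ℤ, DCoh.HasLTensorMod (O' d)] (h : SGA6.cohbP P' K) (d : ℕ) :
    Fin' k (DCoh.inD P' (Coh.structureModule P')) ((DCoh.LTensorMod (O' (d : ℤ))).obj K) := by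
  haveI := isProper_over n k
  exact (fin_twist_iff n k K d).1
    (Groth.Agent.S6742.result k P' K h _ (Groth.Lead.PCProj.isPerfect_inD (hflOver n k _)))

theorem twist_backward (K : DCoh.D P') (hK : DCoh.IsQCohD K) [∀ d : ℤ, DCoh.HasLTensorMod (O' d)]
    (h : ∀ d : ℕ, d ≤ n → Fin' k (DCoh.inD P' (Coh.structureModule P')) ((DCoh.LTensorMod (O' (d : ℤ))).obj K)) :
    SGA6.cohbP P' K := by
  let j := (Groth.L16.ProjSpace.isoOver n k).inv
  refine cohb_of_fin_closed j ?_ K hK fun d hd => ((fin_twist_iff n k K d).2 (h d hd)).of_left_iso ?_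
  · change _ = CohB1.ProjSpaceOver.toBase n _
    rw [← Groth.L16.ProjSpace.isoOver_hom_toBase, Iso.inv_hom_id_assoc]
  · let e := (Groth.L16.ProjSpace.nonempty_pullback_twistOver_iso n (𝟙 (Spec (CommRingCat.of k))) (-(d : ℤ))).some
    have hid : j ≫ Groth.L20.PnPic.toPt n (𝟙 (Spec (CommRingCat.of k))) = 𝟙 _ := by
      rw [Groth.L20.PnPic.toPt, ← Category.assoc, Iso.inv_hom_id, Category.id_comp]
      exact pullback.map_id
    exact (DerivedCategory.singleFunctor _ 0).mapIso
      (((Scheme.Modules.pullback j).mapIso e.symm ≪≫ (Scheme.Modules.pullbackComp _ _).app _ ≪≫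
        (Scheme.Modules.pullbackCongr hid).app _ ≪≫ (Scheme.Modules.pullbackId _).app _)).symm

end Groth.L07.BvdB
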