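import Groth.Agent.L29.Sib.SkyInj
import Groth.Agent.L07.ConormalPoint
import Groth.Agent.L21.RR.SkyPoint
import Groth.Agent.L16.Devissage
import Groth.Agent.L19.SupportPullback
import Groth.Agent.L16.CohClosedPush
import Groth.Agent.L16.Rees.RelVanish

/-! The structure sheaf of a closed point as a skyscraper module. -/

set_option autoImplicit false
set_option linter.style.haveILetI false
set_option backward.isDefEq.respectTransparency false
set_option backward.isDefEq.respectTransparency.types false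

universe u
open CategoryTheory CategoryTheory.Limits AlgebraicGeometry TopologicalSpace Opposite IsLocalRing

noncomputable section

namespace Groth.L07.BvdB.PointSky

open Groth.L07.ConormalPoint (cst cstS rs_cstS smul_cstS cstS_eq_of_not_mem cst_eq_zero)
open Groth.L18.Frame (rs)

variable {X : Scheme.{u}}

/-- The structure sheaf of the point `x`, pushed forward. -/
abbrev pt (x : X) : X.Modules := (Coh.push (X.fromSpecResidueField x)).obj (Coh.structureModule _)

theorem bijective_cstS {x : X} {V : X.Opens} (h : x ∈ V) :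
    Function.Bijective (fun c => cstS x V c) := by
  refine ⟨fun a b hab => sub_eq_zero.1 (cst_eq_zero h (by rw [map_sub]; exact sub_eq_zero.2 hab)), fun s => ?_⟩
  have htop : X.fromSpecResidueField x ⁻¹ᵁ V = ⊤ := by
    refine top_le_iff.1 fun p _ => ?_
    show X.fromSpecResidueField x p ∈ V
    rw [Scheme.fromSpecResidueField_apply]
    exact h
  obtain ⟨c, hc⟩ : ∃ c, cst x V c = (show Γ(Spec (X.residueField x), X.fromSpecResidueField x ⁻¹ᵁ V) from s) := by
    haveI : IsIso (homOfLE (le_top : X.fromSpecResidueField x ⁻¹ᵁ V ≤ ⊤)) :=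
      ⟨homOfLE htop.ge, Subsingleton.elim _ _, Subsingleton.elim _ _⟩
    haveI : IsIso ((Scheme.ΓSpecIso (X.residueField x)).inv ≫
        (Spec (X.residueField x)).presheaf.map (homOfLE (le_top : X.fromSpecResidueField x ⁻¹ᵁ V ≤ ⊤)).op) := inferInstance
    exact (ConcreteCategory.bijective_of_isIso ((Scheme.ΓSpecIso (X.residueField x)).inv ≫
        (Spec (X.residueField x)).presheaf.map (homOfLE (le_top : X.fromSpecResidueField x ⁻¹ᵁ V ≤ ⊤)).op)).2 _
  exact ⟨c, hc⟩

theorem subsingleton_sections {x : X} {V : X.Opens} (h : x ∉ V) : Subsingleton Γ(pt x, V) :=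
  ⟨fun a b => cstS_eq_of_not_mem h a b⟩

theorem bijective_germ {x : X} {U : X.Opens} (hU : x ∈ U) :
    Function.Bijective ((pt x).presheaf.germ U x hU) := by
  have hres : ∀ (U V : X.Opens) (h : V ≤ U), x ∈ V → Function.Bijective (rs (pt x) h) := fun U V h hV =>
    (Function.Bijective.of_comp_iff _ (bijective_cstS (h hV))).1 (by
      have e : (fun a => rs (pt x) h a) ∘ (fun c => cstS x U c) = fun c => cstS x V c :=
        funext fun c => rs_cstS x h c
      exact e ▸ bijective_cstS hV)
  refine ⟨fun a b hab => ?_, fun s => ?_⟩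
  · obtain ⟨W, hW, i₁, i₂, h⟩ := TopCat.Presheaf.germ_eq (pt x).presheaf x hU hU a b hab
    exact (hres U W i₁.le hW).1 h
  · obtain ⟨W, hW, s', rfl⟩ := (pt x).presheaf.exists_germ_eq (x := x) s
    obtain ⟨t, ht⟩ := (hres U (U ⊓ W) inf_le_left ⟨hU, hW⟩).2 (rs (pt x) inf_le_right s')
    refine ⟨t, ?_⟩
    rw [← Groth.L20.ModStalk.germ_rs (pt x) inf_le_left ⟨hU, hW⟩ t, ht, Groth.L20.ModStalk.germ_rs]

/-- The stalk is the residue field. -/
theorem nonempty_stalk_iso (x : X) :
    Nonempty ((Groth.L00.Stk.F X x).obj (pt x) ≅ Groth.L21.RR.resMod x) := by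
  let φ : ResidueField (X.presheaf.stalk x) → (pt x).presheaf.stalk x := fun c =>
    (pt x).presheaf.germ ⊤ x trivial (cstS x ⊤ c)
  have hφ : Function.Bijective φ := (bijective_germ (U := ⊤) trivial).comp (bijective_cstS trivial)
  have hsmul : ∀ (r : X.presheaf.stalk x) (c : ResidueField (X.presheaf.stalk x)),
      φ (r • c) = r • φ c := by
    intro r c
    obtain ⟨U, hU, a, rfl⟩ := TopCat.Presheaf.exists_germ_eq (F := X.presheaf) (x := x) r
    have hU' : ∀ c', φ c' = (pt x).presheaf.germ U x hU (cstS x U c') := fun c' => by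
      refine (Groth.L20.ModStalk.germ_rs (pt x) (le_top : U ≤ ⊤) hU _).symm.trans ?_
      exact congrArg _ (rs_cstS x _ c')
    rw [hU', hU']
    refine Eq.trans (congrArg _ ?_) (Groth.L20.ModStalk.germ_smul (pt x) hU a _)
    refine Eq.trans (congrArg _ ?_) (smul_cstS hU a c).symm
    rw [Algebra.smul_def]
    rfl
  let e : ResidueField (X.presheaf.stalk x) ≃ₗ[X.presheaf.stalk x] (Groth.L00.Stk.F X x).obj (pt x) :=
    LinearEquiv.ofBijective
      { toFun := φ
        map_add' := fun a b => by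
          show (pt x).presheaf.germ ⊤ x trivial (cstS x ⊤ (a + b)) = _
          rw [map_add, map_add]
        map_smul' := hsmul } hφ
  exact ⟨e.toModuleIso.symm⟩

/-- The structure sheaf of a point is the skyscraper of its residue field. -/
theorem nonempty_iso_sky (x : X) : Nonempty (pt x ≅ Groth.L00.Sky.sky x (Groth.L21.RR.resMod x)) := by
  obtain ⟨e⟩ := Groth.L29.SkyInj.nonempty_iso_sky (pt x) x Set.univ
    (TopologicalSpace.Opens.isBasis_iff_nbhd.2 fun {U y} hy => ⟨U, trivial, hy, le_rfl⟩)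
    (fun U _ hU => bijective_germ hU) (fun U _ hU => subsingleton_sections hU)
  obtain ⟨s⟩ := nonempty_stalk_iso x
  exact ⟨e ≪≫ (Groth.L00.Sky.skyF x).mapIso s⟩

theorem support_pt_subset {x : X} (hx : IsClosed ({x} : Set X)) : CohB1.support (pt x) ⊆ {x} := by
  obtain ⟨e⟩ := nonempty_iso_sky x
  rw [Groth.L21.Mod.support_congr e]
  intro y hy
  by_contra hne
  exact hy (Groth.L21.RR.subsingleton_stalk_sky hx hne)

theorem isCoh_pt [IsLocallyNoetherian X] {x : X} (hx : IsClosed ({x} : Set X)) : Coh.IsCoh (pt x) := by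
  haveI : IsClosedImmersion (X.fromSpecResidueField x) := isClosed_singleton_iff_isClosedImmersion.mp hx
  haveI : IsLocallyNoetherian (Spec (X.residueField x)) :=
    LocallyOfFiniteType.isLocallyNoetherian (X.fromSpecResidueField x)
  exact Groth.L16.CohClosedPush.isCoh_push (X.fromSpecResidueField x) (Groth.L16.Rees.RelVanish.isCoh_structureModule _)

/-- Coherent modules map nonzero to the points of their support. -/
theorem exists_hom_pt [IsLocallyNoetherian X] {M : X.Modules} (hM : Coh.IsCoh M) {x : X}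
    (hx : x ∈ CohB1.support M) : ∃ f : M ⟶ pt x, f ≠ 0 := by
  obtain ⟨e⟩ := nonempty_iso_sky x
  haveI : Module.Finite (X.presheaf.stalk x) ((Groth.L00.Stk.F X x).obj M) :=
    Groth.L19.SupportPullback.finite_stalk M hM x
  haveI : Nontrivial ((Groth.L00.Stk.F X x).obj M) := not_subsingleton_iff_nontrivial.1 hx
  obtain ⟨K, hK⟩ : ∃ K : Submodule (X.presheaf.stalk x) ((Groth.L00.Stk.F X x).obj M), IsCoatom K :=
    (IsCoatomic.eq_top_or_exists_le_coatom ⊥).elim (fun h => absurd h bot_ne_top) fun ⟨K, hK, _⟩ => ⟨K, hK⟩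
  haveI : IsSimpleModule (X.presheaf.stalk x) (((Groth.L00.Stk.F X x).obj M) ⧸ K) :=
    isSimpleModule_iff_isCoatom.2 hK
  obtain ⟨J, hJ, ⟨eJ⟩⟩ := isSimpleModule_iff_quot_maximal.1
    (‹IsSimpleModule (X.presheaf.stalk x) (((Groth.L00.Stk.F X x).obj M) ⧸ K)›)
  obtain rfl : J = maximalIdeal (X.presheaf.stalk x) := IsLocalRing.eq_maximalIdeal hJ
  let α : (Groth.L00.Stk.F X x).obj M ⟶ Groth.L21.RR.resMod x := ModuleCat.ofHom (eJ.toLinearMap.comp K.mkQ)
  have hα : α ≠ 0 := fun h => hK.1 (eq_top_iff.2 fun m _ => (Submodule.Quotient.mk_eq_zero K).1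
    ((LinearEquiv.map_eq_zero_iff eJ).1 congr($(h) m)))
  let θ := (Groth.L00.Sky.adj x).homEquiv M (Groth.L21.RR.resMod x) α
  refine ⟨θ ≫ e.inv, fun h => hα (((Groth.L00.Sky.adj x).homEquiv M _).injective ?_)⟩
  have h0 : θ = 0 := by
    have := congrArg (· ≫ e.hom) h
    simpa using this
  refine h0.trans ?_
  rw [Adjunction.homEquiv_unit]
  haveI : (Groth.L00.Sky.skyF (X := X) x).Additive := (Groth.L00.Sky.adj x).right_adjoint_additive
  rw [Functor.map_zero, comp_zero]

end Groth.L07.BvdB.PointSky
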