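import Groth.Agent.Lead.TwistEquiv
import Groth.Agent.L29.BCAdj.LTLinear
import Mathlib.Algebra.Homology.DerivedCategory.Linear
import Mathlib.Algebra.Homology.DerivedCategory.ExactFunctor

/-! Twisting is linear. -/

set_option autoImplicit false
set_option linter.style.haveILetI false
set_option backward.defeqAttrib.useBackward true
set_option backward.isDefEq.respectTransparency false
set_option backward.isDefEq.respectTransparency.types false

universe u
open CategoryTheory CategoryTheory.Limits AlgebraicGeometry
attribute [local instance] HasDerivedCategory.standard

namespace Groth.L07.BvdB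

variable {k : Type u} [CommRing k] {X : Scheme.{u}} [X.Over (Spec (CommRingCat.of k))]

theorem linear_tensorRight (A : X.Modules) [(DCoh.tensorRightMod A).Additive] :
    (DCoh.tensorRightMod A).Linear k := by
  refine (Functor.linear_iff k _).mpr fun M r => ?_
  exact Groth.L29.BCAdj.tensorBi_map_smul M A r

instance linear_T (A : X.Modules) (hA : FlatMod.IsFinLocFree A) :
    (Groth.Lead.TwistEquiv.T A hA).Linear k := by
  haveI := (Groth.L16.Rees.PushExact.exact_instances hA).1
  haveI := (Groth.L16.Rees.PushExact.exact_instances hA).2
  haveI := linear_tensorRight (k := k) A
  exact inferInstanceAs ((DCoh.tensorRightMod A).mapDerivedCategory.Linear k)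

end Groth.L07.BvdB
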