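import Groth.Agent.L07.BvdB.Linear
import Groth.Agent.L07.BvdB.TwistLinear
import Groth.Agent.Lead.PCProj
import Groth.Agent.L29.BCAdj.HomVanish
import Groth.Agent.L29.BCAdj.AffineUnit
import Groth.Agent.L16.ProjSpace.Sections
import Groth.Agent.S6742
import Groth.Agent.S0844
import Groth.Prelude.Def_SGA6
import Groth.Agent.L10.WSerreLib

/-! Finite total Hom from `O, O(-1), …, O(-n)` detects bounded coherent objects on projective space. -/

set_option autoImplicit false
set_option linter.style.haveILetI false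
set_option backward.defeqAttrib.useBackward true
set_option backward.isDefEq.respectTransparency false
set_option backward.isDefEq.respectTransparency.types false

universe u
open CategoryTheory CategoryTheory.Limits CategoryTheory.Pretriangulated AlgebraicGeometry
attribute [local instance] HasDerivedCategory.standard

noncomputable section

namespace Groth.L07.BvdB

open Groth.L29.DC Groth.L29.DC.Gen Groth.Lead.PCProj

variable (n : ℕ) (k : Type u) [Field k]

/-- The structure morphism of projective space. -/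
@[reducible] def projOver : (CohB1.ProjSpace n k).Over (Spec (CommRingCat.of k)) := ⟨CohB1.ProjSpace.toSpec n k⟩

attribute [local instance] projOver

local notation "O" => Twist.twistProjSpace n k
local notation "X'" => CohB1.ProjSpace n k
local notation "π'" => CohB1.ProjSpace.toSpec n k

instance : IsProper ((CohB1.ProjSpace n k) ↘ Spec (CommRingCat.of k)) :=
  inferInstanceAs (IsProper (CohB1.ProjSpace.toSpec n k))

/-- The exceptional sequence. -/
abbrev Ex (a : ℕ) : DCoh.D X' := DCoh.inD X' (O (-(a : ℤ)))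

theorem isLocallyNoetherian_proj : IsLocallyNoetherian X' :=
  LocallyOfFiniteType.isLocallyNoetherian π'

theorem cohb_of_perfect {P : DCoh.D X'} (h : DCoh.IsPerfect P) : SGA6.cohbP X' P := by
  haveI := isLocallyNoetherian_proj n k
  haveI : CompactSpace X' := QuasiCompact.compactSpace_of_compactSpace π'
  obtain ⟨a, b, ha, hb⟩ := Groth.L29.CohSupp.exists_bounds_of_perfect h
  exact ⟨Groth.L29.CohSupp.isCohD_of_perfect h, a, b, ha, hb⟩

theorem fin_self (c a : ℕ) : Fin' k (Ex n k c) (Ex n k a) :=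
  Groth.Agent.S6742.result k X' _ (cohb_of_perfect n k (isPerfect_inD (hfl n k _))) _
    (isPerfect_inD (hfl n k _))

theorem nonempty_Tw_single (c d e : ℤ) (h : d + c = e) :
    Nonempty ((Tw n k c).obj (DCoh.inD X' (O d)) ≅ DCoh.inD X' (O e)) := by
  obtain ⟨i⟩ := Groth.L16.ProjTwist.nonempty_tensor_twist_iso_one (CohB1.polyGrading n k) (fun x => by
    obtain ⟨j, hj⟩ := Groth.L16.ProjSpace.exists_mem_basicOpen_X n k x
    exact ⟨Groth.L16.ProjSpace.Xd n k j, hj⟩) d c
  subst h
  exact ⟨Groth.Lead.TwistEquiv.TSingle (O c) (hfl n k c) (O d) ≪≫ (DerivedCategory.singleFunctor _ 0).mapIso i⟩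

section
variable [DCoh.HasRpush (CohB1.ProjSpace.toSpec n k)]

theorem hd_Rpush_twist (e : ℤ) (i : ℤ) (h : (-(n : ℤ) ≤ e ∧ e < 0) ∨ (e = 0 ∧ i ≠ 0)) :
    IsZero (DCoh.HD ((DCoh.Rpush π').obj (DCoh.inD X' (O e))) i) := by
  haveI := Groth.L17.PushQCoh.hasInjectiveResolutions X'
  haveI : HasInjectiveResolutions (ModSite.Mod (CohB1.ProjSpace n k).sheaf) := ‹HasInjectiveResolutions (CohB1.ProjSpace n k).Modules›
  haveI := QRlim.enoughKInj X'
  haveI := Groth.L17.PushQCoh.additive_push π'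
  haveI : EnoughInjectives (CohB1.ProjSpace n k).Modules := (Groth.L10.ModRDer.insts (CohB1.ProjSpace n k).sheaf).1
  haveI : Coh.IsQCoh (O e) := Groth.L21.Extend.isQCoh_of_isInvertible (Groth.L16.ProjTwist.isInvertible_twistProjSpace n k e)
  have hz : ∀ p : ℕ, ¬ (p = 0 ∧ 0 ≤ e) → IsZero ((Coh.Rpush π' p).obj (O e)) := fun p hp =>
    (Groth.Agent.Pic0.subsingleton_HH_iff π' (O e) p).1 (Groth.Agent.S0844.result k n e p hp (by omega))
  obtain ⟨h1, h2, h3⟩ := Groth.L10.RDerBound.single_H (F := Scheme.Modules.pushforward π')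
    ((DCoh.pushKh π').totalRightDerivedUnit DerivedCategory.Qh
      (HomotopyCategory.quasiIso (CohB1.ProjSpace n k).Modules (ComplexShape.up ℤ)))
    0 (O e) 0 (fun p hp => hz p (by omega))
  rcases lt_trichotomy i 0 with hi | rfl | hi
  · exact (DerivedCategory.isGE_iff _ _).1 h1 i hi
  · obtain ⟨j⟩ := h3 0
    exact (hz 0 (by omega)).of_iso j
  · exact (DerivedCategory.isLE_iff _ _).1 h2 i (by simpa using hi)

theorem hom_shift_zero (b a : ℕ) (m : ℤ) (h : (b < a ∧ a ≤ n) ∨ (a = b ∧ m ≠ 0))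
    (φ : Ex n k b ⟶ (Ex n k a)⟦m⟧) : φ = 0 := by
  refine Groth.Lead.PCProj.hom_eq_zero n k (b : ℤ)
    (Groth.L29.DC.Gen.isQCohD_shift (PCQCoh.isQCohD_of_perfect (isPerfect_inD (hfl n k _))) m) ?_ φ
  obtain ⟨e⟩ := nonempty_HD_shift n k (b : ℤ) m 0 m (by omega) (Ex n k a)
  obtain ⟨t⟩ := nonempty_Tw_single n k (b : ℤ) (-(a : ℤ)) ((b : ℤ) - a) (by omega)
  refine (hd_Rpush_twist n k ((b : ℤ) - a) m (by omega)).of_iso (e ≪≫ ?_)
  exact (DerivedCategory.homologyFunctor _ m).mapIso ((DCoh.Rpush π').mapIso t)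

end

theorem end_scalar (a : ℕ) (φ : Ex n k a ⟶ Ex n k a) : ∃ r : k, φ = r • 𝟙 (Ex n k a) := by
  obtain ⟨t⟩ := nonempty_Tw_neg n k (a : ℤ)
  obtain ⟨s, hs⟩ := (Groth.L29.BCAdj.θ_bijective X').surjective (t.inv ≫ (Tw n k (a : ℤ)).map φ ≫ t.hom)
  obtain ⟨r, rfl⟩ := (Groth.L16.ProjSpace.toGlobal_bijective (n := n) (R := k)).surjective s
  refine ⟨r, (Tw n k (a : ℤ)).map_injective ?_⟩
  rw [Functor.map_smul, CategoryTheory.Functor.map_id, ← cancel_epi t.inv, ← cancel_mono t.hom,
    Category.assoc, ← hs]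
  erw [← Groth.L29.BCAdj.θ_smul]
  simp

/-- The criterion on projective space. -/
theorem cohb_of_fin (K : DCoh.D X') (hK : DCoh.IsQCohD K)
    (h : ∀ d : ℕ, d ≤ n → Fin' k (DCoh.inD X' (O (-(d : ℤ)))) K) : SGA6.cohbP X' K := by
  haveI := isLocallyNoetherian_proj n k
  haveI := RpushQC.hasRpush π'
  refine devissage (Ex n k) n DCoh.IsQCohD (SGA6.cohbP X')
    (fun b a hb ha m φ => hom_shift_zero n k b a m (Or.inl ⟨hb, ha⟩) φ)
    (fun a _ m hm φ => hom_shift_zero n k a a m (Or.inr ⟨rfl, hm⟩) φ)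
    (fun a _ φ => end_scalar n k a φ) (fun c _ a _ => fin_self n k c a)
    (fun a _ m => isQCohD_shift (PCQCoh.isQCohD_of_perfect (isPerfect_inD (hfl n k _))) m)
    (fun T hT h₁ h₂ => isQCohD_third T hT h₁ h₂) ?_ ?_ ?_ ?_ K hK h
  · intro L hL hz
    refine Groth.Lead.TwistGenProj.isZero_of_ortho hL fun d hd m φ => ?_
    have := hz d hd (-m) (((shiftFunctorCompIsoId (DCoh.D X') m (-m) (by omega)).app (Ex n k d)).inv ≫ φ⟦-m⟧')
    rw [Preadditive.IsIso.comp_left_eq_zero] at this
    refine (shiftFunctor (DCoh.D X') (-m)).map_injective ?_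
    rw [Functor.map_zero]
    exact this
  · exact fun L hL => cohb_of_perfect n k (EvalMain.isPerfect_of_isZero hL)
  · exact fun a _ m => cohb_of_perfect n k (perfect_shift (isPerfect_inD (hfl n k _)) m)
  · rintro T hT ⟨h1, a1, b1, g1, l1⟩ ⟨h3, a3, b3, g3, l3⟩
    refine ⟨fun i => ?_, min a1 a3, max b1 b3, ?_, ?_⟩
    · haveI := (Groth.L10.WSerreLib.cohIn_isTriangulated (RpushCoh.CohP (CohB1.ProjSpace n k))).1
      obtain ⟨Z, hZ, ⟨e⟩⟩ := (WSerre.cohIn (RpushCoh.CohP (CohB1.ProjSpace n k))).ext_of_isTriangulatedClosed₂' T hT h1 h3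
      exact Groth.L16.CohSupport.isCoh_of_iso ((DerivedCategory.homologyFunctor _ i).mapIso e.symm) (hZ i)
    · haveI : DerivedCategory.TStructure.t.IsGE T.obj₁ a1 := g1
      haveI : DerivedCategory.TStructure.t.IsGE T.obj₃ a3 := g3
      exact DerivedCategory.TStructure.t.isGE₂ T hT (min a1 a3)
        (DerivedCategory.TStructure.t.isGE_of_ge _ (min a1 a3) a1 (min_le_left _ _))
        (DerivedCategory.TStructure.t.isGE_of_ge _ (min a1 a3) a3 (min_le_right _ _))
    · haveI : DerivedCategory.TStructure.t.IsLE T.obj₁ b1 := l1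
      haveI : DerivedCategory.TStructure.t.IsLE T.obj₃ b3 := l3
      exact DerivedCategory.TStructure.t.isLE₂ T hT (max b1 b3)
        (DerivedCategory.TStructure.t.isLE_of_le _ b1 (max b1 b3) (le_max_left _ _))
        (DerivedCategory.TStructure.t.isLE_of_le _ b3 (max b1 b3) (le_max_right _ _))

end Groth.L07.BvdB
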