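import Groth.Agent.L07.BvdB.Proj
import Groth.Agent.L16.Chow.Affine
import Mathlib.AlgebraicGeometry.IdealSheaf.Functorial

/-! A compactified graph of an immersion of an affine open into projective space. -/

set_option autoImplicit false
set_option linter.style.haveILetI false

universe u
open CategoryTheory CategoryTheory.Limits AlgebraicGeometry

noncomputable section

namespace Groth.L07.BvdB.RegModel

variable {k : Type u} [Field k] {X : Scheme.{u}} [X.Over (Spec (CommRingCat.of k))]
  [IsProper (X ↘ Spec (CommRingCat.of k))]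

theorem exists_model (U : X.Opens) (hU : IsAffineOpen U) :
    ∃ (n : ℕ) (Z : Scheme.{u}) (p : Z ⟶ X) (q : Z ⟶ CohB1.ProjSpace n k)
      (V : (CohB1.ProjSpace n k).Opens) (j : U.toScheme ⟶ Z) (i : U.toScheme ⟶ V.toScheme),
      IsProper p ∧ IsProper q ∧
      p ≫ (X ↘ Spec (CommRingCat.of k)) = q ≫ CohB1.ProjSpace.toSpec n k ∧
      IsClosedImmersion i ∧ i ≫ V.ι = j ≫ q ∧ j ≫ p = U.ι ∧
      ∃ _ : IsOpenImmersion j, q ⁻¹ᵁ V ≤ j.opensRange := by
  let s := X ↘ Spec (CommRingCat.of k)
  haveI : IsAffine U.toScheme := hU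
  haveI : IsLocallyNoetherian X := LocallyOfFiniteType.isLocallyNoetherian s
  let φ : CommRingCat.of k ⟶ Γ(X, U) := (Scheme.ΓSpecIso (CommRingCat.of k)).inv ≫ s.appLE ⊤ U le_top
  have hφ : φ.hom.FiniteType := by
    have h1 : (s.appLE ⊤ U le_top).hom.FiniteType := s.finiteType_appLE (isAffineOpen_top _) hU le_top
    exact h1.comp (RingHom.FiniteType.of_surjective _
      (Scheme.ΓSpecIso (CommRingCat.of k)).commRingCatIsoToRingEquiv.symm.surjective)
  obtain ⟨n, e, he, hes⟩ := Groth.L16.Chow.exists_immersion_Spec φ hφ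
  let π := CohB1.ProjSpace.toSpec n k
  let e' : U.toScheme ⟶ CohB1.ProjSpace n k := hU.isoSpec.hom ≫ e
  have he' : e' ≫ π = U.ι ≫ s := by
    have h2 := (isAffineOpen_top (Spec (CommRingCat.of k))).SpecMap_appLE_fromSpec s hU le_top
    rw [IsAffineOpen.fromSpec_top, Scheme.isoSpec_Spec_inv] at h2
    simp only [e', π, φ, Category.assoc, hes, Spec.map_comp]
    rw [h2, ← Category.assoc, hU.isoSpec_hom_fromSpec]
  haveI : IsProper π := inferInstanceAs (IsProper (CohB1.ProjSpace.toSpec n k))
  let γ : U.toScheme ⟶ pullback s π := pullback.lift U.ι e' he'.symm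
  have hγ₂ : γ ≫ pullback.snd s π = e' := pullback.lift_snd _ _ _
  haveI : IsImmersion γ :=
    haveI : IsImmersion (γ ≫ pullback.snd s π) := by rw [hγ₂]; infer_instance
    IsImmersion.of_comp γ (pullback.snd s π)
  haveI : QuasiCompact γ :=
    haveI : QuasiCompact (γ ≫ pullback.fst s π) := by rw [pullback.lift_fst]; infer_instance
    QuasiCompact.of_comp γ (pullback.fst s π)
  let V := e'.coborderRange
  refine ⟨n, γ.image, γ.imageι ≫ pullback.fst s π, γ.imageι ≫ pullback.snd s π, V, γ.toImage,
    e'.liftCoborder, inferInstance, inferInstance, ?_, inferInstance, ?_, ?_, inferInstance, ?_⟩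
  · simp only [Category.assoc]; rw [pullback.condition]
  · rw [e'.liftCoborder_ι, γ.toImage_imageι_assoc, hγ₂]
  · rw [γ.toImage_imageι_assoc, pullback.lift_fst]
  · intro z hz
    let W : (pullback s π).Opens := pullback.snd s π ⁻¹ᵁ V
    have hW : γ.imageι z ∈ W := hz
    have hγW : Set.range γ ⊆ W := by
      rintro _ ⟨x, rfl⟩
      change pullback.snd s π (γ x) ∈ V
      rw [← Scheme.Hom.comp_apply, hγ₂, ← e'.liftCoborder_ι, Scheme.Hom.comp_apply]
      exact (e'.liftCoborder x).2
    let γW : U.toScheme ⟶ W.toScheme := IsOpenImmersion.lift W.ι γ (by simpa using! hγW)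
    haveI : IsClosedImmersion γW := by
      haveI : IsClosedImmersion (γW ≫ (pullback.snd s π ∣_ V)) := by
        have : γW ≫ (pullback.snd s π ∣_ V) = e'.liftCoborder := by
          rw [← cancel_mono V.ι, Category.assoc, morphismRestrict_ι, IsOpenImmersion.lift_fac_assoc,
            hγ₂, e'.liftCoborder_ι]
        rw [this]; infer_instance
      exact IsClosedImmersion.of_comp γW (pullback.snd s π ∣_ V)
    have hcl : IsClosed (Set.range γW) := γW.isClosedEmbedding.isClosed_range
    have hmem : γ.imageι z ∈ closure (Set.range γ) := by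
      rw [← γ.support_ker]
      exact (Scheme.IdealSheafData.range_subschemeι γ.ker).le ⟨z, rfl⟩
    have hr : Set.range γ = W.ι '' Set.range γW := by
      rw [← Set.range_comp]
      exact congrArg Set.range (funext fun x => by
        rw [Function.comp_apply, ← Scheme.Hom.comp_apply, IsOpenImmersion.lift_fac])
    have hin : (⟨γ.imageι z, hW⟩ : W) ∈ closure (Set.range γW) := by
      have hi := W.ι.isOpenEmbedding.isInducing
      rw [hi.closure_eq_preimage_closure_image]
      show W.ι ⟨γ.imageι z, hW⟩ ∈ closure (W.ι '' Set.range γW)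
      rw [← hr]
      exact hmem
    rw [hcl.closure_eq] at hin
    obtain ⟨x, hx⟩ := hin
    refine ⟨x, γ.imageι.isEmbedding.injective ?_⟩
    rw [← Scheme.Hom.comp_apply, γ.toImage_imageι]
    calc γ x = (γW ≫ W.ι) x := by rw [IsOpenImmersion.lift_fac]
      _ = W.ι (γW x) := Scheme.Hom.comp_apply _ _ _
      _ = γ.imageι z := congrArg W.ι hx

end Groth.L07.BvdB.RegModel
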